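import Cfsg.Agent.INV.HL.RedB
import Cfsg.Agent.CLAS.SLBasic
import Cfsg.Agent.SPOR.GraphIso
import Cfsg.Agent.S0813
import Cfsg.Agent.SIG.PComp

/-! S3139: the model `Aut(L₃(3))` and the action on the 2-component. Notation: `x ^ g = g⁻¹ * x * g`, `~` is conjugacy in `G`. Definitions: `HL/Defs`. -/

set_option autoImplicit false
open Subgroup

namespace CL.HL

namespace RA

open CL.MSS CL.PComp Matrix

theorem center_bot : center SL33 = ⊥ := by
  rw [← card_eq_one, CL.SL.card_center_SL]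
  simp

noncomputable def psl : ProjectiveSpecialLinearGroup (Fin 3) (ZMod 3) ≃* SL33 :=
  (QuotientGroup.quotientMulEquivOfEq center_bot).trans QuotientGroup.quotientBot

theorem conj_inj : Function.Injective (MulAut.conj : SL33 →* MulAut SL33) :=
  (injective_iff_map_eq_one _).2 fun _ h => mem_bot.1 (center_bot ▸ mem_center_iff.2 fun x =>
    (mul_inv_eq_iff_eq_mul.1 (DFunLike.congr_fun h x)).symm)

theorem card_SL : Nat.card SL33 = 5616 := by
  have := CL.SL.card_SL_mul (F := ZMod 3) 3 (by norm_num)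
  rw [ZMod.card, Fin.prod_univ_three] at this
  have e : (3 ^ 3 - 3 ^ ((0 : Fin 3) : ℕ)) * (3 ^ 3 - 3 ^ ((1 : Fin 3) : ℕ)) * (3 ^ 3 - 3 ^ ((2 : Fin 3) : ℕ)) =
    11232 := by decide
  have e' : 2 * Nat.card SL33 = _ := this.trans e
  omega

theorem card_aut : Nat.card (MulAut SL33) = 11232 := by
  rw [← Nat.card_congr (MulAut.congr psl).toEquiv, Cfsg.Agent.S0813.result 3 1 le_rfl (ZMod.card 3) 3 (by decide) (by decide),
    CL.SL.card_PGL_eq_card_SL, card_SL]
  rfl

theorem tr_mul (x y : SL33) : (x * y).transpose = y.transpose * x.transpose := Subtype.ext (transpose_mul x.1 y.1)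

theorem tr_inv (x : SL33) : x⁻¹.transpose = x.transpose⁻¹ :=
  eq_inv_of_mul_eq_one_right (by rw [← tr_mul, inv_mul_cancel]; exact Subtype.ext transpose_one)

def σ : MulAut SL33 where
  toFun x := x.transpose⁻¹
  invFun x := x.transpose⁻¹
  left_inv x := by simp only [tr_inv, inv_inv]; rfl
  right_inv x := by simp only [tr_inv, inv_inv]; rfl
  map_mul' x y := by rw [tr_mul, _root_.mul_inv_rev]

theorem σ_conj {g h : SL33} (e : g.transpose * h = 1) : σ * MulAut.conj g = MulAut.conj h * σ := by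
  ext1 x
  rw [MulAut.mul_apply, MulAut.mul_apply, MulAut.conj_apply, MulAut.conj_apply, map_mul, map_mul, map_inv,
    show σ g = h from inv_eq_of_mul_eq_one_right e]

def c : SL33 := ⟨!![-1, -1, 0; 1, -1, 0; 0, 0, -1], by rw [det_fin_three]; decide⟩
def d : SL33 := ⟨!![1, 0, 0; 0, -1, 0; 0, 0, -1], by rw [det_fin_three]; decide⟩
def ρ : SL33 := ⟨!![0, 1, 0; 0, 0, 1; 1, 0, 0], by rw [det_fin_three]; decide⟩

theorem exists_ind {H X : Type*} [Group H] [Group X] (L : Subgroup H) [L.Normal] (φ : L →* X) (hφ : Function.Surjective φ)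
    (hk : ∀ (h : H) (l : L), φ l = 1 → φ (MulAut.conjNormal h l) = 1) :
    ∃ π : H →* MulAut X, ∀ h l, π h (φ l) = φ (MulAut.conjNormal h l) := by
  have key : ∀ (h : H) l, φ (MulAut.conjNormal h (Function.surjInv hφ (φ l))) = φ (MulAut.conjNormal h l) := fun h l => by
    rw [← mul_inv_eq_one, ← map_inv, ← map_mul, ← map_inv, ← map_mul]
    exact hk _ _ (by rw [map_mul, map_inv, Function.surjInv_eq hφ, mul_inv_cancel])
  let : MulDistribMulAction H X :=
    { smul := fun h x => φ (MulAut.conjNormal h (Function.surjInv hφ x))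
      one_smul := fun x => by
        obtain ⟨l, rfl⟩ := hφ x
        exact (key 1 l).trans (by rw [map_one]; rfl)
      mul_smul := fun a b x => by
        obtain ⟨l, rfl⟩ := hφ x
        refine (key _ l).trans (Eq.symm ((key a _).trans ?_))
        rw [map_mul, MulAut.mul_apply, ← key a, ← key a (MulAut.conjNormal b l), key b]
      smul_mul := fun a x y => by
        obtain ⟨l, rfl⟩ := hφ x
        obtain ⟨m, rfl⟩ := hφ y
        change φ _ = φ _ * φ _
        rw [← map_mul φ l, key, key, key, map_mul, map_mul]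
      smul_one := fun a => by
        change φ _ = _
        rw [← map_one φ, key, map_one] }
  exact ⟨MulDistribMulAction.toMulAut H X, key⟩

end RA

open RA CL.MSS CL.PComp

/-- Proof. `SL33` has trivial centre, so it is `PSL₃(3)`; `S0813` (`p = 3, f = 1, n = 3`) gives
`|Aut| = 2 |PGL₃(3)| = 11232 = 32 · 351`, `|Inn| = 5616`. Matrices (rows): `d = diag(1, -1, -1)`,
`c = [[-1, -1, 0], [1, -1, 0], [0, 0, -1]]` (so `c ^ 4 = diag(-1, -1, 1)`, `d c d = c³`,
`d c² = -P₁₂`), `ρ` the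
cyclic permutation matrix with `ρ⁻¹ c ^ 4 ρ = d`, `σ : x ↦ (x⁻¹)ᵀ`; check the relations by
`decide`. `σ` is not inner: `g` inducing it commutes with `d, c ^ 4` (so is diagonal) and with
`ρ` (so is scalar, `g = 1`), but `σ c ≠ c`. -/
theorem exists_mo : Nonempty (Mo (MulAut SL33) (MulAut.conj : SL33 →* MulAut SL33).range) := by
  have σσ : σ * σ = 1 := MulEquiv.ext σ.left_inv
  have k : ∀ {x y : SL33}, x.1 = y.1 → MulAut.conj x = MulAut.conj y := fun h => congrArg _ (Subtype.ext h)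
  refine ⟨⟨MulAut.conj c, MulAut.conj d, MulAut.conj ρ, σ, ⟨_, rfl⟩, ⟨_, rfl⟩, ⟨_, rfl⟩, ?_, ?_, ?_, ?_, ?_, ?_, σσ, ?_,
    σ_conj (by decide), σ_conj (by decide), ?_, ?_, ?_, ?_, by rw [card_aut]; norm_num⟩⟩
  · rintro ⟨g, e⟩
    have h1 : g * c * g⁻¹ = c ^ 5 := (DFunLike.congr_fun e c).trans (inv_eq_of_mul_eq_one_right (by decide))
    have h2 : (g.1 * c.1 * (g⁻¹).1).trace = (c ^ 5).1.trace := congrArg (fun x : SL33 => x.1.trace) h1
    rw [Matrix.trace_mul_cycle, show (g⁻¹).1 * g.1 = 1 from congrArg Subtype.val (inv_mul_cancel g), one_mul] at h2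
    exact absurd h2 (by decide)
  · have := (MulAut.conj : SL33 →* MulAut SL33).range.index_mul_card
    rw [card_aut, ← Nat.card_congr (MonoidHom.ofInjective conj_inj).toEquiv, card_SL] at this
    exact Nat.eq_of_mul_eq_mul_right (show 0 < 5616 by norm_num) (this.trans (by norm_num))
  · rw [← map_mul, show d * d = 1 by decide, map_one]
  · rw [← map_pow, show c ^ 8 = 1 by decide, map_one]
  · rw [← map_pow, ← map_one MulAut.conj, conj_inj.ne_iff]; decide
  · rw [← map_pow, ← map_mul, ← map_mul, show d * c * d = c ^ 3 by decide]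
  · rw [σ_conj (h := c ^ 5) (by decide), mul_assoc, σσ, mul_one, map_pow]
  · rw [mul_assoc, inv_mul_eq_iff_eq_mul, ← map_pow, ← map_mul, ← map_mul, show c ^ 4 * ρ = ρ * d by decide]
  · rw [mul_assoc, inv_mul_eq_iff_eq_mul, ← map_pow, ← map_mul, ← map_mul, ← map_mul, show d * ρ = ρ * (d * c ^ 4) by decide]
  · rw [← map_pow, show ρ ^ 3 = 1 by decide, map_one]
  · rw [← map_pow, ← map_mul, ← map_mul, ← map_pow, show (d * c ^ 2 * ρ) ^ 2 = 1 by decide, map_one]

/-- The action of `H` on `L / O(L)`.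
Proof. `H̄ = H / O(H)`, `L̄` the image of `L`, a component of `H̄`; `O(L) = L ⊓ O(H)` (`L` is
subnormal), so `L̄ ≅ L / O(L) ≅ PSL₃(F) ≅ SL33`. If `L ^ h` has the same image as `L` then
`L ^ h = L` (API in `SIG/PComp`, `SIG/PCompIn`; both are `O^{2'}` of the common preimage
commutator). If `L̄ ^ h ≠ L̄`, the two components commute; a Sylow 2-subgroup `P` of `L ^ h`
normalises `L`, acts trivially on `L / O(L)`, so is cyclic by `hc`, but it maps onto a Sylow
2-subgroup of `SL33`, which contains a four-group. So `L` is normal. `π` is the conjugation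
action on `L / O(L)` transported to `SL33`; `L ⊓ ker π = O(L)` (trivial centre). -/
theorem exists_act {H : Type*} [Group H] [Finite H] (L : Subgroup H) (hL : Cfsg.IsPComponent 2 L)
    {F : Type*} [Field F] [Fintype F] (hF3 : Fintype.card F = 3)
    (hLX : Nonempty ((↥L ⧸ Cfsg.oddCore ↥L) ≃* Matrix.ProjectiveSpecialLinearGroup (Fin 3) F))
    (hc : ∀ P : Subgroup H, IsPGroup 2 ↥P →
      (∀ g ∈ P, ∀ l ∈ L, ∃ o ∈ Cfsg.oddCore ↥L, g * l * g⁻¹ = l * o) → IsCyclic ↥P) :
    ∃ π : H →* MulAut SL33, L.Normal ∧ L.map π = (MulAut.conj : SL33 →* MulAut SL33).range ∧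
      Odd (Nat.card ↥(L ⊓ π.ker)) ∧ (∀ h, (∀ l ∈ L, Commute h l) → π h = 1) ∧
      ∀ P : Subgroup H, P ≤ π.ker → IsPGroup 2 P → IsCyclic P := by
  obtain ⟨e⟩ := hLX
  obtain ⟨φ, hφ, hk⟩ : ∃ φ : L →* SL33, Function.Surjective φ ∧ ∀ l, φ l = 1 ↔ l ∈ Cfsg.oddCore L := by
    let e' := e.trans ((CL.Graph.pslCongr (ZMod.ringEquivOfPrime F Nat.prime_three hF3).symm).trans psl)
    exact ⟨e'.toMonoidHom.comp (QuotientGroup.mk' _), e'.surjective.comp (QuotientGroup.mk'_surjective _), fun l =>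
      e'.map_eq_one_iff.trans (QuotientGroup.eq_one_iff l)⟩
  have hN : L.Normal := normal_of_cj fun g => by_contra fun hne => by
    obtain ⟨M⟩ := exists_mo
    obtain ⟨P, hP⟩ := exists_sylIn 2 (⊤ : Subgroup L)
    have h1 := hc (g •ᶜ P.map L.subtype) ((hP.pgroup.map _).map _) fun x hx l hl => by
      obtain ⟨o, ho, e⟩ := (hL.commutator_le_of_ne (hL.conj g) (Ne.symm hne)
        (commutator_mem_commutator (inv_mem hl) (cj_mono g (map_subtype_le P) hx))).1
      exact ⟨o, ho, by rw [show (o : H) = _ from e, commutatorElement_def]; group⟩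
    have h2 : IsCyclic P := @isCyclic_of_surjective _ _ _ _ _ h1 _ _ _ ((P.equivMapOfInjective _ L.subtype_injective).trans
      ((MulAut.conj g).subgroupMap _)).symm.surjective
    have h3 := hP.map (MulAut.conj.comp φ)
    rw [← map_map ⊤, map_top_of_surjective φ hφ, ← MonoidHom.range_eq_map] at h3
    have h4 : IsCyclic (P.map (MulAut.conj.comp φ)) := isCyclic_of_surjective _ (MonoidHom.subgroupMap_surjective _ P)
    obtain ⟨x, -, hx⟩ := h3.exists_conj_le (RB.sylD M).1.pgroup (RB.sylD M).1.le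
    have h5 := congrArg Subtype.val (h4.isMulCommutative.is_comm.comm
      (⟨_, hx (conj_mem_cj (subset_closure (Set.mem_insert M.d _)))⟩ : P.map (MulAut.conj.comp φ))
      ⟨_, hx (conj_mem_cj (subset_closure (Set.mem_insert_of_mem _ (Set.mem_singleton M.c))))⟩)
    have h6 : M.d * M.c = M.c * M.d := by simpa [mul_assoc] using congrArg (fun y => x⁻¹ * y * x) h5
    have h7 := M.dc
    rw [h6, mul_assoc, M.dd, mul_one, pow_succ', left_eq_mul] at h7
    exact M.c4 (by rw [show 4 = 2 * 2 from rfl, pow_mul, h7, one_pow])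
  obtain ⟨π, hπ⟩ := exists_ind L φ hφ fun h l hl => (hk _).2
    ((characteristic_iff_le_comap.1 (CL.pPrimeCore_characteristic 2 L) _) ((hk l).1 hl))
  have hl : ∀ l : L, π l = MulAut.conj (φ l) := fun l => MulEquiv.ext fun x => by
    obtain ⟨m, rfl⟩ := hφ x
    rw [hπ, MulAut.conj_apply, ← map_inv, ← map_mul, ← map_mul]
    rfl
  refine ⟨π, hN, le_antisymm ?_ ?_, ?_, fun h hh => MulEquiv.ext fun x => ?_, fun P hP h2 => hc P h2 fun g hg l hl => ?_⟩
  · rintro _ ⟨l, h, rfl⟩
    exact ⟨_, (hl ⟨l, h⟩).symm⟩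
  · rintro _ ⟨x, rfl⟩
    obtain ⟨l, rfl⟩ := hφ x
    exact ⟨l, l.2, hl l⟩
  · refine Odd.of_dvd_nat (Nat.coprime_two_right.1 (CL.coprime_card_pPrimeCore 2 L)) ?_
    rw [← card_map_of_injective L.subtype_injective]
    exact card_dvd_of_le fun x hx => ⟨⟨x, hx.1⟩, (hk _).1 (conj_inj ((hl ⟨x, hx.1⟩).symm.trans
      (hx.2.trans (map_one _).symm))), rfl⟩
  · obtain ⟨l, rfl⟩ := hφ x
    exact (hπ h l).trans (congrArg φ (Subtype.ext (mul_inv_eq_iff_eq_mul.2 (hh l l.2).eq)))
  · refine ⟨⟨l, hl⟩⁻¹ * MulAut.conjNormal g ⟨l, hl⟩, (hk _).1 ?_, by simp⟩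
    rw [map_mul, map_inv, ← hπ, show π g = 1 from hP hg, MulAut.one_apply, inv_mul_cancel]

end CL.HL
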