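import Cfsg.Agent.INV.HL.LA2a
import Cfsg.Agent.INV.ThompsonTransfer

/-! STUB (S3139, captain h73). Keep the statements verbatim; helper files `INV/HL/LA3a.lean`, ... are
welcome. Notation: `x ^ g = g⁻¹ * x * g`, `~` is conjugacy in `G`. Definitions: `HL/Defs`. -/

set_option autoImplicit false
set_option maxRecDepth 100000
set_option synthInstance.maxSize 2000
open Subgroup

namespace CL.HL.Jm

variable {G : Type*} [Group G] [Finite G]

/-- A set on which `f` has fibres inside left cosets of `H`. -/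
theorem card_le_cover {ι : Type*} [Finite ι] (S : Set G) (H : Subgroup G) (f : S → ι)
    (h : ∀ s s' : S, f s = f s' → (s : G)⁻¹ * s' ∈ H) :
    Nat.card S ≤ Nat.card ι * Nat.card H := by
  rcases isEmpty_or_nonempty S with h0 | h0
  · simp
  have hr : ∀ s, f (Function.invFun f (f s)) = f s := fun s => Function.invFun_eq ⟨s, rfl⟩
  rw [← Nat.card_prod]
  refine Nat.card_le_card_of_injective (fun s => (f s, ⟨_, h _ s (hr s)⟩)) fun s s' e => ?_
  simp only [Prod.mk.injEq, Subtype.mk.injEq] at e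
  obtain ⟨e1, e2⟩ := e
  rw [e1] at e2
  exact Subtype.ext (mul_left_cancel e2)

theorem exists_ext {C : Subgroup G} {u : G} (uu : u * u = 1) (hc : ∀ c ∈ C, Commute u c)
    (hn : u ∉ C) : ∃ X : Subgroup G, (∀ x, x ∈ X ↔ x ∈ C ∨ x * u ∈ C) ∧
      Nat.card X = 2 * Nat.card C := by
  have ui := inv_of_sq uu
  have h1 : ∀ x, x * u ∈ C → Commute u x := fun x hx => by
    have := (hc _ hx).mul_right (Commute.refl u)
    rwa [mul_assoc, uu, mul_one] at this
  let X : Subgroup G :=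
    { carrier := {x | x ∈ C ∨ x * u ∈ C}
      one_mem' := Or.inl C.one_mem
      mul_mem' := by
        rintro x y (hx | hx) (hy | hy)
        · exact Or.inl (mul_mem hx hy)
        · exact Or.inr (by rw [mul_assoc]; exact mul_mem hx hy)
        · exact Or.inr (by rw [mul_assoc, ← (hc y hy).eq, ← mul_assoc]; exact mul_mem hx hy)
        · refine Or.inl ?_
          have := mul_mem hx hy
          rwa [mul_assoc, ← mul_assoc u, (h1 y hy).eq, mul_assoc, uu, mul_one] at this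
      inv_mem' := by
        rintro x (hx | hx)
        · exact Or.inl (inv_mem hx)
        · exact Or.inr (by
            have := inv_mem hx
            rwa [← (h1 x hx).eq, mul_inv_rev, ui] at this) }
  refine ⟨X, fun _ => Iff.rfl, ?_⟩
  have hle : C ≤ X := fun x hx => Or.inl hx
  have h2 : C.relIndex X = 2 := by
    refine relIndex_eq_two_iff.2 ⟨u, Or.inr (by rw [uu]; exact C.one_mem), fun b hb => ?_⟩
    rcases hb with hb | hb
    · exact Or.inr ⟨hb, fun h => hn ((C.mul_mem_cancel_left hb).1 h)⟩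
    · exact Or.inl ⟨hb, fun h => hn ((C.mul_mem_cancel_left h).1 hb)⟩
  have h3 := (C.subgroupOf X).index_mul_card
  rw [Nat.card_congr (subgroupOfEquivOfLe hle).toEquiv] at h3
  rw [← h3, ← h2]
  rfl

omit [Finite G] in
theorem mem_cen {u g : G} : g ∈ centralizer {u} ↔ Commute u g := by
  rw [mem_centralizer_singleton_iff]
  exact ⟨fun h => h.symm, fun h => h.symm⟩

end CL.HL.Jm

namespace CL.HL.JD

open Jm
open scoped commutatorElement

variable {G : Type*} [Group G] [Finite G] {L : LA G} {J : JD L} {u g j c : G}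

variable (J) in
theorem card_J : Nat.card J.JJ = 16 * Nat.card J.Z := by
  let φ : J.JJ →* Multiplicative V := MonoidHom.mk' (fun j => Multiplicative.ofAdd (J.cl j))
    fun j k => by rw [coe_mul, J.cl_mul j.2 k.2, ofAdd_add]
  have h1 : φ.ker = J.Z.subgroupOf J.JJ := by
    ext j
    rw [MonoidHom.mem_ker, mem_subgroupOf, J.memZ_iff j.2]
    exact ofAdd_eq_one
  have h2 : φ.range = ⊤ := MonoidHom.range_eq_top.2 fun v => by
    obtain ⟨j, hj, h⟩ := J.cl_surj v.toAdd
    exact ⟨⟨j, hj⟩, congrArg Multiplicative.ofAdd h⟩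
  have h3 := φ.ker.index_mul_card
  rw [index_ker, h2, h1, Nat.card_congr (subgroupOfEquivOfLe
    (show J.Z ≤ J.JJ from fun _ h => J.memZ h)).toEquiv, card_top, Nat.card_eq_fintype_card] at h3
  rw [← h3]
  rfl

variable (J) in
theorem card_Z : Nat.card J.Z ≤ 16 := by
  have h1 := J.card
  have h2 := L.card
  change _ = 4 * Nat.card J.Z at h1
  omega

theorem T1.swapA' (H : J.T1) (hg : g ∈ normalizer (J.JJ : Set G))
    (hn : g ∉ normalizer (L.A : Set G)) : ∀ a ∈ L.A, g * a * g⁻¹ ∈ J.A' :=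
  (H.mapA hg le_sup_left L.el J.a1A fun h => J.na.1 h.2).resolve_left
    fun h => hn (mem_normalizer_fintype h)

theorem T1.swapB' (H : J.T1) (hg : g ∈ normalizer (J.JJ : Set G))
    (hn : g ∉ normalizer (L.A : Set G)) : ∀ b ∈ J.A', g * b * g⁻¹ ∈ L.A := by
  refine (H.mapA hg le_sup_right J.el' J.b1A fun h => J.nb.1 h.1).resolve_right fun h => J.na.1 ?_
  obtain ⟨a, ha, b, hb, h1⟩ := J.dec (J.conj_mem (inv_mem hg) J.a1J)
  have := mul_mem (H.swapA' hg hn a ha) (h b hb)
  rwa [conj_mul, ← h1, show g * (g⁻¹ * J.a1 * g⁻¹⁻¹) * g⁻¹ = J.a1 by group] at this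

theorem T1.card_S (H : J.T1) (hn : (J.S : Subgroup G) ≤ normalizer (J.JJ : Set G)) :
    Nat.card (J.S : Subgroup G) ≤ 1024 := by
  classical
  have h1 := card_le_cover ((J.S : Subgroup G) : Set G)
    ((J.S : Subgroup G) ⊓ normalizer (L.A : Set G))
    (fun s => decide ((s : G) ∈ normalizer (L.A : Set G))) fun s s' e => by
      refine mem_inf.2 ⟨mul_mem (inv_mem s.2) s'.2, ?_⟩
      rw [decide_eq_decide] at e
      by_cases h : (s : G) ∈ normalizer (L.A : Set G)
      · exact mul_mem (inv_mem h) (e.1 h)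
      · refine mem_normalizer_fintype fun a ha => ?_
        have := H.swapB' (inv_mem (hn s.2)) (fun h' => h (inv_mem_iff.1 h')) _
          (H.swapA' (hn s'.2) (fun h' => h (e.2 h')) a ha)
        rwa [show (s : G)⁻¹ * (s' * a * (s' : G)⁻¹) * (s : G)⁻¹⁻¹ =
          (s : G)⁻¹ * s' * a * ((s : G)⁻¹ * s')⁻¹ by group] at this
  have h2 := card_le_cover (((J.S : Subgroup G) ⊓ normalizer (L.A : Set G) : Subgroup G) : Set G)
    J.JJ (fun s => decide ((s : G) ∈ J.JJ)) fun s s' e => by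
      rw [decide_eq_decide] at e
      by_cases h : (s : G) ∈ J.JJ
      · exact mul_mem (inv_mem h) (e.1 h)
      · have k1 := (J.nS s s.2.1 s.2.2).resolve_left h
        have k2 := (J.nS s' s'.2.1 s'.2.2).resolve_left fun h' => h (e.2 h')
        have := J.conj_mem J.t_nJ (mul_mem (inv_mem k1) k2)
        rwa [show L.t * (((s : G) * L.t)⁻¹ * (s' * L.t)) * L.t⁻¹ = (s : G)⁻¹ * s' by group] at this
  have h3 := J.card_J
  have h4 := J.card_Z
  rw [Nat.card_eq_fintype_card (α := Bool), Fintype.card_bool] at h1 h2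
  simp only [SetLike.coe_sort_coe] at h1 h2
  omega

theorem T2.card_S (H : J.T2) (hn : (J.S : Subgroup G) ≤ normalizer (J.JJ : Set G)) :
    Nat.card (J.S : Subgroup G) ≤ 128 * Nat.card J.Z := by
  choose s p q hp using fun g : ((J.S : Subgroup G) : Set G) => H.pat (hn g.2)
  have h1 := card_le_cover ((J.S : Subgroup G) : Set G) J.JJ (fun g => (s g, p g, q g))
    fun g g' e => by
      simp only [Prod.mk.injEq] at e
      have k1 := hp g
      have k2 := hp g'
      rw [← e.1, ← e.2.1, ← e.2.2] at k2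
      have m : (g : G)⁻¹ * g' ∈ (J.S : Subgroup G) := mul_mem (inv_mem g.2) g'.2
      obtain ⟨s', p', q', k3⟩ := H.pat (hn m)
      have k4 := k1.mul k3 (hn m)
      rw [mul_inv_cancel_left] at k4
      have k5 := k4.uniq k2
      refine J.mem_of_pat m (hn m) k3 ?_
      revert k5
      cases s g <;> cases p g <;> cases q g <;> cases s' <;> cases p' <;> cases q' <;>
        decide +kernel
  have h3 := J.card_J
  simp only [SetLike.coe_sort_coe, Nat.card_prod, Nat.card_eq_fintype_card (α := Bool),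
    Fintype.card_bool] at h1
  omega

omit [Finite G] in
theorem T2.comm_z1 (H : J.T2) (hg : g ∈ normalizer (J.JJ : Set G)) {s p q : Bool}
    (h : J.Pat g (act s p q)) : Commute (J.zz (1, 0)) g ↔ s = false := by
  have h1 := H.conj_zz hg h (e0 + e1)
  rw [show qq (e0 + e1) = (1, 0) by decide, mul_inv_eq_iff_eq_mul] at h1
  rw [Commute, SemiconjBy, h1, mul_left_inj]
  refine ⟨fun h2 => ?_, fun h2 => ?_⟩
  · have := H.zz_inj h2
    revert this
    cases s <;> cases p <;> cases q <;> decide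
  · subst h2
    congr 1
    cases p <;> cases q <;> decide

omit [Finite G] in
theorem inv_comm' (g : G) (uu : u * u = 1) : u * ⁅g, u⁆ * u⁻¹ = ⁅g, u⁆⁻¹ := by
  rw [commutatorElement_inv, commutatorElement_def, commutatorElement_def, inv_of_sq uu,
    mul_assoc, mul_assoc (g * u * g⁻¹), uu]
  group

omit [Finite G] in
theorem comm_eq_comm {g' : G} (h : ⁅g, u⁆ = ⁅g', u⁆) : Commute u (g⁻¹ * g') := by
  rw [commutatorElement_def, commutatorElement_def, mul_left_inj] at h
  calc u * (g⁻¹ * g') = g⁻¹ * (g * u * g⁻¹) * g' := by group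
    _ = _ := by rw [h]; group

/-- Counting through the commutators with `u`. -/
theorem card_le_comm (hu : u ∈ normalizer (J.JJ : Set G)) (uu : u * u = 1) (X : Subgroup G)
    (W : Finset V) (h : ∀ g ∈ X, ⁅g, u⁆ ∈ J.JJ ∧ J.cl ⁅g, u⁆ ∈ W) :
    Nat.card X ≤ W.card * Nat.card ↥(J.Z ⊓ centralizer {u}) *
      Nat.card ↥(X ⊓ centralizer {u}) := by
  let I : Set G := {c | c ∈ J.JJ ∧ u * c * u⁻¹ = c⁻¹ ∧ J.cl c ∈ W}
  have h1 := card_le_cover (X : Set G) (X ⊓ centralizer {u})
    (fun g => (⟨⁅(g : G), u⁆, (h g g.2).1, inv_comm' _ uu, (h g g.2).2⟩ : I)) fun g g' e =>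
      mem_inf.2 ⟨mul_mem (inv_mem g.2) g'.2, mem_cen.2 (comm_eq_comm (congrArg Subtype.val e))⟩
  have h2 := card_le_cover I (J.Z ⊓ centralizer {u}) (fun c => (⟨J.cl c, c.2.2.2⟩ : W))
    fun c c' e => by
      have e' : J.cl c = J.cl c' := congrArg Subtype.val e
      have hz : (c : G)⁻¹ * c' ∈ J.Z := by
        rw [J.memZ_iff (mul_mem (inv_mem c.2.1) c'.2.1), J.cl_mul (inv_mem c.2.1) c'.2.1,
          J.cl_inv c.2.1, e']
        generalize J.cl c' = v
        revert v
        decide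
      refine mem_inf.2 ⟨hz, mem_cen.2 ?_⟩
      rw [Commute, SemiconjBy, ← mul_inv_eq_iff_eq_mul, ← conj_mul, conj_inv.symm, c.2.2.1,
        c'.2.2.1, ← inv_of_sq (J.elZ hz), mul_inv_rev, inv_inv]
      have := (J.cen hz c.2.1).eq
      rw [← mul_assoc, mul_inv_cancel, one_mul] at this
      calc (c : G) * (c' : G)⁻¹ = (c' : G)⁻¹ * (c' * c) * (c' : G)⁻¹ := by group
        _ = (c' : G)⁻¹ * (c * ((c : G)⁻¹ * c' * c)) * (c' : G)⁻¹ := by group
        _ = _ := by rw [this]; group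
  simp only [SetLike.coe_sort_coe, Nat.card_eq_fintype_card (α := W), Fintype.card_coe] at h1 h2
  exact h1.trans (Nat.mul_le_mul_right _ h2)

theorem T2.no_conj (H : J.T2) (hn : (J.S : Subgroup G) ≤ normalizer (J.JJ : Set G))
    (hZ : Nat.card J.Z = 16) (hS : 2048 ≤ Nat.card (J.S : Subgroup G)) (hu : u ∈ J.S)
    (uu : u * u = 1) (lc : Lc u) (hc : Commute (J.zz (1, 0)) u) : False := by
  have hJ := J.card_J
  have uN := hn hu
  have ext : ∀ C ≤ J.Z, (∀ c ∈ C, Commute u c) → u ∉ C → ∃ X : Subgroup G,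
      (∀ x, x ∈ X ↔ x ∈ C ∨ x * u ∈ C) ∧ Nat.card X = 2 * Nat.card C ∧ (∀ x ∈ X, x * x = 1) ∧
        u ∈ X ∧ ∀ y, Commute u y → (∀ c ∈ C, Commute c y) → ∀ x ∈ X, Commute x y := by
    intro C hC h1 h2
    obtain ⟨X, hX, hX'⟩ := exists_ext uu h1 h2
    refine ⟨X, hX, hX', fun x hx => ?_, (hX u).2 (Or.inr (uu ▸ one_mem _)), ?_⟩
    · rcases (hX x).1 hx with h | h
      · exact J.elZ (hC h)
      · have h3 := J.elZ (hC h)
        rwa [mul_assoc, (h1 _ h).eq, mul_assoc x u u, uu, mul_one] at h3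
    · intro y h3 h4 x hx
      rcases (hX x).1 hx with h | h
      · exact h4 x h
      · have := (h4 _ h).mul_left h3
        rwa [mul_assoc, uu, mul_one] at this
  by_cases uJ : u ∈ J.JJ
  · by_cases uZ : u ∈ J.Z
    · have h1 := lc.rk L.A L.el fun x hx => J.cen uZ (J.memA hx)
      have h2 := J.card
      change _ = 4 * Nat.card J.Z at h2
      omega
    · obtain ⟨X, -, h1, h2, h3, h4⟩ := ext J.Z le_rfl (fun c hc => (J.cen hc uJ).symm) uZ
      have h5 := lc.rk X h2 fun x hx =>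
        (h4 u (Commute.refl u) (fun c hc => J.cen hc uJ) x hx).symm
      omega
  obtain ⟨s, p, q, hp⟩ := H.pat uN
  obtain rfl := (H.comm_z1 uN hp).1 hc
  obtain ⟨X, hX, h1, h2, h3, h4⟩ := ext (J.Z ⊓ centralizer {u}) inf_le_left
    (fun c hc => mem_cen.1 hc.2) fun h => uJ (J.memZ h.1)
  have h5 := lc.rk X h2 fun x hx =>
    (h4 u (Commute.refl u) (fun c hc => (mem_cen.1 hc.2).symm) x hx).symm
  have h6 := card_le_comm uN uu J.Z {0} fun g hg => by
    obtain ⟨k1, k2⟩ := J.cl_comm uN hp (J.memZ hg)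
    refine ⟨k1, ?_⟩
    rw [k2, J.cl_Z hg]
    cases p <;> cases q <;> decide
  have h7 : Nat.card ↥(J.Z ⊓ centralizer {u}) ∣ 2 ^ 4 := by
    rw [show 2 ^ 4 = 16 from rfl, ← hZ]
    exact card_dvd_of_le inf_le_left
  have h8 : Nat.card ↥(J.Z ⊓ centralizer {u}) = 4 ∨ Nat.card ↥(J.Z ⊓ centralizer {u}) = 8 := by
    obtain ⟨k, hk, h7⟩ := (Nat.dvd_prime_pow Nat.prime_two).1 h7
    rw [hZ, h7] at h6
    rw [h1, h7] at h5
    rw [h7]
    interval_cases k <;> simp_all
  have one : ∀ W : Finset V, W.card = 2 → (∀ v, v + act false p q v ∈ W) → False := by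
    intro W hW hW'
    have k1 := card_le_comm uN uu J.JJ W fun g hg => by
      obtain ⟨k1, k2⟩ := J.cl_comm uN hp hg
      exact ⟨k1, k2 ▸ hW' _⟩
    obtain ⟨Y, hY, k2⟩ := exists_ext (C := J.JJ ⊓ centralizer {u}) uu (fun c hc => mem_cen.1 hc.2)
      fun h => uJ h.1
    have k3 : IsPGroup 2 Y := J.S.isPGroup'.to_le fun y hy => by
      rcases (hY y).1 hy with h | h
      · exact J.JS h.1
      · exact ((J.S : Subgroup G).mul_mem_cancel_right hu).1 (J.JS h.1)
    have k4 : ∀ y ∈ Y, ∀ x ∈ X, Commute x y := fun y hy => by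
      rcases (hY y).1 hy with h | h
      · exact h4 y (mem_cen.1 h.2) fun c hc => J.cen hc.1 h.1
      · intro x hx
        have := (h4 _ (mem_cen.1 h.2) (fun c hc => J.cen hc.1 h.1) x hx).mul_right
          (h4 u (Commute.refl u) (fun c hc => (mem_cen.1 hc.2).symm) x hx)
        rwa [mul_assoc, uu, mul_one] at this
    rcases h8 with h8 | h8
    · have := lc.c8 X Y h2 (by omega) h3 k3 k4
      rw [h8, hW] at k1
      omega
    · have := lc.c16 X Y h2 (by omega) h3 k3 k4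
      rw [h8, hW] at k1
      omega
  cases p <;> cases q
  · exact uJ (J.mem_of_pat hu uN hp (by decide))
  · exact one {0, e2 + e3} (by decide) (by decide)
  · exact one {0, e0 + e1} (by decide) (by decide)
  have k1 := card_le_comm uN uu J.S {0, e0 + e1, e2 + e3, e0 + e1 + (e2 + e3)} fun g hg => by
    have m : ⁅g, u⁆ ∈ (J.S : Subgroup G) :=
      mul_mem (mul_mem (mul_mem hg hu) (inv_mem hg)) (inv_mem hu)
    obtain ⟨s, p, q, k1⟩ := H.pat (hn hg)
    obtain ⟨s', p', q', k2⟩ := H.pat (hn (inv_mem hg))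
    have k3 := k1.mul k2 (hn (inv_mem hg))
    rw [mul_inv_cancel] at k3
    have k4 := k3.uniq (J.pat_id (one_mem _))
    have k5 := ((k1.mul hp uN).mul k2 (hn (inv_mem hg))).mul hp uN
    rw [show g * u * g⁻¹ * u = ⁅g, u⁆ by rw [commutatorElement_def, inv_of_sq uu]] at k5
    have k6 := J.mem_of_pat m (hn m) k5 (by
      revert k4
      cases s <;> cases p <;> cases q <;> cases s' <;> cases p' <;> cases q' <;> decide +kernel)
    refine ⟨k6, ?_⟩
    have k7 := hp _ k6
    rw [inv_comm' g uu, J.cl_inv k6] at k7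
    revert k7
    generalize J.cl ⁅g, u⁆ = v
    revert v
    decide
  have k2 : ({0, e0 + e1, e2 + e3, e0 + e1 + (e2 + e3)} : Finset V).card = 4 := by decide
  have k3 : IsPGroup 2 ((J.S : Subgroup G) ⊓ centralizer {u} : Subgroup G) :=
    J.S.isPGroup'.to_le inf_le_left
  rcases h8 with h8 | h8
  · have := lc.b64 _ k3 fun y hy => mem_cen.1 hy.2
    rw [h8, k2] at k1
    omega
  · have := lc.n16 X _ h2 (by omega) h3 k3 (fun y hy => mem_cen.1 hy.2) fun y hy => by
      have yc : Commute u y := mem_cen.1 hy.2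
      have key : ∀ c ∈ J.Z ⊓ centralizer {u}, y * c * y⁻¹ ∈ J.Z ⊓ centralizer {u} := fun c hc =>
        mem_inf.2 ⟨J.conj_memZ (hn hy.1) hc.1,
          mem_cen.2 ((yc.mul_right (mem_cen.1 hc.2)).mul_right yc.inv_right)⟩
      refine mem_normalizer_fintype fun x hx => (hX _).2 (((hX x).1 hx).imp (key x) fun h => ?_)
      have := key _ h
      rwa [mul_assoc, mul_assoc x, yc.inv_right.eq, ← mul_assoc, ← mul_assoc] at this
    rw [h8, k2] at k1
    omega

end CL.HL.JD

namespace CL.HL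
variable {G : Type*} [Group G] [Finite G] {L : LA G}

/-- The end of Lemma A.
Basics: `Z0 = A ⊓ A' = Z(J)`, `|J| = 4 |A| = 16 |Z0|`, `J / Z0 = ⟨a1, a2, b1, b2⟩` elementary,
commutators lie in `Z0` and are bilinear, `(a b)² = ⁅a, b⁆`; `|N_S(A)| = 8 |A|` (`nS`).
First type (`ty` left): the involutions of `J` lie in `A ∪ A'` and `C_J(a) = A` for
`a ∈ A \ Z0`, so `S` permutes `{A, A'}` and `|S| ≤ 16 |A| ≤ 1024`.
Second type: `z1 = ⁅a1, b2⁆`, `z2 = ⁅a2, b1⁆`. `S` permutes the four classes `a1, b2, a2, b1`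
modulo `Z0` (involutions whose centraliser in `J` has index 2) keeping the pairs `{a1, b2}`,
`{a2, b1}`; an element fixing the four classes normalises `A`, so lies in `J`. So
`|S| ≤ 8 |J| = 32 |A| ≤ 2048`. If `2 ^ 11 ∣ |G|`, then `|A| = 64`, `|Z0| = 16`, `|S| = 2048`.
`M = C_S(z1)` has index 2 in `S` (`t` swaps `z1, z2`). By
`CL.ThompsonTransfer.index_two_or_conj` it suffices to show that no `u ~ t` lies in `M`. Use
`L.lc u`. If `u ∈ J`, `u` lies in an elementary abelian subgroup of order 64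
(`A`, `A'`, `⟨Z0, a1, b1⟩`, `⟨Z0, a2, b2⟩`), against `rk`. So `u ∉ J` swaps one or both pairs.
`C = C_Z0(u)`, `X = C ⊔ ⟨u⟩` is elementary of order `2 |C| ≤ 16` (`rk`), and `|C| ≥ 4`
(`w ↦ ⁅w, u⁆` maps `Z0` to `C` with kernel `C`). Let `Ju = {j ∈ J | ⁅j, u⁆ ∈ Z0}`;
`j ↦ ⁅j, u⁆` is a homomorphism `Ju → C` with kernel `C_J(u)`.
One pair: `|Ju| = 128`, `|C_J(u)| ≥ 128 / |C|`, and `C_J(u) ⊔ ⟨u⟩` (order `2 |C_J(u)|`)
centralises `X`: `|C| = 8` gives order `≥ 32 > 16` (`c16`), `|C| = 4` order `≥ 64 > 32` (`c8`).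
Both pairs: all `S`-conjugates of `u` swap both pairs, so lie in `u J`; `u j` is an involution
iff `u` inverts `j`; then `j ∈ Ju = R = ⟨r1, r2⟩ Z0`, `ri = ⁅ai, u⁆` (inverted by `u`, `R`
abelian), so `j ∈ {1, r1, r2, r1 r2} C`: at most `4 |C|` involutions. Hence
`|C_S(u)| ≥ 2048 / (4 |C|)`: `|C| = 4` gives `≥ 128 > 64` (`b64`); `|C| = 8` gives `≥ 64`, but
`C_S(u)` normalises `Z0` and so `X` (order 16): `≤ 32` by `n16`. -/
theorem JD.fin (J : JD L)
    (hn : (J.S : Subgroup G) ≤ normalizer ((L.A ⊔ J.A' : Subgroup G) : Set G)) : Concl G := by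
  by_cases h11 : 2 ^ 11 ∣ Nat.card G
  swap
  · exact Or.inl h11
  have h1 := Nat.le_of_dvd Nat.card_pos (J.S.pow_dvd_card_of_pow_dvd_card h11)
  change 2 ^ 11 ≤ Nat.card (J.S : Subgroup G) at h1
  rcases J.ty' with H | H
  · have := H.card_S hn
    omega
  have h2 := H.card_S hn
  have h3 := J.card_Z
  refine Or.inr ⟨fun h12 => ?_, ?_⟩
  · have h4 := Nat.le_of_dvd Nat.card_pos (J.S.pow_dvd_card_of_pow_dvd_card h12)
    change 2 ^ 12 ≤ Nat.card (J.S : Subgroup G) at h4
    omega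
  have hM : ((J.S : Subgroup G) ⊓ centralizer {J.zz (1, 0)}).relIndex J.S = 2 := by
    refine relIndex_eq_two_iff.2 ⟨L.t, J.tS, fun b hb => ?_⟩
    obtain ⟨s, p, q, hp⟩ := H.pat (hn hb)
    have k1 := H.comm_z1 (hn hb) hp
    have k2 := H.comm_z1 (s := !s) (p := p) (q := q) (hn (mul_mem hb J.tS))
      ((hp.mul J.pat_t J.t_nJ).congr (by cases s <;> cases p <;> cases q <;> decide +kernel))
    rw [mem_inf, mem_inf, Jm.mem_cen, Jm.mem_cen, k1, k2]
    cases s
    · exact Or.inr ⟨⟨hb, rfl⟩, by simp⟩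
    · exact Or.inl ⟨⟨mul_mem hb J.tS, rfl⟩, by simp⟩
  rcases CL.ThompsonTransfer.index_two_or_conj J.S inf_le_left hM L.tt with ⟨M, -, h, -⟩ | ⟨g, hg⟩
  · exact ⟨M, h⟩
  · exact (H.no_conj hn (by omega) h1 hg.1 (by rw [conj_mul, L.tt]; simp)
      (L.lc _ (isConj_iff.2 ⟨g, rfl⟩)) (Jm.mem_cen.1 hg.2)).elim

end CL.HL
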