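import Cfsg.Agent.INV.HL.Mo
import Cfsg.Agent.TECH.SylIn
import Cfsg.Agent.TECH.MiscSyl
import Cfsg.Agent.SOLV.Core

/-! S3139: lifting the model to the centraliser. Notation: `x ^ g = g⁻¹ * x * g`, `~` is conjugacy in `G`. Definitions: `HL/Defs`. -/

set_option autoImplicit false
open Subgroup

namespace CL.HL

namespace RB

open CL.MSS

section
variable {A : Type*} [Group A]

theorem eq_one_of_odd {x : A} (h : Odd (orderOf x)) {k : ℕ} (hk : x ^ 2 ^ k = 1) : x = 1 :=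
  orderOf_eq_one_iff.1 (Nat.Coprime.eq_one_of_dvd (Nat.Coprime.pow_right k (Nat.coprime_two_right.2 h))
    (orderOf_dvd_of_pow_eq_one hk))

theorem pg_inv {x : A} (h : x * x = 1) : IsPGroup 2 (zpowers x) := by
  rintro ⟨_, n, rfl⟩
  refine ⟨1, Subtype.ext ?_⟩
  change (x ^ n) ^ 2 ^ 1 = 1
  rw [pow_one, ← zpow_natCast, ← zpow_mul, mul_comm, zpow_mul, zpow_natCast, pow_two, h, one_zpow]

theorem norm_of [Finite A] {X : Subgroup A} {x : A} (h : ∀ a ∈ X, x * a * x⁻¹ ∈ X) : x ∈ normalizer (X : Set A) :=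
  mem_normalizer_of_cj_le (cj_le_iff.2 fun a ha => mem_cj.2 (by simpa using h a ha))

theorem card_lt [Finite A] {X Y : Subgroup A} (hY : IsPGroup 2 Y) (h : X < Y) {k : ℕ} (hk : 2 ^ k ≤ Nat.card X) :
    2 ^ (k + 1) ≤ Nat.card Y := by
  obtain ⟨n, hn⟩ := IsPGroup.iff_card.1 hY
  have h1 : Nat.card X < Nat.card Y := lt_of_le_of_ne (card_le_of_le h.le) fun e => h.ne (eq_of_le_of_card_ge h.le e.ge)
  rw [hn] at h1 ⊢
  exact Nat.pow_le_pow_right two_pos ((Nat.pow_lt_pow_iff_right one_lt_two).1 (hk.trans_lt h1))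

theorem syl_of [Finite A] {X Y : Subgroup A} (hX : IsPGroup 2 X) (h : X ≤ Y) {k : ℕ} (hk : 2 ^ k ≤ Nat.card X)
    (hY : ¬ 2 ^ (k + 1) ∣ Nat.card Y) : SylIn 2 X Y := by
  refine ⟨h, hX, fun Q hQ h1 h2 => by_contra fun hne => hY ?_⟩
  have h3 := card_lt hQ (lt_of_le_of_ne h1 (Ne.symm hne)) hk
  obtain ⟨n, hn⟩ := IsPGroup.iff_card.1 hQ
  refine (pow_dvd_pow 2 ((Nat.pow_le_pow_iff_right one_lt_two).1 (hn ▸ h3))).trans (hn ▸ card_dvd_of_le h2)

theorem chi {X : Subgroup A} (h : X.index = 2) [DecidablePred (· ∈ X)] (a b : A) :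
    (if a * b ∈ X then (0 : ZMod 2) else 1) = (if a ∈ X then 0 else 1) + if b ∈ X then 0 else 1 := by
  rw [if_congr (mul_mem_iff_of_index_two h) rfl rfl]
  by_cases ha : a ∈ X <;> by_cases hb : b ∈ X <;> simp [ha, hb]
  rfl

/-- adjusting an element that normalises `E` modulo a normal subgroup of odd order -/
theorem adj [Finite A] {E O : Subgroup A} [O.Normal] (hE : IsPGroup 2 E) (hO : Odd (Nat.card O)) {g : A}
    (hg : ∀ x ∈ E, g⁻¹ * x * g ∈ E ⊔ O) : ∃ o ∈ O, ∀ x ∈ E, (g * o)⁻¹ * x * (g * o) ∈ E := by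
  have h1 : SylIn 2 E (E ⊔ O) := ⟨le_sup_left, hE, fun Q hQ h1 h2 => le_antisymm (fun x hx => by
    obtain ⟨e, he, o, ho, rfl⟩ := mem_sup_of_normal_right.1 (h2 hx)
    obtain ⟨k, hk⟩ := hQ ⟨o, (mul_mem_cancel_left (h1 he)).1 hx⟩
    rw [eq_one_of_odd (hO.of_dvd_nat (O.orderOf_dvd_natCard ho)) (congrArg Subtype.val hk), mul_one]
    exact he) h1⟩
  obtain ⟨x, hx, e⟩ := h1.exists_conj_le (R := g⁻¹ •ᶜ E) (hE.map _) (by
    rintro _ ⟨y, hy, rfl⟩
    simpa using hg y hy)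
  obtain ⟨a, ha, o, ho, rfl⟩ := mem_sup_of_normal_right.1 hx
  refine ⟨o⁻¹, inv_mem ho, fun y hy => ?_⟩
  have := mul_mem (mul_mem (inv_mem ha) (e ⟨_, ⟨y, hy, rfl⟩, rfl⟩)) ha
  simpa [mul_assoc] using this

variable [Finite A] {I : Subgroup A} (M : Mo A I)

theorem sylD : SylIn 2 (closure {M.d, M.c}) I ∧ 2 ^ 4 ≤ Nat.card (closure ({M.d, M.c} : Set A)) := by
  have hd : M.d⁻¹ = M.d := inv_eq_of_mul_eq_one_right M.dd
  have o8 : orderOf M.c = 2 ^ 3 := orderOf_eq_prime_pow (p := 2) (n := 2) M.c4 M.c8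
  have p1 : IsPGroup 2 (zpowers M.c) := IsPGroup.of_card (by rw [Nat.card_zpowers, o8])
  have e : closure ({M.d, M.c} : Set A) = zpowers M.c ⊔ zpowers M.d := by
    rw [Set.pair_comm, Set.insert_eq, Subgroup.closure_union, ← zpowers_eq_closure, ← zpowers_eq_closure]
  have p2 : IsPGroup 2 (closure ({M.d, M.c} : Set A)) := e ▸ p1.to_sup_of_normal_left' (pg_inv M.dd) (zpowers_le.2 (norm_of (by
    rintro _ ⟨n, rfl⟩
    rw [← conj_zpow, hd, M.dc]
    exact zpow_mem (pow_mem (mem_zpowers _) 3) n)))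
  have l : 2 ^ 4 ≤ Nat.card (closure ({M.d, M.c} : Set A)) := card_lt p2 (X := zpowers M.c)
    (lt_of_le_of_ne (e ▸ le_sup_left) fun e' => by
      obtain ⟨n, hn⟩ : M.d ∈ zpowers M.c := e' ▸ subset_closure (by simp)
      have h1 : M.d * M.c = M.c * M.d := by rw [← hn]; exact (Commute.refl M.c).zpow_left n
      have h2 := M.dc
      rw [h1, mul_assoc, M.dd, mul_one, pow_succ', left_eq_mul] at h2
      exact M.c4 (by rw [show 4 = 2 * 2 from rfl, pow_mul, h2, one_pow])) (by rw [Nat.card_zpowers, o8])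
  refine ⟨syl_of p2 ((closure_le _).2 (by rintro _ (rfl | rfl); exacts [M.dI, M.cI])) l fun h => M.card ?_, l⟩
  rw [← I.index_mul_card, M.idx, pow_succ']
  exact mul_dvd_mul_left _ h

theorem sylP : SylIn 2 (closure {M.σ, M.d, M.c}) ⊤ := by
  have hσ : M.σ⁻¹ = M.σ := inv_eq_of_mul_eq_one_right M.σσ
  have e : closure ({M.σ, M.d, M.c} : Set A) = closure {M.d, M.c} ⊔ zpowers M.σ := by
    rw [Set.insert_eq, Subgroup.closure_union, ← zpowers_eq_closure, sup_comm]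
  have p2 : IsPGroup 2 (closure ({M.σ, M.d, M.c} : Set A)) := e ▸ (sylD M).1.pgroup.to_sup_of_normal_left' (pg_inv M.σσ)
    (zpowers_le.2 (norm_of fun a ha => (closure_le (K := (closure {M.d, M.c}).comap (MulAut.conj M.σ).toMonoidHom)).2 (by
      rintro _ (rfl | rfl)
      · change M.σ * M.d * M.σ⁻¹ ∈ Subgroup.closure _
        rw [M.σd.eq, mul_inv_cancel_right]
        exact subset_closure (by simp)
      · change M.σ * M.c * M.σ⁻¹ ∈ Subgroup.closure _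
        rw [hσ, M.σc]
        exact pow_mem (subset_closure (by simp)) 5) ha))
  refine syl_of p2 le_top (card_lt p2 (lt_of_le_of_ne (e ▸ le_sup_left) fun e' => M.σI ((sylD M).1.le ?_)) (sylD M).2) ?_
  · exact e' ▸ subset_closure (by simp)
  · rw [card_top]; exact M.card

end

/-- the statement inside `H = C(t)` -/
theorem core {H A : Type*} [Group H] [Finite H] [Group A] [Finite A] {I : Subgroup A} (M : Mo A I) (t : H)
    (ht : orderOf t = 2) (hcen : ∀ h, Commute t h) (L : Subgroup H) (π : H →* A) (hL : L.Normal) (hI : L.map π = I)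
    (ho : Odd (Nat.card ↥(L ⊓ π.ker))) (h1 : π t = 1)
    (hc : ∀ P : Subgroup H, P ≤ π.ker → IsPGroup 2 P → IsCyclic P) :
    (∃ F : Fr H, F.t = t) ∨ ∃ P : Pf H, P.t = t ∧
      ((∃ r ∈ P.R, r * r = t) ∨ ((∀ r ∈ P.R, r = 1 ∨ r = t) ∧ P.s * P.s = t)) := by
  classical
  have tt : t * t = 1 := by rw [← pow_two, ← ht, pow_orderOf_eq_one]
  have t1 : t ≠ 1 := by rintro rfl; simp at ht
  have hσ : M.σ⁻¹ = M.σ := inv_eq_of_mul_eq_one_right M.σσ
  have lift : ∀ a ∈ I, ∃ l ∈ L, π l = a := fun a ha => by rw [← hI] at ha; exact ha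
  have πL : ∀ l ∈ L, π l ∈ I := fun l hl => hI ▸ mem_map_of_mem π hl
  obtain ⟨σ, hP, hσ'⟩ : ∃ σ, SylIn 2 (closure {σ, M.d, M.c}) ((⊤ : Subgroup H).map π) ∧
      ((σ = 1 ∧ ∀ h, π h ∈ I) ∨ σ = M.σ) := by
    by_cases hh : ∀ h, π h ∈ I
    · refine ⟨1, ?_, Or.inl ⟨rfl, hh⟩⟩
      rw [closure_insert_one, show (⊤ : Subgroup H).map π = I from le_antisymm (by rintro _ ⟨h, -, rfl⟩; exact hh h)
        (hI ▸ map_mono le_top)]
      exact (sylD M).1
    · obtain ⟨h, hh⟩ := not_forall.1 hh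
      have hIJ : I ≤ (⊤ : Subgroup H).map π := hI ▸ map_mono le_top
      refine ⟨_, (sylP M).of_le ((closure_le _).2 ?_) le_top, Or.inr rfl⟩
      rintro _ (rfl | rfl | rfl)
      · exact (mul_mem_cancel_left (mem_map_of_mem π (mem_top h))).1
          (hIJ ((mul_mem_iff_of_index_two M.idx).2 (iff_of_false hh M.σI)))
      exacts [hIJ M.dI, hIJ M.cI]
  obtain ⟨T, hT, eT⟩ : ∃ T, SylIn 2 T (⊤ : Subgroup H) ∧ T.map π = closure {σ, M.d, M.c} := by
    obtain ⟨T, hT⟩ := exists_sylIn 2 (⊤ : Subgroup H)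
    obtain ⟨_, ⟨x, -, rfl⟩, e⟩ := (hT.map π).exists_conj hP
    refine ⟨x •ᶜ T, hT.cj_of_mem (mem_top x), ?_⟩
    rw [← e, map_map, map_map]
    congr 1
    ext; simp
  have inj1 : ∀ {x}, x ∈ T → x ∈ L → π x = 1 → x = 1 := fun {x} h h' e => by
    obtain ⟨k, hk⟩ := hT.pgroup ⟨x, h⟩
    exact eq_one_of_odd (ho.of_dvd_nat ((L ⊓ π.ker).orderOf_dvd_natCard ⟨h', e⟩)) (congrArg Subtype.val hk)
  have inj : ∀ {x y}, x ∈ T → x ∈ L → y ∈ T → y ∈ L → π x = π y → x = y := fun h h' k k' e =>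
    mul_inv_eq_one.1 (inj1 (mul_mem h (inv_mem k)) (mul_mem h' (inv_mem k')) (by rw [map_mul, map_inv, e, mul_inv_cancel]))
  have eD : closure {M.d, M.c} = (T ⊓ L).map π := by
    have h2 := (hT.inf_normal_of_le (N := L) (by rw [normalizer_eq_top]) le_top).map π
    rw [hI] at h2
    refine h2.max _ (sylD M).1.pgroup ?_ (sylD M).1.le
    rw [← (sylD M).1.max (closure {σ, M.d, M.c} ⊓ I) hP.pgroup.to_inf_left
      (le_inf (closure_mono (Set.subset_insert _ _)) (sylD M).1.le) inf_le_right]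
    exact le_inf (eT ▸ map_mono inf_le_left) h2.le
  obtain ⟨c, ⟨cT, cL⟩, ec⟩ : M.c ∈ (T ⊓ L).map π := eD ▸ subset_closure (by simp)
  obtain ⟨d, ⟨dT, dL⟩, ed⟩ : M.d ∈ (T ⊓ L).map π := eD ▸ subset_closure (by simp)
  obtain ⟨s, sT, es, hs⟩ : ∃ s ∈ T, π s = σ ∧ ((s = 1 ∧ ∀ h, π h ∈ I) ∨ π s = M.σ) := by
    rcases hσ' with ⟨rfl, h⟩ | rfl
    · exact ⟨1, one_mem _, map_one π, Or.inl ⟨rfl, h⟩⟩
    · obtain ⟨s, h, e⟩ : M.σ ∈ T.map π := eT ▸ subset_closure (by simp)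
      exact ⟨s, h, e, Or.inr e⟩
  have tT : t ∈ T := hT.le_of_normalizes (pg_inv tt) le_top
    (zpowers_le.2 (norm_of fun a ha => by rwa [(hcen a).eq, mul_inv_cancel_right])) (mem_zpowers t)
  have cm : ∀ l ∈ T, l ∈ L → ∀ r ∈ T ⊓ π.ker, Commute l r := fun l h h' r ⟨k, k'⟩ => by
    have := inj (mul_mem (mul_mem k h) (inv_mem k)) (hL.conj_mem _ h' r) h h' (by
      rw [map_mul, map_mul, map_inv, show π r = 1 from k']; simp)
    exact (mul_inv_eq_iff_eq_mul.1 this).symm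
  have cjL : ∀ g, ∀ l ∈ L, g⁻¹ * l * g ∈ L := fun g l hl => by simpa using hL.conj_mem l hl g⁻¹
  have zT := pow_mem cT 4
  have zL := pow_mem cL 4
  have dd : d * d = 1 := inj1 (mul_mem dT dT) (mul_mem dL dL) (by rw [map_mul, ed, M.dd])
  have c8 : c ^ 8 = 1 := inj1 (pow_mem cT 8) (pow_mem cL 8) (by rw [map_pow, ec, M.c8])
  have c4 : c ^ 4 ≠ 1 := fun e => M.c4 (by rw [← ec, ← map_pow, e, map_one])
  have dc : d * c * d = c ^ 3 := inj (mul_mem (mul_mem dT cT) dT) (mul_mem (mul_mem dL cL) dL) (pow_mem cT 3) (pow_mem cL 3)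
    (by rw [map_mul, map_mul, map_pow, ec, ed, M.dc])
  have sc : π s = M.σ → s⁻¹ * c * s = c ^ 5 := fun e => inj (mul_mem (mul_mem (inv_mem sT) cT) sT) (cjL _ _ cL)
    (pow_mem cT 5) (pow_mem cL 5) (by rw [map_mul, map_mul, map_inv, map_pow, e, ec, hσ, M.σc])
  have sd : Commute s d := by
    rcases hs with ⟨rfl, -⟩ | e
    · exact Commute.one_left d
    · have := inj (mul_mem (mul_mem sT dT) (inv_mem sT)) (hL.conj_mem _ dL s) dT dL
        (by rw [map_mul, map_mul, map_inv, e, ed, M.σd.eq, mul_inv_cancel_right])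
      exact mul_inv_eq_iff_eq_mul.1 this
  have ss : s * s ∈ T ⊓ π.ker := ⟨mul_mem sT sT, by
    rcases hs with ⟨rfl, -⟩ | e
    · simp
    · exact (map_mul π s s).trans (by rw [e, M.σσ])⟩
  have sρ : Commute (π s) M.ρ := by
    rcases hs with ⟨rfl, -⟩ | e
    · simp
    · exact e ▸ M.σρ
  have syl : ∀ Y : Subgroup H, IsPGroup 2 Y → ∃ h, ∀ y ∈ Y, h⁻¹ * y * h ∈ (T ⊓ π.ker) ⊔ closure {s, d, c} := fun Y hY => by
    obtain ⟨x, -, e⟩ := hT.exists_conj_le hY le_top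
    refine ⟨x⁻¹, fun y hy => ?_⟩
    have h2 : x⁻¹⁻¹ * y * x⁻¹ ∈ T := e ⟨y, hy, by simp⟩
    generalize x⁻¹⁻¹ * y * x⁻¹ = w at h2
    obtain ⟨v, hv, e⟩ : π w ∈ (closure {s, d, c}).map π := by
      rw [MonoidHom.map_closure, Set.image_insert_eq, Set.image_pair, es, ed, ec, ← eT]
      exact mem_map_of_mem π h2
    have h3 : v ∈ T := (closure_le T).2 (by rintro _ (rfl | rfl | rfl) <;> assumption) hv
    exact (mul_mem_cancel_right (inv_mem (mem_sup_right hv))).1 (mem_sup_left (mem_inf.2 ⟨mul_mem h2 (inv_mem h3), by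
      rw [MonoidHom.mem_ker, map_mul, map_inv, e, mul_inv_cancel]⟩))
  obtain ⟨ρ0, ρL, eρ⟩ := lift _ M.ρI
  by_cases hR : (∀ r ∈ T ⊓ π.ker, r = 1 ∨ r = t) ∧ s * s = 1
  swap
  · have VT : closure {c ^ 4, d} ≤ T ⊓ L := (closure_le _).2 (by rintro _ (rfl | rfl); exacts [⟨zT, zL⟩, ⟨dT, dL⟩])
    have key : ∀ x ∈ L, ∀ y ∈ closure {c ^ 4, d}, π x = π y → x ∈ closure {c ^ 4, d} ⊔ (L ⊓ π.ker) := fun x hx y hy e =>
      (mul_mem_cancel_left (inv_mem (mem_sup_left hy))).1 (mem_sup_right (mem_inf.2 ⟨mul_mem (inv_mem (mem_inf.1 (VT hy)).2) hx, by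
        rw [MonoidHom.mem_ker, map_mul, map_inv, e, inv_mul_cancel]⟩))
    have m1 : c ^ 4 ∈ closure ({c ^ 4, d} : Set H) := subset_closure (by simp)
    have m2 : d ∈ closure ({c ^ 4, d} : Set H) := subset_closure (by simp)
    obtain ⟨o, ⟨-, oK⟩, hn⟩ := adj (g := ρ0) (hT.pgroup.to_inf_left.to_le VT) ho fun x hx =>
      (closure_le (K := (closure {c ^ 4, d} ⊔ (L ⊓ π.ker)).comap (MulAut.conj ρ0).symm.toMonoidHom)).2 (by
        rintro _ (rfl | rfl)
        · exact key _ (by simpa using cjL ρ0 _ zL) d m2 (by simp [eρ, ec, ed, M.zρ])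
        · exact key _ (by simpa using cjL ρ0 _ dL) _ (mul_mem m2 m1) (by simp [eρ, ec, ed, M.dρ])) hx
    have oK' : π o = 1 := oK
    refine Or.inr ⟨⟨t, s, d, c, ρ0 * o, T ⊓ π.ker, tt, t1, dd, c8, c4, dc, hT.pgroup.to_inf_left,
      hc _ inf_le_right hT.pgroup.to_inf_left, ⟨tT, h1⟩, cm c cT cL, cm d dT dL, eq_bot_iff.2 fun x hx => inj1 hx.1.1
        ((closure_le L).2 (by rintro _ (rfl | rfl) <;> assumption) hx.2) hx.1.2, hs.imp And.left sc, sd, ss,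
      norm_of fun a ha => mem_inf.2 ⟨mul_mem (mul_mem sT ha.1) (inv_mem sT), π.normal_ker.conj_mem _ ha.2 s⟩, hcen _,
      inj (VT (hn _ m1)).1 (VT (hn _ m1)).2 dT dL (by simp [eρ, oK', ec, ed, M.zρ]), fun Y hY _ =>
        (syl Y hY).imp fun h hh => ⟨hcen h, hh⟩⟩, rfl, or_iff_not_imp_left.2 fun hn => ?_⟩
    have h2 : ∀ r ∈ T ⊓ π.ker, r = 1 ∨ r = t := by
      have := hc _ inf_le_right hT.pgroup.to_inf_left
      obtain ⟨⟨g, gR⟩, hg⟩ := IsCyclic.exists_monoid_generator (α := ↥(T ⊓ π.ker))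
      have hg' : ∀ r ∈ T ⊓ π.ker, ∃ n, g ^ n = r := fun r hr => (hg ⟨r, hr⟩).imp fun _ e => congrArg Subtype.val e
      obtain ⟨j, hj⟩ := hg' t ⟨tT, h1⟩
      obtain ⟨i, rfl | rfl⟩ := j.even_or_odd'
      · exact (hn ⟨g ^ i, pow_mem gR i, by rw [← pow_add, ← two_mul, hj]⟩).elim
      obtain ⟨k, hk⟩ := hT.pgroup ⟨g * g, mul_mem gR.1 gR.1⟩
      have g2 : g ^ 2 = 1 := eq_one_of_odd (k := k) ((odd_two_mul_add_one i).of_dvd_nat (orderOf_dvd_of_pow_eq_one (by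
        rw [← pow_mul, mul_comm, pow_mul, hj, pow_two, tt]))) (by rw [pow_two]; exact congrArg Subtype.val hk)
      rw [pow_succ, pow_mul, g2, one_pow, one_mul] at hj
      intro r hr
      obtain ⟨n, rfl⟩ := hg' r hr
      obtain ⟨i, rfl | rfl⟩ := n.even_or_odd'
      · exact Or.inl (by rw [pow_mul, g2, one_pow])
      · exact Or.inr (by rw [pow_succ, pow_mul, g2, one_pow, one_mul, hj])
    exact ⟨h2, (h2 _ ss).resolve_left fun e => hR ⟨h2, e⟩⟩
  obtain ⟨hR, s2⟩ := hR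
  have si : s⁻¹ = s := inv_eq_of_mul_eq_one_right s2
  obtain ⟨O, hO, oO, OK, KO⟩ : ∃ O : Subgroup H, O.Normal ∧ Odd (Nat.card O) ∧ O ≤ π.ker ∧
      ∀ k, π k = 1 → k ∈ O ∨ k * t ∈ O := by
    have h2 := hT.inf_normal_of_le (N := π.ker) (by rw [normalizer_eq_top]) le_top
    have h3 := Misc.burnside_pPrimeCore h2.toSylow fun x _ y hy => Subtype.ext (by
      rcases hR y hy with e | e <;> simp [e, (hcen x).eq])
    have := pPrimeCore_characteristic 2 π.ker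
    refine ⟨(Cfsg.pPrimeCore 2 π.ker).map π.ker.subtype, ConjAct.normal_of_characteristic_of_normal, ?_, map_subtype_le _,
      fun k hk => ?_⟩
    · rw [card_map_of_injective (subtype_injective _)]
      exact Nat.coprime_two_right.1 (coprime_card_pPrimeCore 2 _)
    · obtain ⟨⟨⟨o, oO⟩, ⟨r, hr⟩⟩, e⟩ := h3.existsUnique ⟨k, hk⟩ |>.exists
      have e' : (o : H) * r = k := congrArg Subtype.val e
      rcases hR r hr with e | e
      · exact Or.inl ⟨o, oO, by rw [← e', e, mul_one]; rfl⟩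
      · exact Or.inr ⟨o, oO, by rw [← e', e, mul_assoc, tt, mul_one]; rfl⟩
  have tO : t ∉ O := fun h => t1 (eq_one_of_odd (k := 1) (oO.of_dvd_nat (O.orderOf_dvd_natCard h)) (by rw [pow_one, pow_two, tt]))
  have LO : ∀ l ∈ L, π l = 1 → l ∈ O := fun l hl e => (KO l e).resolve_right fun h => tO (by
    obtain ⟨m, hm⟩ := ho.of_dvd_nat ((L ⊓ π.ker).orderOf_dvd_natCard ⟨hl, e⟩)
    have := pow_mem h (2 * m + 1)
    rwa [(hcen l).symm.mul_pow, ← hm, pow_orderOf_eq_one, one_mul, hm, pow_succ, pow_mul, pow_two, tt, one_pow, one_mul] at this)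
  have NO : ∀ x ∈ L ⊔ O, π x = 1 → x ∈ O := fun x hx e => by
    obtain ⟨l, hl, o, oO, rfl⟩ := mem_sup_of_normal_right.1 hx
    exact mul_mem (LO l hl (by rwa [map_mul, show π o = 1 from OK oO, mul_one] at e)) oO
  have πN : ∀ x ∈ L ⊔ O, π x ∈ I := fun x hx => by
    obtain ⟨l, hl, o, oO, rfl⟩ := mem_sup_of_normal_right.1 hx
    rw [map_mul, show π o = 1 from OK oO, mul_one]
    exact πL l hl
  have hN : (L ⊔ O).Normal := inferInstance
  let Ha : Subgroup H :=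
    { carrier := {h | h ∈ L ⊔ O ∨ h * s ∈ L ⊔ O}
      one_mem' := Or.inl (one_mem _)
      mul_mem' := by
        rintro a b (ha | ha) (hb | hb)
        · exact Or.inl (mul_mem ha hb)
        · exact Or.inr (by rw [mul_assoc]; exact mul_mem ha hb)
        · exact Or.inr (by simpa [mul_assoc] using mul_mem ha (hN.conj_mem _ hb s⁻¹))
        · exact Or.inl (by simpa [mul_assoc, ← mul_assoc s s, s2] using mul_mem ha (hN.conj_mem _ hb s))
      inv_mem' := by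
        rintro a (ha | ha)
        · exact Or.inl (inv_mem ha)
        · exact Or.inr (by simpa [mul_assoc, si, ← mul_assoc s s, s2] using hN.conj_mem _ (inv_mem ha) s) }
  have tHa : t ∉ Ha := by
    rintro (h | h)
    · exact tO (NO t h h1)
    · rcases hs with ⟨rfl, -⟩ | e
      · exact tO (NO t (by simpa using h) h1)
      · exact M.σI (by simpa [h1, e] using πN _ h)
  have sHa : s ∈ Ha := Or.inr (by rw [s2]; exact one_mem _)
  have LHa : ∀ l ∈ L, l ∈ Ha := fun l hl => Or.inl (mem_sup_left hl)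
  have iHa : Ha.index = 2 := by
    have h2 : ∀ h, π h ∈ I → h ∈ Ha ∨ h * t ∈ Ha := fun h hh => by
      obtain ⟨l, hl, e⟩ := lift _ hh
      refine (KO (l⁻¹ * h) (by rw [map_mul, map_inv, e, inv_mul_cancel])).imp (fun k => ?_) fun k => ?_
      · exact (mul_mem_cancel_left (inv_mem (LHa l hl))).1 (Or.inl (mem_sup_right k))
      · exact (mul_mem_cancel_left (inv_mem (LHa l hl))).1 (Or.inl (mem_sup_right (mul_assoc l⁻¹ h t ▸ k)))
    have h3 : ∀ h, h ∈ Ha ∨ h * t ∈ Ha := fun h => by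
      by_cases hh : π h ∈ I
      · exact h2 h hh
      rcases hs with ⟨-, e⟩ | e
      · exact h2 h (e h)
      refine (h2 (s * h) (by rw [map_mul, e]; exact (mul_mem_iff_of_index_two M.idx).2 (iff_of_false M.σI hh))).imp
        (mul_mem_cancel_left sHa).1 fun k => (mul_mem_cancel_left sHa).1 (mul_assoc s h t ▸ k)
    refine index_eq_two_iff.2 ⟨t, fun b => (h3 b).symm.imp (fun h => ⟨h, fun k => tHa ((mul_mem_cancel_left k).1 h)⟩)
      fun h => ⟨h, fun k => tHa ((mul_mem_cancel_left h).1 k)⟩⟩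
  have ET : closure {t, s, c ^ 4, d} ≤ T := (closure_le _).2 (by rintro _ (rfl | rfl | rfl | rfl) <;> assumption)
  have m0 : t ∈ closure ({t, s, c ^ 4, d} : Set H) := subset_closure (by simp)
  have m1 : c ^ 4 ∈ closure ({t, s, c ^ 4, d} : Set H) := subset_closure (by simp)
  have m2 : d ∈ closure ({t, s, c ^ 4, d} : Set H) := subset_closure (by simp)
  have m3 : s ∈ closure ({t, s, c ^ 4, d} : Set H) := subset_closure (by simp)
  have key : ∀ x, ∀ y ∈ closure {t, s, c ^ 4, d}, π x = π y → x ∈ closure {t, s, c ^ 4, d} ⊔ O := fun x y hy e =>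
    (mul_mem_cancel_left (inv_mem (mem_sup_left hy))).1 ((KO (y⁻¹ * x) (by rw [map_mul, map_inv, e, inv_mul_cancel])).elim
      mem_sup_right fun k => (mul_mem_cancel_right (mem_sup_left m0)).1 (mem_sup_right k))
  obtain ⟨o, oO', hn⟩ := adj (g := ρ0) (hT.pgroup.to_le ET) oO fun x hx =>
    (closure_le (K := (closure {t, s, c ^ 4, d} ⊔ O).comap (MulAut.conj ρ0).symm.toMonoidHom)).2 (by
      rintro _ (rfl | rfl | rfl | rfl)
      · exact key _ _ m0 (by simp [h1])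
      · exact key _ _ m3 (by simp [eρ, mul_assoc, sρ.eq])
      · exact key _ d m2 (by simp [eρ, ec, ed, M.zρ])
      · exact key _ _ (mul_mem m2 m1) (by simp [eρ, ec, ed, M.dρ])) hx
  obtain ⟨ρ, ρN, eρ', oρ, hn'⟩ : ∃ ρ ∈ L ⊔ O, π ρ = M.ρ ∧ Odd (orderOf ρ) ∧
      ∀ x ∈ closure {t, s, c ^ 4, d}, ρ⁻¹ * x * ρ ∈ closure ({t, s, c ^ 4, d} : Set H) := by
    obtain ⟨k, m, hm, e⟩ := Nat.exists_eq_two_pow_mul_odd (orderOf_pos (ρ0 * o)).ne'
    refine ⟨(ρ0 * o) ^ 4 ^ k, pow_mem (mul_mem_sup ρL oO') _, ?_, hm.of_dvd_nat (orderOf_dvd_of_pow_eq_one ?_), ?_⟩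
    · rw [map_pow, map_mul, eρ, show π o = 1 from OK oO', mul_one]
      rw [pow_eq_pow_mod _ M.ρ3, Nat.pow_mod, show 4 % 3 = 1 from rfl, one_pow, show 1 % 3 = 1 from rfl, pow_one]
    · rw [← pow_mul, show 4 = 2 * 2 from rfl, mul_pow, mul_assoc, mul_comm, ← e, pow_mul, pow_orderOf_eq_one, one_pow]
    · generalize 4 ^ k = n
      induction n with
      | zero => simp
      | succ n ih => exact fun x hx => by simpa [pow_succ, mul_assoc] using hn _ (ih x hx)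
  have sρ' : Commute s ρ := by
    have h2 := hR (ρ⁻¹ * s * ρ * s⁻¹) (mem_inf.2 ⟨mul_mem (ET (hn' s m3)) (inv_mem sT), by
      simp [eρ', mul_assoc, ← mul_assoc (π s), sρ.eq]⟩)
    rcases h2 with e | e
    · rw [mul_inv_eq_one, mul_assoc, inv_mul_eq_iff_eq_mul] at e
      exact e
    · rw [mul_inv_eq_iff_eq_mul, mul_assoc, inv_mul_eq_iff_eq_mul] at e
      have h3 : Commute s (ρ ^ 2) := by
        change s * ρ ^ 2 = ρ ^ 2 * s
        rw [pow_two, ← mul_assoc, e, mul_assoc, mul_assoc, e, ← mul_assoc t, (hcen ρ).eq, mul_assoc, ← mul_assoc t, tt, one_mul,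
          mul_assoc]
      obtain ⟨m, hm⟩ := oρ
      have h4 := h3.pow_right (m + 1)
      rwa [← pow_mul, show 2 * (m + 1) = 2 * m + 1 + 1 by ring, pow_succ, ← hm, pow_orderOf_eq_one, one_mul] at h4
  refine Or.inl ⟨⟨t, s, d, c, ρ, fun h => (if h ∈ Ha then 0 else 1, if π h ∈ I then 0 else 1), tt, s2, dd, c8, c4, dc,
    hs.imp And.left fun e => ⟨by rw [← sc e, si], by simp [sHa, e, M.σI]⟩, hcen _, hcen _, hcen _, hcen _, sd, sρ',
    inj (ET (hn' _ m1)) (cjL _ _ zL) dT dL (by simp [eρ', ec, ed, M.zρ]),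
    inj (ET (hn' _ m2)) (cjL _ _ dL) (mul_mem dT zT) (mul_mem dL zL) (by simp [eρ', ec, ed, M.dρ]), oρ,
    oO.of_dvd_nat (O.orderOf_dvd_natCard (NO _ (pow_mem (mul_mem (mem_sup_left (mul_mem dL (pow_mem cL 2))) ρN) 2)
      (by simp [eρ', ec, ed, M.eρ]))), fun x y _ _ => Prod.ext (chi iHa x y) (by rw [map_mul]; exact chi M.idx _ _),
    by simp [tHa, h1], by simp [LHa c cL, πL c cL], by simp [LHa d dL, πL d dL], fun Y hY _ =>
      (syl Y hY).imp fun h hh => ⟨hcen h, fun y hy => (sup_le (fun r hr => ?_) (closure_mono (Set.subset_insert _ _)) :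
        _ ≤ closure {t, s, d, c}) (hh y hy)⟩⟩, rfl⟩
  rcases hR r hr with rfl | rfl
  exacts [one_mem _, subset_closure (by simp)]

end RB

/-- Lifting the model to `H = C(t)`.
Proof. `K = ker π ∋ t`. `range π` is `I` or `⊤`; `P̄ = closure {c, d}` (order 16) resp.
`closure {c, d, σ}` (order 32) is a Sylow 2-subgroup of it (`card`, `idx`). Let `T` be a Sylow
2-subgroup of `π⁻¹ P̄`: `π T = P̄`, `T` is Sylow in `H` (gives `syl`). `R = T ⊓ K ∋ t` is cyclic.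
`D = T ⊓ L` is Sylow in `L`, `π D` is Sylow in `I` and lies in `P̄ ⊓ I = closure {c, d}`, so
equals it; `π` is injective on `D` (`T ⊓ L ⊓ K = 1`): lifts `c, d ∈ D` satisfy the relations.
`⁅R, D⁆ ≤ T ⊓ K ⊓ L = 1`. `s = 1` or a lift of `σ` in `T`; `s⁻¹ c s, s⁻¹ d s ∈ D` are determined by
their images; `s² ∈ R`; `T = R ⊔ closure {s, d, c}`. Let `ρ0 ∈ L` lift `ρ`, `V = ⟨c ^ 4, d⟩`,
`O = L ⊓ K` (odd, normal): `V ^ ρ0` and `V` are Sylow in `V O`, so `ρ1 = ρ0 o` normalises `V` and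
`(c ^ 4) ^ ρ1 = d`. This is a `Pf`. If no `r ∈ R` has `r² = t`, then `R = {1, t}`; `s² = t` is the
second case; let `s² = 1`. `⟨t⟩` is a central Sylow 2-subgroup of `K`, so `K = ⟨t⟩ × O'`
(Burnside; `O'` = elements of odd order, normal in `H`, `O ≤ O'`). `E = ⟨t, s, c ^ 4, d⟩`:
`E ^ ρ0 ≤ π⁻¹ (π E) = E O'`, where `E` is Sylow, so `ρ1 = ρ0 o` normalises `E`; let `ρ` be a power
`ρ1 ^ (4 ^ k)` of odd order, `π ρ = ρ̄`. `(c ^ 4) ^ ρ, d ^ ρ ∈ E ⊓ L ≤ D` are determined by their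
images, `s ^ ρ ∈ {s, s t}` and odd order gives `s`; `(d c² ρ)² ∈ K ⊓ (L O') = O'`.
`χ h = (0 iff h ∈ Ha, 0 iff π h ∈ I)`, `Ha = L ⊔ O' ⊔ ⟨s⟩` of index 2 in `H`, `t ∉ Ha`. -/
theorem lift_mo {G A : Type*} [Group G] [Finite G] [Group A] [Finite A] {I : Subgroup A}
    (M : Mo A I) (t : G) (ht : orderOf t = 2) (L : Subgroup ↥(centralizer ({t} : Set G)))
    (π : ↥(centralizer ({t} : Set G)) →* A) (hL : L.Normal) (hI : L.map π = I)
    (ho : Odd (Nat.card ↥(L ⊓ π.ker))) (h1 : ∀ h, (∀ l ∈ L, Commute h l) → π h = 1)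
    (hc : ∀ P : Subgroup ↥(centralizer ({t} : Set G)), P ≤ π.ker → IsPGroup 2 P → IsCyclic P) :
    Nonempty (Fr G) ∨ ∃ P : Pf G, P.t = t ∧
      ((∃ r ∈ P.R, r * r = t) ∨ ((∀ r ∈ P.R, r = 1 ∨ r = t) ∧ P.s * P.s = t)) := by
  classical
  have mem : ∀ {g}, g ∈ centralizer ({t} : Set G) ↔ Commute t g := mem_centralizer_singleton_iff.trans eq_comm
  have syl : ∀ {Y : Subgroup G}, IsPGroup 2 Y → IsPGroup 2 (Y.subgroupOf (centralizer {t})) := fun h => h.comap_subtype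
  have hcen : ∀ h : centralizer ({t} : Set G), Commute ⟨t, mem.2 (Commute.refl t)⟩ h := fun h => Subtype.ext (mem.1 h.2)
  rcases RB.core M ⟨t, mem.2 (Commute.refl t)⟩ ((orderOf_coe _).symm.trans ht) hcen L π hL hI ho
    (h1 _ fun l _ => hcen l) hc with ⟨F, e⟩ | ⟨P, e, h⟩
  · have e' : (F.t : G) = t := congrArg Subtype.val e
    have v := fun {x y : centralizer ({t} : Set G)} (h : x = y) => congrArg Subtype.val h
    refine Or.inl ⟨⟨F.t, F.s, F.d, F.c, F.ρ, fun g => if h : g ∈ centralizer {t} then F.χ ⟨g, h⟩ else 0, v F.tt, v F.ss,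
      v F.dd, v F.c8, fun h => F.c4 (Subtype.ext h), v F.dc, F.sc.imp v (And.imp v fun h => (dif_pos F.s.2).trans h), v F.ts,
      v F.td, v F.tc, v F.tρ, v F.sd, v F.sρ, v F.zρ, v F.dρ, (orderOf_coe F.ρ).symm ▸ F.oρ,
      (orderOf_coe ((F.d * F.c ^ 2 * F.ρ) ^ 2)).symm ▸ F.oeρ, fun x y hx hy => ?_, (dif_pos F.t.2).trans F.χt,
      (dif_pos F.c.2).trans F.χc, (dif_pos F.d.2).trans F.χd, fun Y hY hc => ?_⟩⟩
    · have hx' := mem.2 (e' ▸ hx)
      have hy' := mem.2 (e' ▸ hy)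
      rw [dif_pos hx', dif_pos hy', dif_pos (mul_mem hx' hy')]
      exact F.χmul ⟨x, hx'⟩ ⟨y, hy'⟩ (e ▸ hcen _) (e ▸ hcen _)
    · obtain ⟨h, h1, h2⟩ := F.syl _ (syl hY) fun y _ => e ▸ hcen y
      refine ⟨h, v h1, fun y hy => ?_⟩
      have := mem_map_of_mem (Subgroup.subtype _) (h2 ⟨y, mem.2 (e' ▸ hc y hy)⟩ hy)
      rwa [MonoidHom.map_closure, Set.image_insert_eq, Set.image_insert_eq, Set.image_pair] at this
  · have e' : (P.t : G) = t := congrArg Subtype.val e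
    have v := fun {x y : centralizer ({t} : Set G)} (h : x = y) => congrArg Subtype.val h
    have := P.Rc
    refine Or.inr ⟨⟨P.t, P.s, P.d, P.c, P.ρ, P.R.map (Subgroup.subtype _), v P.tt, fun h => P.t1 (Subtype.ext h), v P.dd,
      v P.c8, fun h => P.c4 (Subtype.ext h), v P.dc, P.R2.map _,
      isCyclic_of_surjective _ (P.R.equivMapOfInjective _ (subtype_injective _)).surjective, mem_map_of_mem _ P.tR,
      by rintro _ ⟨r, hr, rfl⟩; exact v (P.cR r hr), by rintro _ ⟨r, hr, rfl⟩; exact v (P.dR r hr), ?_, P.sc.imp v v, v P.sd,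
      mem_map_of_mem _ P.ss, RB.norm_of ?_, v P.tρ, v P.zρ, fun Y hY hc => ?_⟩, e', h.imp ?_ ?_⟩
    · have := congrArg (Subgroup.map (Subgroup.subtype _)) P.RD
      rwa [map_inf _ _ _ (subtype_injective _), MonoidHom.map_closure, Set.image_pair, Subgroup.map_bot] at this
    · rintro _ ⟨r, hr, rfl⟩
      exact ⟨_, (mem_normalizer_iff.1 P.sR r).1 hr, rfl⟩
    · obtain ⟨h, h1, h2⟩ := P.syl _ (syl hY) fun y _ => e ▸ hcen y
      refine ⟨h, v h1, fun y hy => ?_⟩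
      have := mem_map_of_mem (Subgroup.subtype _) (h2 ⟨y, mem.2 (e' ▸ hc y hy)⟩ hy)
      rwa [Subgroup.map_sup, MonoidHom.map_closure, Set.image_insert_eq, Set.image_pair] at this
    · rintro ⟨r, hr, e⟩
      exact ⟨r, mem_map_of_mem _ hr, v e⟩
    · rintro ⟨h, e⟩
      exact ⟨by rintro _ ⟨r, hr, rfl⟩; exact (h r hr).imp v v, v e⟩

end CL.HL
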