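import Cfsg.Agent.INV.HL.Loc

/-! S3139: the two degenerate pre-frames. Notation: `x ^ g = g⁻¹ * x * g`, `~` is conjugacy in `G`. Definitions: `HL/Defs`. -/

set_option autoImplicit false
set_option linter.unusedSectionVars false
open Subgroup
open scoped Pointwise

namespace CL.HL
variable {G : Type*} [Group G] [Finite G]

namespace R3

theorem uniq {X : Subgroup G} (hX : IsCyclic X) {a b : G} (ha : a ∈ X) (hb : b ∈ X) (a2 : a * a = 1) (b2 : b * b = 1)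
    (a1 : a ≠ 1) (b1 : b ≠ 1) : a = b := by
  classical
  have := Fintype.ofFinite X
  by_contra hne
  have h1 := IsCyclic.card_pow_eq_one_le (α := X) (n := 2) two_pos
  have h2 : ({1, ⟨a, ha⟩, ⟨b, hb⟩} : Finset X) ⊆ Finset.univ.filter fun x => x ^ 2 = 1 := by
    intro x hx
    simp only [Finset.mem_insert, Finset.mem_singleton] at hx
    rcases hx with rfl | rfl | rfl <;> simp [pow_two, Subtype.ext_iff, a2, b2]
  have h3 := (Finset.card_le_card h2).trans h1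
  rw [Finset.card_eq_three.2 ⟨_, _, _, by simpa [Subtype.ext_iff] using a1.symm, by simpa [Subtype.ext_iff] using b1.symm,
    by simpa [Subtype.ext_iff] using hne, rfl⟩] at h3
  omega

theorem card_le_two {X Y : Subgroup G} (a : G) (h : ∀ y ∈ Y, y ∈ X ∨ a * y ∈ X) : Nat.card Y ≤ 2 * Nat.card X := by
  classical
  rw [two_mul, ← Nat.card_sum]
  refine Nat.card_le_card_of_injective (fun y : Y => if k : (y : G) ∈ X then Sum.inl (⟨y, k⟩ : X) else
    Sum.inr (⟨a * y, (h y y.2).resolve_left k⟩ : X)) fun x y e => ?_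
  by_cases hx : (x : G) ∈ X <;> by_cases hy : (y : G) ∈ X <;> simp only [hx, hy, dite_true, dite_false] at e
  · exact Subtype.ext (congrArg Subtype.val (Sum.inl_injective e) :)
  · cases e
  · cases e
  · exact Subtype.ext (mul_left_cancel (congrArg Subtype.val (Sum.inr_injective e) :))

variable (P : Pf G)

def C : Subgroup G := zpowers P.c
def D : Subgroup G := closure {P.c, P.d}
def T1 : Subgroup G := P.R ⊔ D P
def T : Subgroup G := P.R ⊔ closure {P.s, P.d, P.c}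

variable {P}

theorem di : P.d⁻¹ = P.d := inv_eq_of_mul_eq_one_right P.dd
theorem dcd (j : ℕ) : P.d * P.c ^ j * P.d = P.c ^ (3 * j) := by
  have := conj_pow (i := j) (a := P.d) (b := P.c)
  rw [di, P.dc] at this
  rw [← this, pow_mul]
theorem cj_pow {w : G} {k : ℕ} (h : w⁻¹ * P.c * w = P.c ^ k) (j : ℕ) : w⁻¹ * P.c ^ j * w = P.c ^ (k * j) := by
  have := conj_pow (i := j) (a := w⁻¹) (b := P.c)
  rw [inv_inv, h] at this
  rw [← this, pow_mul]
theorem cmod {i j : ℕ} (h : i % 8 = j % 8) : P.c ^ i = P.c ^ j := by rw [pow_eq_pow_mod i P.c8, h, ← pow_eq_pow_mod j P.c8]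
theorem c_eq {i j : ℕ} (h : P.c ^ i = P.c ^ j) : i % 8 = j % 8 := by
  have := pow_inj_mod.1 h
  rwa [orderOf_eq_prime_pow (p := 2) (n := 2) P.c4 P.c8] at this
theorem c_one {i : ℕ} (h : P.c ^ i = 1) : i % 8 = 0 := c_eq (h.trans (pow_zero _).symm)
theorem mem_C {x : G} : x ∈ C P ↔ ∃ j : ℕ, P.c ^ j = x := mem_powers_iff_mem_zpowers.symm
theorem pow_C (j : ℕ) : P.c ^ j ∈ C P := mem_C.2 ⟨j, rfl⟩
theorem zz : P.c ^ 4 * P.c ^ 4 = 1 := by rw [← pow_add]; exact P.c8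
theorem cD : P.c ∈ D P := subset_closure (by simp)
theorem dD : P.d ∈ D P := subset_closure (by simp)
theorem C_D : C P ≤ D P := zpowers_le.2 cD
theorem dC {x : G} (h : x ∈ C P) : P.d * x * P.d ∈ C P := by
  obtain ⟨j, rfl⟩ := mem_C.1 h
  exact dcd (P := P) j ▸ pow_C _
theorem D_nC : D P ≤ normalizer (C P : Set G) := (closure_le _).2 (by
  rintro _ (rfl | rfl)
  · exact le_normalizer (mem_zpowers _)
  · exact Fr.norm_of fun x hx => by rw [di]; exact dC hx)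

theorem mem_D {x : G} (h : x ∈ D P) : x ∈ C P ∨ P.d * x ∈ C P := by
  induction h using closure_induction with
  | mem x hx =>
    rcases hx with rfl | rfl
    exacts [Or.inl (mem_zpowers _), Or.inr (P.dd ▸ one_mem _)]
  | one => exact Or.inl (one_mem _)
  | mul x y _ _ hx hy =>
    rcases hx with hx | hx <;> rcases hy with hy | hy
    · exact Or.inl (mul_mem hx hy)
    · exact Or.inr (by simpa [mul_assoc, ← mul_assoc P.d P.d, P.dd] using mul_mem (dC hx) hy)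
    · exact Or.inr (by simpa [mul_assoc] using mul_mem hx hy)
    · exact Or.inl (by simpa [mul_assoc, ← mul_assoc P.d P.d, P.dd] using mul_mem (dC hx) hy)
  | inv x _ hx =>
    rcases hx with hx | hx
    · exact Or.inl (inv_mem hx)
    · exact Or.inr (by simpa [mul_assoc, di, P.dd] using dC (inv_mem hx))

theorem mem_D' {x : G} (h : x ∈ D P) : ∃ j : ℕ, x = P.c ^ j ∨ x = P.d * P.c ^ j := by
  rcases mem_D h with h | h <;> obtain ⟨j, e⟩ := mem_C.1 h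
  · exact ⟨j, Or.inl e.symm⟩
  · exact ⟨j, Or.inr (by rw [e, ← mul_assoc, P.dd, one_mul])⟩

theorem cRD {r y : G} (hr : r ∈ P.R) (hy : y ∈ D P) : Commute r y := by
  obtain ⟨j, rfl | rfl⟩ := mem_D' hy
  exacts [(P.cR r hr).symm.pow_right j, (P.dR r hr).symm.mul_right ((P.cR r hr).symm.pow_right j)]
theorem cRR {r y : G} (hr : r ∈ P.R) (hy : y ∈ P.R) : Commute r y :=
  congrArg Subtype.val (P.Rc.isMulCommutative.is_comm.comm (⟨r, hr⟩ : P.R) ⟨y, hy⟩)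
theorem cR1 {r : G} (hr : r ∈ P.R) : ∀ y ∈ T1 P, Commute r y := comm_sup (fun _ => cRR hr) fun _ => cRD hr
theorem RD {x : G} (h : x ∈ P.R) (h' : x ∈ D P) : x = 1 := mem_bot.1 (P.RD ▸ mem_inf.2 ⟨h, h'⟩)
theorem uR {x : G} (h : x ∈ P.R) (h2 : x * x = 1) : x = 1 ∨ x = P.t :=
  or_iff_not_imp_left.2 fun h1 => uniq P.Rc h P.tR h2 P.tt h1 P.t1
theorem uC {x : G} (h : x ∈ C P) (h2 : x * x = 1) (h1 : x ≠ 1) : x = P.c ^ 4 :=
  uniq (isCyclic_zpowers _) h (pow_C 4) h2 zz h1 P.c4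
theorem t_nD : P.t ∉ D P := fun h => P.t1 (RD P.tR h)

theorem mem_T1 {x : G} (h : x ∈ T1 P) : ∃ r ∈ P.R, ∃ y ∈ D P, r * y = x := by
  have := coe_mul_of_left_le_normalizer_right P.R (D P) fun r hr => norm_of_comm fun y hy => (cRD hr hy).symm
  exact Set.mem_mul.1 (this.subset h)

theorem R1 : P.R ≤ T1 P := le_sup_left
theorem D1 : D P ≤ T1 P := le_sup_right
theorem T1_T : T1 P ≤ T P := sup_le_sup_left (Subgroup.closure_mono (by rw [Set.pair_comm]; exact Set.subset_insert _ _)) _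
theorem sT : P.s ∈ T P := mem_sup_right (subset_closure (by simp))
theorem cT : P.c ∈ T P := T1_T (D1 cD)
theorem dT : P.d ∈ T P := T1_T (D1 dD)
theorem st : Commute P.t P.s := Fr.comm_of_fix ((uR (norm_cj P.sR P.tR) (sq_cj P.tt _)).resolve_left fun e => P.t1 (cj_eq_one.1 e))
theorem s_n1 : P.s ∈ normalizer (T1 P : Set G) := Fr.norm_of fun x hx => by
  refine (sup_le ?_ ((closure_le _).2 ?_) : T1 P ≤ (T1 P).comap (MulAut.conj P.s).symm.toMonoidHom) hx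
  · exact fun r hr => R1 (by simpa using norm_cj P.sR hr)
  rintro _ (rfl | rfl)
  · change P.s⁻¹ * P.c * P.s ∈ T1 P
    rcases P.sc with e | e
    · simpa [e] using D1 cD
    · exact e ▸ pow_mem (D1 cD) 5
  · simpa [Fr.cj_fix P.sd.symm] using D1 dD

theorem T_eq : T P = T1 P ⊔ zpowers P.s := by
  rw [T, T1, D, Set.insert_eq, Subgroup.closure_union, ← zpowers_eq_closure, Set.pair_comm, sup_comm (zpowers _), sup_assoc]

theorem mul_s {x y : G} (hx : P.s⁻¹ * x ∈ T1 P) (hy : P.s⁻¹ * y ∈ T1 P) : x * y ∈ T1 P := by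
  simpa [mul_assoc] using mul_mem (mul_mem (R1 P.ss) (norm_cj s_n1 hx)) hy

theorem mem_T0 {x : G} (h : x ∈ T P) : x ∈ T1 P ∨ P.s⁻¹ * x ∈ T1 P := by
  let X : Subgroup G :=
    { carrier := {x | x ∈ T1 P ∨ P.s⁻¹ * x ∈ T1 P}
      one_mem' := Or.inl (one_mem _)
      mul_mem' := by
        rintro a b (ha | ha) (hb | hb)
        · exact Or.inl (mul_mem ha hb)
        · exact Or.inr (by simpa [mul_assoc] using mul_mem (norm_cj s_n1 ha) hb)
        · exact Or.inr (by simpa [mul_assoc] using mul_mem ha hb)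
        · exact Or.inl (mul_s ha hb)
      inv_mem' := by
        rintro a (ha | ha)
        · exact Or.inl (inv_mem ha)
        · exact Or.inr (by simpa [mul_assoc] using mul_mem (norm_cj s_n1 (inv_mem ha)) (inv_mem (R1 P.ss))) }
  exact (sup_le (fun _ => Or.inl) (zpowers_le.2 (Or.inr (by simp))) : T1 P ⊔ zpowers P.s ≤ X) (T_eq (P := P) ▸ h)

theorem out {x : G} (h : x ∈ T P) (h' : x ∉ T1 P) : P.s⁻¹ * x ∈ T1 P ∧ P.s⁻¹ * P.c * P.s = P.c ^ 5 :=
  ⟨(mem_T0 h).resolve_left h', P.sc.resolve_left fun e => h' ((mem_T0 h).elim id (by simp [e]))⟩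

theorem mul_out {x y : G} (hx : x ∈ T P) (hy : y ∈ T P) (hx' : x ∉ T1 P) (hy' : y ∉ T1 P) : x * y ∈ T1 P :=
  mul_s (out hx hx').1 (out hy hy').1
theorem sq1 {x : G} (hx : x ∈ T P) : x * x ∈ T1 P := by
  by_cases h : x ∈ T1 P
  exacts [mul_mem h h, mul_out hx hx h h]

theorem tT : ∀ x ∈ T P, Commute P.t x := T_eq (P := P) ▸ comm_sup (cR1 P.tR) (by rintro _ ⟨n, rfl⟩; exact st.zpow_right n)

theorem p2 : IsPGroup 2 (T P) := by
  have h1 : IsPGroup 2 (D P) := by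
    rw [D, Set.insert_eq, Subgroup.closure_union, ← zpowers_eq_closure, ← zpowers_eq_closure]
    exact (p2_zpowers (k := 3) P.c8).to_sup_of_normal_left' (p2_zpowers (k := 1) (by simpa [pow_two] using P.dd))
      (zpowers_le.2 (D_nC dD))
  have h2 : IsPGroup 2 (T1 P) := P.R2.to_sup_of_normal_right' h1 fun r hr => norm_of_comm fun y hy => (cRD hr hy).symm
  obtain ⟨k, hk⟩ := P.R2 ⟨_, P.ss⟩
  rw [T_eq]
  exact h2.to_sup_of_normal_left' (p2_zpowers (k := k + 1) (by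
    rw [pow_succ', pow_mul, pow_two]; exact congrArg Subtype.val hk)) (zpowers_le.2 s_n1)

theorem out_c {w : G} (h : w ∈ T P) (h' : w ∉ T1 P) : w⁻¹ * P.c * w = P.c ^ 5 ∨ w⁻¹ * P.c * w = P.c ^ 7 := by
  obtain ⟨h1, e⟩ := out h h'
  obtain ⟨r, hr, y, hy, e'⟩ := mem_T1 h1
  obtain rfl : w = P.s * (r * y) := by rw [e', mul_inv_cancel_left]
  have : (P.s * (r * y))⁻¹ * P.c * (P.s * (r * y)) = y⁻¹ * (r⁻¹ * (P.s⁻¹ * P.c * P.s) * r) * y := by group
  rw [this, e, Fr.cj_fix ((P.cR r hr).pow_left 5)]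
  obtain ⟨j, rfl | rfl⟩ := mem_D' hy
  · exact Or.inl (Fr.cj_fix ((Commute.refl _).pow_pow 5 j))
  · refine Or.inr ?_
    rw [mul_inv_rev, di, mul_assoc, mul_assoc, ← mul_assoc (_ ^ 5), ← mul_assoc P.d, ← mul_assoc P.d, dcd, ← mul_assoc,
      Fr.cj_fix ((Commute.refl _).pow_pow _ j)]
    exact cmod rfl

/-- an element outside `T1` has commutator `z` with a power of `c` -/
theorem out_z {w : G} (h : w ∈ T P) (h' : w ∉ T1 P) : ∃ k, (P.c ^ k)⁻¹ * w * P.c ^ k = w * P.c ^ 4 := by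
  have key : ∀ k m, w⁻¹ * P.c * w = P.c ^ m → (m * k) % 8 = (k + 4) % 8 → (P.c ^ k)⁻¹ * w * P.c ^ k = w * P.c ^ 4 :=
    fun k m e h => by
      have e1 : (P.c ^ k)⁻¹ * w * P.c ^ k = w * ((w⁻¹ * P.c ^ k * w)⁻¹ * P.c ^ k) := by group
      rw [e1, cj_pow e, cmod h, pow_add, mul_inv_rev, inv_mul_cancel_right, inv_eq_of_mul_eq_one_right zz]
  rcases out_c h h' with e | e
  exacts [⟨1, key 1 5 e rfl⟩, ⟨2, key 2 7 e rfl⟩]

theorem zT {w : G} (h : w ∈ T P) : Commute (P.c ^ 4) w := by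
  by_cases h' : w ∈ T1 P
  · obtain ⟨r, hr, y, hy, rfl⟩ := mem_T1 h'
    exact ((P.cR r hr).pow_left 4).mul_right (Fr.comm_of_fix (uC (norm_cj (D_nC hy) (pow_C 4)) (sq_cj zz _)
      fun e => P.c4 (cj_eq_one.1 e)))
  · refine Fr.comm_of_fix ?_
    rcases out_c h h' with e | e <;> rw [cj_pow e] <;> exact cmod rfl

theorem cen {w : G} (h : w ∈ T P) (hc : Commute w P.c) (hd : Commute w P.d) : ∃ r ∈ P.R, w = r ∨ w = r * P.c ^ 4 := by
  by_cases h' : w ∈ T1 P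
  · obtain ⟨r, hr, y, hy, rfl⟩ := mem_T1 h'
    have h1 : Commute y P.c := by simpa using (P.cR r hr).symm.inv_left.mul_left hc
    have h2 : Commute y P.d := by simpa using (P.dR r hr).symm.inv_left.mul_left hd
    refine ⟨r, hr, ?_⟩
    obtain ⟨j, rfl | rfl⟩ := mem_D' hy
    · have h3 := dcd (P := P) j
      rw [← h2.eq, mul_assoc, P.dd, mul_one] at h3
      have h4 := c_eq h3
      by_cases h5 : j % 8 = 0
      · exact Or.inl (by rw [cmod (j := 0) h5, pow_zero, mul_one])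
      · exact Or.inr (by rw [cmod (j := 4) (by omega)])
    · have h3 : Commute P.d P.c := by simpa using h1.mul_left ((Commute.refl P.c).pow_left j).inv_left
      have h4 := P.dc
      rw [h3.eq, mul_assoc, P.dd, mul_one] at h4
      simpa using c_eq ((pow_one _).trans h4)
  · have := Fr.cj_fix hc.symm
    rcases out_c h h' with e | e <;> simpa using c_eq ((pow_one _).trans (this.symm.trans e))

theorem cen_sq {w : G} (h : w ∈ T P) (hc : Commute w P.c) (hd : Commute w P.d) : w * w ∈ P.R := by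
  obtain ⟨r, hr, rfl | rfl⟩ := cen h hc hd
  · exact mul_mem hr hr
  · rw [mul_assoc, ← mul_assoc (_ ^ 4), ((P.cR r hr).pow_left 4).eq, mul_assoc, zz, mul_one]
    exact mul_mem hr hr

theorem comm_C {a b : G} (ha : a ∈ T1 P) (hb : b ∈ T1 P) : a⁻¹ * (b⁻¹ * a * b) ∈ C P := by
  obtain ⟨r, hr, x, hx, rfl⟩ := mem_T1 ha
  rw [Fr.cj_mul, Fr.cj_fix (cR1 hr b hb), mul_inv_rev, mul_assoc, inv_mul_cancel_left]
  obtain ⟨r, hr, y, hy, rfl⟩ := mem_T1 hb
  rw [mul_inv_rev, mul_assoc y⁻¹, mul_assoc y⁻¹, ← mul_assoc _ r, Fr.cj_fix (cRD hr hx).symm]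
  rcases mem_D hx with h | h
  · exact mul_mem (inv_mem h) (by simpa [mul_assoc] using norm_cj (D_nC hy) h)
  rcases mem_D hy with k | k
  · simpa [mul_assoc] using mul_mem (norm_cj (D_nC hx) (inv_mem k)) k
  · simpa [mul_assoc, di, ← mul_assoc P.d P.d, P.dd] using mul_mem (mul_mem (mul_mem (inv_mem h) (dC (inv_mem k))) (dC h)) k

theorem adj {u g : G} (e : g⁻¹ * u * g = P.t) {Y : Subgroup G} (hY : IsPGroup 2 Y) (hc : ∀ y ∈ Y, Commute u y) :
    ∃ g, g⁻¹ * u * g = P.t ∧ ∀ y ∈ Y, g⁻¹ * y * g ∈ T P := by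
  obtain ⟨h, h1, h2⟩ := P.syl _ (p2_cjs hY g) (cjs_ind fun y hy => e ▸ comm_cj (hc y hy) g)
  exact ⟨g * h, by rw [mul_inv_rev, mul_assoc, mul_assoc, ← mul_assoc u, ← mul_assoc g⁻¹, ← mul_assoc g⁻¹, e, ← mul_assoc,
    Fr.cj_fix h1], fun y hy => by simpa [mul_assoc, T] using h2 _ (cj_cjs g hy)⟩

section
variable {r : G} (hr : r ∈ P.R) (h : r * r = P.t)
include hr h

theorem ri : r⁻¹ = r * P.t := inv_eq_of_mul_eq_one_right (by rw [← mul_assoc, h, P.tt])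
theorem r_ne : r ≠ r⁻¹ := fun e => P.t1 (by rw [← h]; nth_rw 2 [e]; exact mul_inv_cancel r)

theorem s_r : P.s⁻¹ * r * P.s = r ∨ P.s⁻¹ * r * P.s = r⁻¹ := by
  have h1 := norm_cj P.sR hr
  refine (uR (mul_mem (inv_mem hr) h1) ?_).imp (fun e => (inv_mul_eq_one.1 e).symm) fun e => by
    rw [ri hr h, ← e, mul_inv_cancel_left]
  rw [mul_assoc, ← mul_assoc _ r⁻¹, ← (cRR hr h1).inv_left.eq, mul_assoc, ← Fr.cj_mul, h, Fr.cj_fix st, ← h]
  group

theorem out_r {w : G} (hw : w ∈ T P) (h' : w ∉ T1 P) : w⁻¹ * r * w = P.s⁻¹ * r * P.s := by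
  have := Fr.cj_fix (cR1 (norm_cj P.sR hr) _ (out hw h').1)
  simpa [mul_assoc] using this

theorem T_r {w : G} (hw : w ∈ T P) : w⁻¹ * r * w = r ∨ w⁻¹ * r * w = r⁻¹ := by
  by_cases h' : w ∈ T1 P
  · exact Or.inl (Fr.cj_fix (cR1 hr w h'))
  · rw [out_r hr h hw h']; exact s_r hr h

theorem cen_case {u g : G} (hc : ∀ y ∈ T P, Commute u y) (e : g⁻¹ * u * g = P.t) : u = P.t := by
  obtain ⟨g, e, hg⟩ := adj e p2 hc
  have hn := Fr.norm_of hg
  have bk : ∀ w ∈ T P, g * w * g⁻¹ ∈ T P := fun w hw => (mem_normalizer_iff.1 hn w).1 hw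
  have rT := T1_T (R1 hr)
  obtain ⟨r', hr'⟩ : ∃ r', r' = g⁻¹ * r * g := ⟨_, rfl⟩
  have r'T : r' ∈ T P := hr' ▸ hg r rT
  have sq : r' * r' = g⁻¹ * P.t * g := by rw [hr', ← Fr.cj_mul, h]
  by_contra hne
  have ne : r' * r' ≠ P.t := fun k => hne (by simpa [mul_assoc] using e.trans (k.symm.trans sq))
  have nc : Commute r' P.c → ¬ Commute r' P.d := fun h1 h2 => ne ((uR (cen_sq r'T h1 h2) (by
    rw [sq]; exact sq_cj P.tt g)).resolve_left fun k => P.t1 (cj_eq_one.1 (sq ▸ k)))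
  have cj : ∀ w, (g * w * g⁻¹)⁻¹ * r * (g * w * g⁻¹) = g * (w⁻¹ * r' * w) * g⁻¹ := fun w => by rw [hr']; group
  have T_r' : ∀ w ∈ T P, w⁻¹ * r' * w = r' ∨ w⁻¹ * r' * w = r'⁻¹ := fun w hw =>
    (T_r hr h (bk w hw)).imp (fun k => by rw [cj] at k; rw [hr'.trans (congrArg (g⁻¹ * · * g) k.symm)]; nth_rw 1 [← hr'.trans (congrArg (g⁻¹ * · * g) k.symm)]; group) fun k => by
      rw [cj] at k
      rw [show r'⁻¹ = g⁻¹ * r⁻¹ * g by rw [hr']; group, ← k]; group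
  rcases s_r hr h with es | es
  · have : ∀ w ∈ T P, Commute r' w := fun w hw => by
      have h1 : Commute r (g * w * g⁻¹) := by
        by_cases k : g * w * g⁻¹ ∈ T1 P
        exacts [cR1 hr _ k, Fr.comm_of_fix ((out_r hr h (bk w hw) k).trans es)]
      simpa [hr', mul_assoc] using comm_cj h1 g
    exact nc (this _ cT) (this _ dT)
  have in1 : ∀ w ∈ T P, Commute r w → w ∈ T1 P := fun w hw k => by_contra fun k' =>
    r_ne hr h ((Fr.cj_fix k).symm.trans ((out_r hr h hw k').trans es))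
  have in2 : ∀ w ∈ T P, Commute r' w → g * w * g⁻¹ ∈ T1 P := fun w hw k => in1 _ (bk w hw) (Fr.comm_of_fix (by
    rw [cj, Fr.cj_fix k, hr']; group))
  have r'1 : r' ∈ T1 P := by_contra fun k => by
    have h1 := (out_r hr h r'T k).trans es
    rcases T_r' r rT with h2 | h2
    · exact r_ne hr h ((Fr.cj_fix (Fr.comm_of_fix h2).symm).symm.trans h1)
    · refine ne ?_
      calc r' * r' = r' * (r'⁻¹ * r * r') * r * r' := by rw [h1]; group
        _ = r * r * (r⁻¹ * r' * r) * r' := by group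
        _ = P.t := by rw [h2, ← h]; group
  have hc' : Commute r' P.c := by
    obtain ⟨r0, h0, y, hy, rfl⟩ := mem_T1 r'1
    obtain ⟨j, rfl | rfl⟩ := mem_D' hy
    · exact (P.cR r0 h0).symm.mul_left ((Commute.refl _).pow_left j)
    have h1 : P.c⁻¹ * (r0 * (P.d * P.c ^ j)) * P.c = r0 * (P.d * P.c ^ (21 + j + 1)) := by
      rw [Fr.cj_mul, Fr.cj_fix (P.cR r0 h0).symm, inv_eq_of_mul_eq_one_left ((pow_succ P.c 7).symm.trans P.c8), pow_succ P.c (21 + j),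
        pow_add, show 21 = 3 * 7 from rfl, ← dcd 7]
      simp only [← mul_assoc, P.dd, one_mul]
    rcases T_r' _ cT with k | k <;> rw [h1] at k
    · have := c_eq (mul_left_cancel (mul_left_cancel k))
      omega
    · have h2 : r0 * r0 * (P.d * P.c ^ j * P.d * P.c ^ (21 + j + 1)) = 1 := by
        rw [mul_assoc, mul_assoc (P.d * _), ← mul_assoc r0 (P.d * _), (cRD h0 hy).eq, mul_assoc _ r0, k, ← mul_assoc,
          mul_inv_cancel]
      rw [dcd, ← pow_add] at h2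
      rw [RD (mul_mem h0 h0) (eq_inv_of_mul_eq_one_left h2 ▸ inv_mem (C_D (pow_C _))), one_mul] at h2
      have := c_one h2
      omega
  have hd' := (T_r' _ dT).resolve_left fun k => nc hc' (Fr.comm_of_fix k)
  have s1 : P.s ∉ T1 P := fun k => r_ne hr h ((Fr.cj_fix (cR1 hr _ k)).symm.trans es)
  obtain ⟨w, wT, w1, hw⟩ : ∃ w ∈ T P, w ∉ T1 P ∧ Commute r' w := by
    rcases T_r' _ sT with k | k
    · exact ⟨_, sT, s1, Fr.comm_of_fix k⟩
    · refine ⟨_, mul_mem sT dT, fun k => s1 ((mul_mem_cancel_right (D1 dD)).1 k), Fr.comm_of_fix ?_⟩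
      calc _ = P.d⁻¹ * (P.s⁻¹ * r' * P.s) * P.d := by group
        _ = (P.d⁻¹ * r' * P.d)⁻¹ := by rw [k]; group
        _ = r' := by rw [hd', inv_inv]
  have key : ∀ a ∈ T P, Commute r' a → ∀ x, x * x = 1 → x ≠ 1 → w⁻¹ * (a⁻¹ * w * a) = x → g * x * g⁻¹ = P.c ^ 4 :=
    fun a ha k x x2 x1 ex => uC (by simpa [← ex, mul_assoc] using comm_C (in2 w wT hw) (in2 a ha k))
      (by rw [conj_mul, x2]; simp) (by simpa using x1)
  obtain ⟨k, hk⟩ := out_z wT w1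
  have h1 := key r rT (cR1 hr _ r'1).symm _ P.tt P.t1 (by
    rw [show w⁻¹ * (r⁻¹ * w * r) = (w⁻¹ * r * w)⁻¹ * r by group, out_r hr h wT w1, es, inv_inv, h])
  have h2 := key _ (pow_mem cT k) (hc'.pow_right k) _ zz P.c4 (by rw [hk, inv_mul_cancel_left])
  have h3 : P.t = P.c ^ 4 := by simpa using h1.trans h2.symm
  exact t_nD (h3 ▸ pow_mem cD 4)

theorem inner {u g : G} (hu : u ∈ T1 P) (e : g⁻¹ * u * g = P.t) : u = P.t := by
  have u2 : u * u = 1 := cj_eq_one.1 (by rw [Fr.cj_mul, e, P.tt])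
  obtain ⟨r0, h0, y, hy, rfl⟩ := mem_T1 hu
  rw [mul_assoc, ← mul_assoc y, ← (cRD h0 hy).eq, mul_assoc, ← mul_assoc] at u2
  have r2 := RD (mul_mem h0 h0) (eq_inv_of_mul_eq_one_left u2 ▸ inv_mem (mul_mem hy hy))
  rw [r2, one_mul] at u2
  have c0 : ∀ x, Commute P.t x → Commute r0 x := fun x hx => by
    rcases uR h0 r2 with rfl | rfl
    exacts [Commute.one_left x, hx]
  by_cases y1 : y = 1
  · subst y1
    refine (mul_one _).trans ((uR h0 r2).resolve_left fun k => P.t1 ?_)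
    rw [← e, k]; simp
  obtain ⟨x, hx, ex⟩ : ∃ x, Commute P.t x ∧ x⁻¹ * P.c ^ 4 * x = y := by
    obtain ⟨j, rfl | rfl⟩ := mem_D' hy
    · exact ⟨1, Commute.one_right _, by simpa using (uC (pow_C j) u2 y1).symm⟩
    rw [← mul_assoc, dcd, ← pow_add] at u2
    obtain ⟨i, rfl⟩ : ∃ i, j = 2 * i := ⟨j / 2, by have := c_one u2; omega⟩
    refine ⟨P.ρ * (P.c ^ i)⁻¹, P.tρ.mul_right ((tT _ cT).pow_right i).inv_right, ?_⟩
    calc _ = P.c ^ i * (P.ρ⁻¹ * P.c ^ 4 * P.ρ) * (P.c ^ i)⁻¹ := by group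
      _ = P.d * (P.d * P.c ^ i * P.d) * (P.c ^ i)⁻¹ := by rw [P.zρ]; simp only [← mul_assoc, P.dd, one_mul]
      _ = _ := by rw [dcd, show 3 * i = 2 * i + i by ring, pow_add]; group
  have h1 : r0 * P.c ^ 4 = P.t := cen_case hr h (g := x * g) (fun w hw => (c0 w (tT w hw)).mul_left (zT hw)) (by
    rw [← e, ← ex, ← Fr.cj_fix (c0 x hx)]; nth_rw 1 [Fr.cj_fix (c0 x hx)]; group)
  rw [← ex, ← Fr.cj_fix (c0 x hx), ← Fr.cj_mul, h1, Fr.cj_fix hx]

end

end R3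

open R3

/-- If `|R| ≥ 4`, `t` is isolated.
Basics. `z = c ^ 4`, `D = closure {c, d}`, `T1 = R ⊔ D = R × D`, `T = R ⊔ closure {s, d, c}`
`= T1 ∪ s T1` a 2-group centralising `t` (`s` normalises the cyclic 2-group `R`, whose only
involution is `t`); elements are `r0 s ^ a d ^ f c ^ j`, acting on `c` by `c ↦ c ^ (5 ^ a 3 ^ f)`.
`Z(T), Z(T1) ≤ R ⟨z⟩`; commutators of `T1` lie in `⟨c²⟩`, whose only involution is `z`;
`r ^ s ∈ {r, r⁻¹}` and `⟨r⟩` is normal in `T`; squares of `T` lie in `T1`.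
(I) No `u ∈ T1`, `u ≠ t`, is conjugate to `t`. `u = t ^ i x`, `x ∈ D` an involution, `x = z` or
`x = d c ^ (2 j)`, conjugate to `d` under `c` and to `z` under `ρ`; so let `u ∈ {z, t z}`,
`u ^ g = t`. `T ^ g` centralises `t`; by `syl` adjust `g` so that `T ^ g = T`. `r' = r ^ g`,
`t' = r'² = t ^ g ≠ t`. If `s` commutes with `r`, then `r' ∈ Z(T) ≤ R ⟨z⟩`, `t' ∈ R`, `t' = t`.
So `s` inverts `r`, `T1 = C_T(r)`. `⟨r⟩, ⟨r'⟩` are normal and meet trivially, so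
`r' = r0 x ∈ T1`; `r' ^ c ∈ {r', r'⁻¹}` forces `x ∈ ⟨c⟩`. So `r, c ∈ C_T(r') = T1 ^ g`. If
`T1 ^ g ≤ T1` then `r' ∈ Z(T1)`, `t' ∈ R`. Otherwise `w ∈ T1 ^ g \ T1` has `⁅r, w⁆ = t` and
`⁅c, w⁆ = z` or `⁅c², w⁆ = z`, so `t = z ^ g = z`, against `RD`.
(O) Let `u ~ t` commute with `t`, `u ≠ t`; by `syl` let `u ∈ T`; `u ∉ T1` by (I). Take `g` with
`u ^ g = t` and `C_T(u) ^ g ≤ T` (`syl`). `t ^ g ≠ t`, so `t ^ g ∉ T1`. If `u` commutes with `r`,
`t ^ g = (r ^ g)² ∈ T1`. So `u` inverts `r`, `u ^ r = u t`; `u ^ c = u z` or `u ^ (c²) = u z`;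
hence `u z ~ t`, `u t z ~ t`. `z' = z ^ g ∈ T`; `(u z) ^ g = t z' ≠ t` is not in `T1`, so
`z' ∉ T1`, `t ^ g z' ∈ T1`, `(u t z) ^ g = t t ^ g z' ∈ T1` equals `t` by (I), so `t = z`. -/
theorem Pf.three (P : Pf G) {r : G} (hr : r ∈ P.R) (h : r * r = P.t) (g : G)
    (hc : Commute P.t (g⁻¹ * P.t * g)) : g⁻¹ * P.t * g = P.t := by
  obtain ⟨k, k1, k2⟩ := P.syl (zpowers (g⁻¹ * P.t * g)) (p2_zpowers (k := 1) (by simpa [pow_two] using sq_cj P.tt g))
    (by rintro _ ⟨n, rfl⟩; exact hc.zpow_right n)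
  have uT : _ ∈ T P := k2 _ (mem_zpowers _)
  obtain ⟨u, hu⟩ : ∃ u, u = k⁻¹ * (g⁻¹ * P.t * g) * k := ⟨_, rfl⟩
  rw [← hu] at uT
  by_contra hne
  have u1 : u ≠ P.t := fun e => hne (mul_left_cancel (mul_right_cancel (hu.symm.trans (e.trans (Fr.cj_fix k1).symm))))
  have eu : (g * k)⁻¹⁻¹ * u * (g * k)⁻¹ = P.t := by rw [hu]; group
  have uo : u ∉ T1 P := fun h1 => u1 (inner hr h h1 eu)
  obtain ⟨a, ea, ha⟩ := adj eu (Y := T P ⊓ centralizer {u}) p2.to_inf_left fun y hy =>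
    (mem_centralizer_singleton_iff.1 hy.2).symm
  have ha' : ∀ y ∈ T P, Commute y u → a⁻¹ * y * a ∈ T P := fun y h1 h2 => ha y ⟨h1, mem_centralizer_singleton_iff.2 h2⟩
  have inn : ∀ x b, b⁻¹ * u * b = x → a⁻¹ * x * a ∈ T1 P → x = u := fun x b e h1 => by
    have := inner hr h (g := a⁻¹ * b⁻¹ * a) h1 (by rw [← e, ← ea]; group)
    simpa [mul_assoc] using this.trans ea.symm
  have t1 : a⁻¹ * P.t * a ∉ T1 P := fun h1 => u1 (inn _ (g * k)⁻¹ eu h1).symm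
  have rT := T1_T (R1 hr)
  have ur := (T_r hr h uT).resolve_left fun e => t1 (by
    rw [← h, Fr.cj_mul]; exact sq1 (ha' r rT (Fr.comm_of_fix e)))
  have e1 : r⁻¹ * u * r = u * P.t := by
    rw [show r⁻¹ * u * r = u * ((u⁻¹ * r * u)⁻¹ * r) by group, ur, inv_inv, h]
  obtain ⟨j, e2⟩ := out_z uT uo
  have tT1 := R1 P.tR
  have z1 : a⁻¹ * P.c ^ 4 * a ∉ T1 P := fun h1 => P.c4 (left_eq_mul.1 (inn _ _ e2 (by
    rw [Fr.cj_mul, ea]; exact mul_mem tT1 h1)).symm)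
  have h3 := inn (u * (P.t * P.c ^ 4)) (r * P.c ^ j) (by
    calc _ = (P.c ^ j)⁻¹ * (r⁻¹ * u * r) * P.c ^ j := by group
      _ = _ := by rw [e1, Fr.cj_mul, e2, Fr.cj_fix ((tT _ cT).pow_right j), mul_assoc, ((tT _ cT).pow_right 4).eq]) (by
    rw [Fr.cj_mul, Fr.cj_mul, ea]
    exact mul_mem tT1 (mul_out (ha' _ (T1_T tT1) (tT u uT)) (ha' _ (pow_mem cT 4) (zT uT)) t1 z1))
  exact t_nD (eq_inv_of_mul_eq_one_left (left_eq_mul.1 h3.symm) ▸ inv_mem (pow_mem cD 4))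

/-- If `R = ⟨t⟩` and `s² = t`, `T` (order `≤ 64`) is a Sylow 2-subgroup of `G`.
Proof. Let `S ≥ T` be Sylow, `n ∈ N_S(T) \ T`. `t ^ n ≠ t` (else `T ⊔ ⟨n⟩` is conjugate into `T`
by `syl`), `t ^ n ∈ Z(T) ≤ {1, t, z, t z}`. Commutators of `T` lie in `⟨c²⟩` and `z = ⁅c, s⁆`,
so `z ^ n = z`, `t ^ n = t z`. `s` and `s d c` do not commute and have square `t`; the elements
of `T` with square `t z` are `t ^ i s c ^ (± 2)` and commute with each other. -/
theorem Pf.twoa (P : Pf G) (hR : ∀ r ∈ P.R, r = 1 ∨ r = P.t) (hs : P.s * P.s = P.t) :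
    ¬ 2 ^ 7 ∣ Nat.card G := by
  intro h7
  have cT64 : Nat.card (T P) ≤ 64 := by
    have h1 : Nat.card (C P) = 8 := by rw [C, Nat.card_zpowers, orderOf_eq_prime_pow (p := 2) (n := 2) P.c4 P.c8]; rfl
    have h2 := card_le_two (X := C P) (Y := D P) P.d fun _ => mem_D
    have h3 := card_le_two (X := D P) (Y := T1 P) P.t fun x hx => by
      obtain ⟨r, hr, y, hy, rfl⟩ := mem_T1 hx
      rcases hR r hr with rfl | rfl
      exacts [Or.inl (by simpa using hy), Or.inr (by rwa [← mul_assoc, P.tt, one_mul])]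
    have h4 := card_le_two (X := T1 P) (Y := T P) P.s⁻¹ fun _ => mem_T0
    omega
  obtain ⟨S, hS⟩ := (p2 (P := P)).exists_le_sylow
  obtain ⟨n, nS, nT, hn⟩ := exists_norm S.isPGroup' (lt_of_le_of_ne hS fun e => by
    have := Nat.le_of_dvd Nat.card_pos (S.pow_dvd_card_of_pow_dvd_card h7)
    rw [← e] at this
    omega)
  have cR : ∀ r ∈ P.R, ∀ x ∈ T P, Commute r x := fun r hr x hx => by
    rcases hR r hr with rfl | rfl
    exacts [Commute.one_left x, tT x hx]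
  have r2 : ∀ r ∈ P.R, r * r = 1 := fun r hr => by
    rcases hR r hr with rfl | rfl
    exacts [mul_one 1, P.tt]
  have sqD : ∀ x ∈ T1 P, x * x ∈ D P := fun x hx => by
    obtain ⟨r, hr, y, hy, rfl⟩ := mem_T1 hx
    rw [mul_assoc, ← mul_assoc y, ← (cRD hr hy).eq, mul_assoc, ← mul_assoc, r2 r hr, one_mul]
    exact mul_mem hy hy
  have cn : ∀ x ∈ T P, (∀ y ∈ T P, Commute x y) → ∃ r ∈ P.R, n⁻¹ * x * n = r ∨ n⁻¹ * x * n = r * P.c ^ 4 := fun x hx hc =>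
    have k : ∀ y ∈ T P, Commute (n⁻¹ * x * n) y := fun y hy => by
      simpa [mul_assoc] using comm_cj (hc _ ((mem_normalizer_iff.1 hn y).1 hy)) n
    cen (norm_cj hn hx) (k _ cT) (k _ dT)
  have zn : n⁻¹ * P.c ^ 4 * n = P.c ^ 4 := by
    have h1 : n⁻¹ * P.c ^ 4 * n ∈ D P := by
      rw [show P.c ^ 4 = P.c * P.c * (P.c * P.c) by simp [pow_succ, mul_assoc], Fr.cj_mul, Fr.cj_mul]
      exact sqD _ (sq1 (norm_cj hn cT))
    obtain ⟨r, hr, e | e⟩ := cn _ (pow_mem cT 4) fun _ => zT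
    · exact (P.c4 (cj_eq_one.1 (e.trans (R3.RD hr (e ▸ h1))))).elim
    · rw [e, R3.RD hr ((mul_mem_cancel_right (pow_mem cD 4)).1 (e ▸ h1)), one_mul]
  have tn : n⁻¹ * P.t * n = P.t * P.c ^ 4 := by
    obtain ⟨r, hr, e | e⟩ := cn _ (T1_T (R1 P.tR)) tT <;> rcases hR r hr with rfl | rfl
    · exact (P.t1 (cj_eq_one.1 e)).elim
    · obtain ⟨k, -, hk⟩ := P.syl (T P ⊔ zpowers n) (S.isPGroup'.to_le (sup_le hS (zpowers_le.2 nS)))
        (comm_sup tT (by rintro _ ⟨j, rfl⟩; exact (Fr.comm_of_fix e).zpow_right j))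
      have h1 : Nat.card ↥(T P ⊔ zpowers n) ≤ Nat.card (T P) := card_cjs _ k ▸ card_le_of_le (cjs_ind hk)
      exact (nT (eq_of_le_of_card_ge le_sup_left h1 ▸ mem_sup_right (mem_zpowers n))).elim
    · have : P.t = P.c ^ 4 := by simpa [mul_assoc] using e.trans ((one_mul _).trans zn.symm)
      exact (t_nD (this ▸ pow_mem cD 4)).elim
    · exact e
  have s1 : P.s ∉ T1 P := fun k => t_nD (hs ▸ sqD _ k)
  have sc := (out sT s1).2
  have key : ∀ w ∈ T P, w * w = P.t * P.c ^ 4 → ∃ r ∈ P.R, ∃ j, w = P.s * (r * P.c ^ j) ∧ Commute (P.c ^ j) P.s := fun w hw e => by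
    obtain ⟨r, hr, y, hy, e'⟩ := mem_T1 (out hw fun k => t_nD ((mul_mem_cancel_right (pow_mem cD 4)).1 (e ▸ sqD w k))).1
    obtain rfl : w = P.s * (r * y) := by rw [e', mul_inv_cancel_left]
    have h1 : P.s⁻¹ * y * P.s * y = P.c ^ 4 := mul_left_cancel (a := P.t) (by
      rw [← e, ← hs]
      calc _ = P.s * (r * r) * y * P.s * y := by rw [r2 r hr]; group
        _ = P.s * r * (r * (y * P.s)) * y := by group
        _ = _ := by rw [(cR r hr _ (mul_mem (T1_T (D1 hy)) sT)).eq]; group)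
    obtain ⟨j, rfl | rfl⟩ := mem_D' hy
    · rw [cj_pow sc, ← pow_add] at h1
      have := c_eq h1
      exact ⟨r, hr, j, rfl, Fr.comm_of_fix ((cj_pow sc j).trans (cmod (by omega)))⟩
    · rw [Fr.cj_mul, Fr.cj_fix P.sd.symm, cj_pow sc, ← mul_assoc, dcd, ← pow_add] at h1
      have := c_eq h1
      omega
  obtain ⟨r, hr, i, e1, c1⟩ := key _ (norm_cj hn sT) (by rw [← Fr.cj_mul, hs, tn])
  obtain ⟨r', hr', j, e2, c2⟩ := key _ (norm_cj hn (mul_mem sT (mul_mem dT cT))) (by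
    rw [← Fr.cj_mul, ← tn, ← hs]
    congr 2
    calc _ = P.s * P.s * (P.s⁻¹ * (P.d * P.c) * P.s * P.d * P.c) := by group
      _ = _ := by rw [Fr.cj_mul, Fr.cj_fix P.sd.symm, sc, dcd, ← pow_succ, cmod (i := 3 * 5 + 1) (j := 0) rfl, pow_zero, mul_one])
  have h1 : Commute (P.s * (r * P.c ^ i)) (P.s * (r' * P.c ^ j)) :=
    ((Commute.refl _).mul_right ((cR r' hr' _ sT).symm.mul_right c2.symm)).mul_left
      ((cR r hr _ (e2 ▸ norm_cj hn (mul_mem sT (mul_mem dT cT)))).mul_left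
        (c1.mul_right (((P.cR r' hr').pow_left i).mul_right ((Commute.refl _).pow_pow i j))))
  rw [← e1, ← e2] at h1
  have h2 : Commute (P.d * P.c) P.s := by simpa using ((Commute.refl P.s).inv_right.mul_right (comm_of_cj h1)).symm
  have h3 := Fr.cj_fix h2
  rw [Fr.cj_mul, Fr.cj_fix P.sd.symm, sc, mul_right_inj] at h3
  simpa using c_eq (h3.trans (pow_one _).symm)

end CL.HL
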