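import Mathlib

/-!
# S3139 (Harris, `L₃(3)` as a 2-component): definitions

Conjugation is `x ^ g = g⁻¹ * x * g` throughout.  `t` is an involution, `T = ⟨t⟩ × ⟨c, d, s⟩`
is a Sylow 2-subgroup of `C(t)`, `D = ⟨c, d⟩` is semidihedral of order 16 with centre
`z = c ^ 4`, `e = d c²`; either `s = 1` (frame H1, `|T| = 32`) or `⟨c, d, s⟩ = Hol(Z₈)`
(frame H2, `|T| = 64`).  `V = ⟨z, d⟩ ≤ B = ⟨s, V⟩ ≤ E = ⟨t, B⟩ ≤ T0 = ⟨E, e⟩ ≤ T`.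
-/

set_option autoImplicit false
open Subgroup

namespace CL.HL

/-- What the engine proves. -/
def Concl (G : Type*) [Group G] : Prop :=
  ¬ 2 ^ 11 ∣ Nat.card G ∨ (¬ 2 ^ 12 ∣ Nat.card G ∧ ∃ N : Subgroup G, N.index = 2)

/-- The frame. -/
structure Fr (G : Type*) [Group G] where
  t : G
  s : G
  d : G
  c : G
  ρ : G
  χ : G → ZMod 2 × ZMod 2
  tt : t * t = 1
  ss : s * s = 1
  dd : d * d = 1
  c8 : c ^ 8 = 1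
  c4 : c ^ 4 ≠ 1
  dc : d * c * d = c ^ 3
  sc : s = 1 ∨ (s * c * s = c ^ 5 ∧ χ s = (0, 1))
  ts : Commute t s
  td : Commute t d
  tc : Commute t c
  tρ : Commute t ρ
  sd : Commute s d
  sρ : Commute s ρ
  zρ : ρ⁻¹ * c ^ 4 * ρ = d
  dρ : ρ⁻¹ * d * ρ = d * c ^ 4
  oρ : Odd (orderOf ρ)
  oeρ : Odd (orderOf ((d * c ^ 2 * ρ) ^ 2))
  χmul : ∀ x y, Commute t x → Commute t y → χ (x * y) = χ x + χ y
  χt : χ t = (1, 0)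
  χc : χ c = 0
  χd : χ d = 0
  syl : ∀ Y : Subgroup G, IsPGroup 2 Y → (∀ y ∈ Y, Commute t y) →
    ∃ h, Commute t h ∧ ∀ y ∈ Y, h⁻¹ * y * h ∈ closure ({t, s, d, c} : Set G)

variable {G : Type*} [Group G]

namespace Fr
variable (F : Fr G)

def z : G := F.c ^ 4
def e : G := F.d * F.c ^ 2
def V : Subgroup G := closure {F.z, F.d}
def B : Subgroup G := closure {F.s, F.z, F.d}
def E : Subgroup G := closure {F.t, F.s, F.z, F.d}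
def T0 : Subgroup G := closure {F.t, F.s, F.d, F.e}
def T : Subgroup G := closure {F.t, F.s, F.d, F.c}

/-- `c'` satisfies the relations of `c` over `T0` and centralises `t`. -/
structure Cr (c' : G) : Prop where
  tc : Commute F.t c'
  cc : c' * c' = F.d * F.e
  dc : c'⁻¹ * F.d * c' = F.e * F.z
  ec : c'⁻¹ * F.e * c' = F.d
  zc : Commute F.z c'
  sc : F.s ≠ 1 → c'⁻¹ * F.s * c' = F.s * F.z

/-- `ρ'` can replace `ρ`. -/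
structure Rr (ρ' : G) : Prop where
  tρ : Commute F.t ρ'
  sρ : Commute F.s ρ'
  zρ : ρ'⁻¹ * F.z * ρ' = F.d
  dρ : ρ'⁻¹ * F.d * ρ' = F.d * F.z
  oρ : Odd (orderOf ρ')
  oeρ : Odd (orderOf ((F.e * ρ') ^ 2))

theorem rr : F.Rr F.ρ := ⟨F.tρ, F.sρ, F.zρ, F.dρ, F.oρ, F.oeρ⟩

/-- The frame with `ρ` replaced; `t s d c z e V B E T0 T` are unchanged by `rfl`. -/
def withρ {ρ' : G} (h : F.Rr ρ') : Fr G :=
  { F with ρ := ρ', tρ := h.tρ, sρ := h.sρ, zρ := h.zρ, dρ := h.dρ, oρ := h.oρ, oeρ := h.oeρ }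

end Fr

/-- Facts on the 2-subgroups of `C(u)`, valid for every conjugate `u` of `t`. -/
structure Lc (u : G) : Prop where
  nsq : ∀ g : G, g * g ≠ u
  b64 : ∀ Y : Subgroup G, IsPGroup 2 Y → (∀ y ∈ Y, Commute u y) → Nat.card Y ≤ 64
  rk : ∀ X : Subgroup G, (∀ x ∈ X, x * x = 1) → (∀ x ∈ X, Commute u x) → Nat.card X ≤ 16
  n16 : ∀ X Y : Subgroup G, (∀ x ∈ X, x * x = 1) → Nat.card X = 16 → u ∈ X → IsPGroup 2 Y →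
    (∀ y ∈ Y, Commute u y) → Y ≤ normalizer (X : Set G) → Nat.card Y ≤ 32
  c16 : ∀ X Y : Subgroup G, (∀ x ∈ X, x * x = 1) → Nat.card X = 16 → u ∈ X → IsPGroup 2 Y →
    (∀ y ∈ Y, ∀ x ∈ X, Commute x y) → Nat.card Y ≤ 16
  c8 : ∀ X Y : Subgroup G, (∀ x ∈ X, x * x = 1) → Nat.card X = 8 → u ∈ X → IsPGroup 2 Y →
    (∀ y ∈ Y, ∀ x ∈ X, Commute x y) → Nat.card Y ≤ 32
  sq8 : ∀ X Y : Subgroup G, (∀ x ∈ X, x * x = 1) → Nat.card X = 8 → u ∈ X → IsPGroup 2 Y →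
    (∀ y ∈ Y, ∀ x ∈ X, Commute x y) → Nat.card Y = 32 →
    ∀ g ∈ Y, ∀ h ∈ Y, g * g ≠ 1 → h * h ≠ 1 → g * g = h * h

/-- The 2-group `U` with `U ⟨e⟩` Sylow in `N(E)` and `U / E` regular on `t ^ G ∩ E ⊆ t B`. -/
structure UD (F : Fr G) where
  U : Subgroup G
  p2 : IsPGroup 2 U
  EU : F.E ≤ U
  UN : U ≤ normalizer (F.E : Set G)
  cU : ∀ u ∈ U, Commute F.t u → u ∈ F.E
  eU : F.e ∈ normalizer (U : Set G)
  ρU : F.ρ ∈ normalizer (U : Set G)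
  syl : ∀ Y : Subgroup G, IsPGroup 2 Y → Y ≤ normalizer (F.E : Set G) → U ≤ Y → F.e ∈ Y →
    ∀ y ∈ Y, y ∈ U ∨ y * F.e ∈ U
  nB : ∀ b ∈ F.B, ¬ IsConj F.t b

/-- Orbit `t V` of length 4 (the only case if `s = 1`). -/
structure K4 (F : Fr G) extends UD F where
  cB : ∀ u ∈ U, ∀ b ∈ F.B, Commute b u
  tr : ∀ v ∈ F.V, ∃ u ∈ U, u⁻¹ * F.t * u = F.t * v
  orb : ∀ b ∈ F.B, IsConj F.t (F.t * b) → b ∈ F.V
  ns : ∀ g ∈ normalizer (F.E : Set G), Commute F.z g → Commute F.d g → Commute F.s g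

/-- Orbit `t B` of length 8, `U` induces the translations. -/
structure T8 (F : Fr G) extends UD F where
  two : F.s ≠ 1
  cB : ∀ u ∈ U, ∀ b ∈ F.B, Commute b u
  tr : ∀ b ∈ F.B, ∃ u ∈ U, u⁻¹ * F.t * u = F.t * b

/-- Orbit `t B` of length 8, `U` acts on `B` as the group of transvections with centre `s`. -/
structure N8 (F : Fr G) extends UD F where
  two : F.s ≠ 1
  act : ∀ u ∈ U, ∀ b ∈ F.B, u⁻¹ * b * u = b ∨ u⁻¹ * b * u = b * F.s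
  cs : ∀ u ∈ U, Commute F.s u
  sqE : ∀ u ∈ U, u * u ∈ F.E
  tr : ∀ b ∈ F.B, ∃ u ∈ U, u⁻¹ * F.t * u = F.t * b
  em : ∃ m ∈ U, m⁻¹ * F.t * m = F.t * F.s ∧ Commute F.z m ∧ Commute F.d m
  ey : ∃ y ∈ U, y⁻¹ * F.t * y = F.t * F.z * F.s ∧ Commute F.z y ∧ y⁻¹ * F.d * y = F.d * F.s

/-- Hypotheses of Lemma A (`A` elementary abelian of order at most 64). -/
structure LA (G : Type*) [Group G] where
  A : Subgroup G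
  t : G
  e : G
  el : ∀ a ∈ A, a * a = 1
  card : Nat.card A ≤ 64
  tt : t * t = 1
  ee : e * e = 1
  te : Commute t e
  tA : ∀ a ∈ A, t * a * t ∈ A
  eA : ∀ a ∈ A, e * a * e ∈ A
  big : ∀ u : G, (u = t ∨ u = e ∨ u = t * e) →
    4 * Nat.card ↥(A ⊓ centralizer {u}) ≤ Nat.card A
  big2 : 8 * Nat.card ↥(A ⊓ centralizer {t, e}) ≤ Nat.card A
  fus : ∀ a ∈ A, IsConj t (t * a) → ∃ b ∈ A, b⁻¹ * t * b = t * a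
  max0 : ∀ Y : Subgroup G, IsPGroup 2 Y → (∀ y ∈ Y, Commute t y) → Y ≤ normalizer (A : Set G) →
    Nat.card Y ≤ 4 * Nat.card ↥(A ⊓ centralizer {t})
  up : ∀ Y : Subgroup G, IsPGroup 2 Y → (∀ y ∈ Y, Commute t y) →
    (A ⊓ centralizer {t}) ⊔ closure {t, e} < Y →
    ∃ g ∈ Y, g ∉ (A ⊓ centralizer {t}) ⊔ closure {t, e} ∧ g * g ≠ 1 ∧ g * g ∈ A ∧ Commute e (g * g)
  lc : ∀ u : G, IsConj t u → Lc u

/-- The configuration of Lemma A when `A` is not normal in the Sylow subgroup `S`: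
`J = A A'`, `Z0 = A ∩ A' = Z(J)`, `J / Z0 = ⟨a1, a2, b1, b2⟩` of order 16, `N_S(A) = J ⟨t⟩`. -/
structure JD (L : LA G) where
  S : Sylow 2 G
  A' : Subgroup G
  x : G
  a1 : G
  a2 : G
  b1 : G
  b2 : G
  AS : L.A ≤ S
  tS : L.t ∈ S
  eS : L.e ∈ S
  xS : x ∈ S
  xA : ∀ a, a ∈ L.A ↔ x⁻¹ * a * x ∈ A'
  xA' : ∀ b, b ∈ A' ↔ x⁻¹ * b * x ∈ L.A
  tA' : ∀ b ∈ A', L.t * b * L.t ∈ A'
  a1A : a1 ∈ L.A
  a2A : a2 ∈ L.A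
  b1A : b1 ∈ A'
  b2A : b2 ∈ A'
  na : a1 ∉ A' ∧ a2 ∉ A' ∧ a1 * a2 ∉ A'
  nb : b1 ∉ L.A ∧ b2 ∉ L.A ∧ b1 * b2 ∉ L.A
  card : Nat.card L.A = 4 * Nat.card ↥(L.A ⊓ A')
  decA : ∀ a ∈ L.A, a ∈ A' ∨ a * a1 ∈ A' ∨ a * a2 ∈ A' ∨ a * (a1 * a2) ∈ A'
  decB : ∀ b ∈ A', b ∈ L.A ∨ b * b1 ∈ L.A ∨ b * b2 ∈ L.A ∨ b * (b1 * b2) ∈ L.A
  cm : ∀ a ∈ L.A, ∀ b ∈ A', a * b * a * b ∈ L.A ⊓ A'
  ta : L.t * a1 * L.t * a2 ∈ A'
  tb : L.t * b1 * L.t * b2 ∈ L.A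
  tJ : L.t ∉ L.A ⊔ A'
  nS : ∀ g ∈ S, g ∈ normalizer (L.A : Set G) → g ∈ L.A ⊔ A' ∨ g * L.t ∈ L.A ⊔ A'
  z0 : ∀ a ∈ L.A, Commute L.t a → Commute L.e a → a ∈ A'
  fusJ : ∀ j ∈ L.A ⊔ A', IsConj L.t (L.t * j) → ∃ k ∈ L.A ⊔ A', k⁻¹ * L.t * k = L.t * j
  ty : (∀ a ∈ L.A, a ∉ A' → ∀ b ∈ A', b ∉ L.A → ¬ Commute a b) ∨
    (Commute a1 b1 ∧ Commute a2 b2 ∧ ¬ Commute a1 b2 ∧ ¬ Commute a2 b1 ∧
      a1 * b2 * a1 * b2 ≠ a2 * b1 * a2 * b1)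

/-- The pre-frame: `T = (R × ⟨c, d⟩) ⟨s⟩` is a Sylow 2-subgroup of `C(t)`, `R ∋ t` cyclic. -/
structure Pf (G : Type*) [Group G] where
  t : G
  s : G
  d : G
  c : G
  ρ : G
  R : Subgroup G
  tt : t * t = 1
  t1 : t ≠ 1
  dd : d * d = 1
  c8 : c ^ 8 = 1
  c4 : c ^ 4 ≠ 1
  dc : d * c * d = c ^ 3
  R2 : IsPGroup 2 R
  Rc : IsCyclic R
  tR : t ∈ R
  cR : ∀ r ∈ R, Commute c r
  dR : ∀ r ∈ R, Commute d r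
  RD : R ⊓ closure {c, d} = ⊥
  sc : s = 1 ∨ s⁻¹ * c * s = c ^ 5
  sd : Commute s d
  ss : s * s ∈ R
  sR : s ∈ normalizer (R : Set G)
  tρ : Commute t ρ
  zρ : ρ⁻¹ * c ^ 4 * ρ = d
  syl : ∀ Y : Subgroup G, IsPGroup 2 Y → (∀ y ∈ Y, Commute t y) →
    ∃ h, Commute t h ∧ ∀ y ∈ Y, h⁻¹ * y * h ∈ R ⊔ closure ({s, d, c} : Set G)

end CL.HL
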