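import Cfsg.Agent.INV.HL.LA3

/-! STUB (S3139, captain h73). Keep the statements verbatim; helper files `INV/HL/Fpfa.lean`, ... are
welcome. Notation: `x ^ g = g⁻¹ * x * g`, `~` is conjugacy in `G`. API: `HL/Defs`, `HL/Loc`, `HL/Odd`. -/

set_option autoImplicit false
open Subgroup
open scoped commutatorElement

namespace CL.HL.Fp

variable {W : Type*} [Group W]

theorem r3 {ρ : MulAut W} (h3 : ρ ^ 3 = 1) (x : W) : ρ (ρ (ρ x)) = x := by
  have := congrArg (fun f : MulAut W => f x) h3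
  simpa [pow_succ] using this

theorem ar {ρ a : MulAut W} (h3 : ρ ^ 3 = 1) (h2 : a * a = 1) (hi : a * ρ * a = ρ⁻¹) (x : W) :
    a (ρ x) = ρ (ρ (a x)) := by
  have h1 : a * ρ = ρ * ρ * a := by
    rw [← mul_one (a * ρ), ← h2, ← mul_assoc, hi, inv_eq_of_mul_eq_one_left (a := ρ * ρ)]
    rw [← h3, pow_succ, pow_two]
  exact congrArg (fun f : MulAut W => f x) h1

/-- Restriction of an automorphism to an invariant subgroup. -/
def res (N : Subgroup W) (φ : MulAut W) (h : ∀ x, x ∈ N ↔ φ x ∈ N) : MulAut N :=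
  { φ.toEquiv.subtypeEquiv h with map_mul' := fun x y => Subtype.ext (map_mul φ (x : W) y) }

theorem surj [Finite W] {ρ : MulAut W} (hf : ∀ x, ρ x = x → x = 1) (y : W) :
    ∃ x, x⁻¹ * ρ x = y := by
  refine (Finite.injective_iff_surjective (f := fun x => x⁻¹ * ρ x)).1 (fun x x' h => ?_) y
  refine (mul_inv_eq_one.1 (hf (x' * x⁻¹) ?_)).symm
  rw [map_mul, map_inv, eq_inv_mul_iff_mul_eq.1 h |>.symm]
  group

end CL.HL.Fp

namespace CL.HL

/-- Proof. `x ↦ x⁻¹ * ρ x` is injective, so bijective; hence `x * ρ x * ρ (ρ x) = 1` for all `x`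
and also (apply to `x⁻¹`, invert) `ρ (ρ x) * ρ x * x = 1`; so `x` commutes with `ρ x`.
The fibres of `x ↦ x⁻¹ * a x` are cosets of `C(a)` and the values lie in
`I = {y | a y = y⁻¹}`, so `|N| ≤ |C(a)| |I|`. The map `y ↦ ρ y * (ρ (ρ y))⁻¹` is injective and
sends `I` into `C(a)` (`a (ρ y) = ρ⁻¹ (a y) = (ρ (ρ y))⁻¹`, `a (ρ (ρ y)) = (ρ y)⁻¹`). -/
theorem fpf {N : Type*} [Group N] [Finite N] (ρ a : MulAut N) (h3 : ρ ^ 3 = 1) (h2 : a * a = 1)
    (hi : a * ρ * a = ρ⁻¹) (hf : ∀ x, ρ x = x → x = 1) :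
    Nat.card N ≤ Nat.card {x : N // a x = x} ^ 2 := by
  have k1 : ∀ x, x * ρ x * ρ (ρ x) = 1 := fun y => by
    obtain ⟨x, rfl⟩ := Fp.surj hf y
    simp only [map_mul, map_inv, Fp.r3 h3]
    group
  have k2 : ∀ x, Commute x (ρ x) := fun x => by
    have h1 := k1 x⁻¹
    rw [map_inv, map_inv, ← mul_inv_rev, ← mul_inv_rev, inv_eq_one] at h1
    exact (eq_inv_of_mul_eq_one_left (k1 x)).trans (eq_inv_of_mul_eq_one_right h1).symm
  have aa : ∀ x, a (a x) = x := fun x => congrArg (fun f : MulAut N => f x) h2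
  have h1 := Jm.card_le_cover (Set.univ : Set N) (MonoidHom.eqLocus a.toMonoidHom (MonoidHom.id N))
    (fun x => (⟨x * (a x)⁻¹, by simp [aa]⟩ : {y : N // a y = y⁻¹})) fun x y h => by
      have h' : (x : N) * (a x)⁻¹ = y * (a y)⁻¹ := congrArg Subtype.val h
      show a ((x : N)⁻¹ * y) = (x : N)⁻¹ * y
      rw [map_mul, map_inv, ← inv_mul_cancel_left (x : N) (a x)⁻¹, h']
      group
  have h4 : Nat.card {y : N // a y = y⁻¹} ≤ Nat.card {x : N // a x = x} := by
    refine Nat.card_le_card_of_injective (fun y => ⟨ρ y * (ρ (ρ y))⁻¹, ?_⟩) fun y y' h => ?_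
    · simp only [map_mul, map_inv, Fp.ar h3 h2 hi, y.2, Fp.r3 h3, inv_inv]
      exact (k2 (ρ y)).inv_right.eq.symm
    · have h' : ρ y * (ρ (ρ y))⁻¹ = ρ y' * (ρ (ρ y'))⁻¹ := congrArg Subtype.val h
      have h5 : (y : N) * (ρ y)⁻¹ = y' * (ρ y')⁻¹ := ρ.injective (by simpa using h')
      refine Subtype.ext (inv_mul_eq_one.1 (hf _ ?_))
      rw [map_mul, map_inv, ← inv_mul_cancel_left (y : N) (ρ y)⁻¹, h5]
      group
  rw [Nat.card_univ] at h1
  exact h1.trans (by rw [pow_two]; exact Nat.mul_le_mul h4 le_rfl)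

/-- Proof by induction on `|W|`. If `τ` is central, `W` is elementary abelian and `N` is the
kernel of `x ↦ x * ρ x * ρ (ρ x)` (values in `{1, τ}`, `τ ↦ τ`). Otherwise `Z = Z(W) ≠ 1`,
`τ ∉ Z`, `ρ` has no non-trivial fixed point on `Z`, so `|Z| ≡ 1 (mod 3)`, `|Z| ≥ 4`, and
`⟨τ⟩ Z ≤ C(τ)` gives `|Z| = 4`, `|C(τ)| = 8`. Pass to `W / Z`. A `ρ`-invariant coset has 4
elements, so contains a fixed point: the fixed points are `1, τ̄`. On the preimage `U` of
`C(τ̄)` the map `g ↦ ⁅τ, g⁆ ∈ Z` is a homomorphism with kernel `C(τ)`, so `|C(τ̄)| ≤ 8`.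
Let `x ∈ U` with `x̄² ≠ 1`. If `x̄² = τ̄`, `x² = τ ζ`, then `x` commutes with `τ`, `x² = 1`,
absurd. Otherwise `C(τ̄)` (order `≤ 8`, `τ̄` central) is `⟨x̄⟩` cyclic of order 8 or
`⟨x̄⟩ × ⟨τ̄⟩`; in the first case the two elements of order 4 are permuted by `ρ̄`, so fixed,
in the second case `x̄²` is the only non-trivial square, so fixed; both contradict the list of
fixed points. Pull back the subgroup given by induction. -/
theorem exists_half {W : Type*} [Group W] [Finite W] (hW : IsPGroup 2 W) (ρ : MulAut W)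
    (h3 : ρ ^ 3 = 1) (τ : W) (hτ : τ ≠ 1) (hfix : ∀ x, ρ x = x ↔ x = 1 ∨ x = τ)
    (hel : ∀ x, Commute τ x → x * x = 1) (h8 : Nat.card ↥(centralizer ({τ} : Set W)) ≤ 8) :
    ∃ N : Subgroup W, N.index = 2 ∧ τ ∉ N ∧ ∀ x ∈ N, ρ x ∈ N := by
  induction hn : Nat.card W using Nat.strong_induction_on generalizing W with
  | _ n ih =>
  have ρτ : ρ τ = τ := (hfix τ).2 (.inr rfl)
  have ττ : τ * τ = 1 := hel τ (Commute.refl τ)
  by_cases hc : τ ∈ center W
  · have h1 : ∀ x : W, x * x = 1 := fun x => hel x (mem_center_iff.1 hc x).symm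
    letI : CommGroup W := { (inferInstance : Group W) with
      mul_comm := fun a b => (Jm.comm_of_el (H := ⊤) (fun x _ => h1 x) trivial trivial).eq }
    let f : W →* W := MonoidHom.mk' (fun x => x * ρ x * ρ (ρ x)) fun x y => by
      simp only [map_mul]
      ac_rfl
    have hf : ∀ x, f x = x * ρ x * ρ (ρ x) := fun _ => rfl
    have fτ : f τ = τ := by rw [hf, ρτ, ρτ, ττ, one_mul]
    have fρ : ∀ x, f (ρ x) = f x := fun x => by
      rw [hf, hf, Fp.r3 h3]
      ac_rfl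
    refine ⟨f.ker, index_eq_two_iff.2 ⟨τ, fun b => ?_⟩, fun h => hτ (fτ ▸ h), fun x hx => ?_⟩
    · rw [MonoidHom.mem_ker, MonoidHom.mem_ker, map_mul, fτ]
      rcases (hfix (f b)).1 (by nth_rw 2 [← fρ b]; simp only [hf, map_mul]) with h | h <;> rw [h]
      · exact .inr ⟨rfl, by simpa using hτ⟩
      · exact .inl ⟨ττ, hτ⟩
    · rw [MonoidHom.mem_ker, fρ]
      exact hx
  have : Nontrivial W := ⟨⟨τ, 1, hτ⟩⟩
  have hZ : ∀ z ∈ center W, ρ z ∈ center W := fun z hz => mem_center_iff.2 fun g => by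
    obtain ⟨g, rfl⟩ := ρ.surjective g
    rw [← map_mul, ← map_mul, mem_center_iff.1 hz]
  have zz : ∀ z ∈ center W, z * z = 1 := fun z hz => hel z (mem_center_iff.1 hz τ)
  have c4 : 4 ≤ Nat.card (center W) := by
    classical
    have := hW.center_nontrivial
    obtain ⟨⟨z, hz⟩, z1⟩ := exists_ne (1 : center W)
    replace z1 : z ≠ 1 := fun h => z1 (Subtype.ext h)
    have n1 : ρ z ≠ z := fun h => ((hfix z).1 h).elim z1 fun h => hc (h ▸ hz)
    have n2 : ρ (ρ z) ≠ z := fun h => n1 (by have := Fp.r3 h3 z; rwa [h] at this)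
    have : ({1, z, ρ z, ρ (ρ z)} : Set W).ncard = 4 := by
      rw [Set.ncard_insert_of_notMem, Set.ncard_insert_of_notMem, Set.ncard_pair]
      · simpa using n1.symm
      · simp [n1.symm, n2.symm]
      · simp [z1.symm, z1, eq_comm (a := (1 : W))]
    rw [← this, ← SetLike.coe_sort_coe, Nat.card_coe_set_eq]
    refine Set.ncard_le_ncard ?_
    rintro _ (rfl | rfl | rfl | rfl)
    exacts [one_mem _, hz, hZ _ hz, hZ _ (hZ _ hz)]
  have ZC : center W ≤ centralizer {τ} := center_le_centralizer _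
  have h1 := ((center W).subgroupOf (centralizer {τ})).index_mul_card
  rw [Nat.card_congr (subgroupOfEquivOfLe ZC).toEquiv] at h1
  have τC : τ ∈ centralizer {τ} := Jm.mem_cen.2 (Commute.refl τ)
  have h2 : ((center W).subgroupOf (centralizer {τ})).index = 2 := by
    have k0 : ((center W).subgroupOf (centralizer {τ})).index ≠ 0 := index_ne_zero_of_finite
    have k1 : ((center W).subgroupOf (centralizer {τ})).index ≠ 1 := fun h =>
      hc (subgroupOf_eq_top.1 (index_eq_one.1 h) τC)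
    by_contra k2
    have : 3 * 4 ≤ ((center W).subgroupOf (centralizer {τ})).index * Nat.card (center W) :=
      Nat.mul_le_mul (by omega) c4
    omega
  have c4' : Nat.card (center W) = 4 := by
    rw [h2] at h1
    omega
  let π := QuotientGroup.mk' (center W)
  have hπ : Function.Surjective π := QuotientGroup.mk'_surjective _
  have π1 : ∀ x, π x = 1 ↔ x ∈ center W := fun x => QuotientGroup.eq_one_iff x
  let σ : MulAut (W ⧸ center W) := QuotientGroup.congr _ _ ρ (characteristic_iff_map_eq.1 inferInstance ρ)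
  have hσ : ∀ x, σ (π x) = π (ρ x) := fun _ => rfl
  have cm : ∀ x, Commute (π τ) (π x) ↔ ⁅x, τ⁆ ∈ center W := fun x => by
    rw [← π1, map_commutatorElement, commutatorElement_eq_one_iff_commute]
    exact Commute.symm_iff
  have hq := card_eq_card_quotient_mul_card_subgroup (center W)
  suffices H : ∃ N : Subgroup (W ⧸ center W), N.index = 2 ∧ π τ ∉ N ∧ ∀ x ∈ N, σ x ∈ N by
    obtain ⟨N, k1, k2, k3⟩ := H
    exact ⟨N.comap π, (index_comap_of_surjective _ hπ).trans k1, k2, fun x hx => k3 _ hx⟩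
  refine ih (Nat.card (W ⧸ center W)) (by
      have : 0 < Nat.card (W ⧸ center W) := Nat.card_pos
      rw [← hn, hq, c4']
      omega) (hW.to_quotient _) σ ?_ (π τ) (fun h => hc ((π1 τ).1 h)) ?_ ?_ ?_ rfl
  · ext q
    obtain ⟨x, rfl⟩ := hπ q
    simp only [pow_succ, pow_zero, one_mul, MulAut.mul_apply, hσ, Fp.r3 h3, MulAut.one_apply]
  · intro q
    obtain ⟨x, rfl⟩ := hπ q
    refine ⟨fun h => ?_, ?_⟩
    · have hz : x⁻¹ * ρ x ∈ center W := (π1 _).1 (by rw [map_mul, map_inv, ← hσ, h, inv_mul_cancel])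
      obtain ⟨z, hz, hx⟩ : ∃ z ∈ center W, ρ x = x * z := ⟨_, hz, by group⟩
      have e1 : z * ρ z * ρ (ρ z) = 1 := by
        have := Fp.r3 h3 x
        simp only [hx, map_mul, mul_assoc, mul_eq_left] at this
        rwa [mul_assoc]
      have e2 : ρ (x * ρ z) = x * ρ z := by
        rw [map_mul, hx, eq_inv_of_mul_eq_one_right e1, Jm.inv_of_sq (zz _ (mul_mem hz (hZ _ hz))),
          mul_assoc, ← mul_assoc z, zz z hz, one_mul]
      have e3 : π x = π (x * ρ z) := by rw [map_mul, (π1 _).2 (hZ _ hz), mul_one]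
      rw [e3]
      exact ((hfix _).1 e2).imp (fun h => by rw [h, map_one]) fun h => by rw [h]
    · rintro (h | h) <;> rw [h]
      · exact map_one _
      · rw [hσ, ρτ]
  · intro q hq
    obtain ⟨x, rfl⟩ := hπ q
    have e1 := (cm x).1 hq
    have e2 : x * x ∈ centralizer {τ} := by
      refine Jm.mem_cen.2 (mul_inv_eq_iff_eq_mul.1 ?_).symm
      have e3 : x * τ * x⁻¹ = ⁅x, τ⁆ * τ := by rw [commutatorElement_def]; group
      calc x * x * τ * (x * x)⁻¹ = x * (x * τ * x⁻¹) * x⁻¹ := by group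
        _ = ⁅x, τ⁆ * (x * τ * x⁻¹) := by rw [e3, ← mul_assoc x, mem_center_iff.1 e1 x, ← e3]; group
        _ = τ := by rw [e3, ← mul_assoc, zz _ e1, one_mul]
    rw [← map_mul, π1]
    by_contra e3
    have e4 : τ * (x * x) ∈ center W :=
      (mul_mem_iff_of_index_two h2 (a := ⟨τ, τC⟩) (b := ⟨_, e2⟩)).2 ⟨fun h => (hc h).elim,
        fun h => (e3 h).elim⟩
    have e5 : Commute τ x := by
      have := (show Commute (τ * (x * x)) x from (mem_center_iff.1 e4 x).symm).mul_left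
        ((Commute.refl x).mul_left (Commute.refl x)).inv_left
      rwa [mul_inv_cancel_right] at this
    exact e3 (hel x e5 ▸ one_mem _)
  · have e1 := Jm.card_le_cover (((centralizer {π τ}).comap π : Subgroup W) : Set W)
      (centralizer {τ}) (fun x => (⟨⁅(x : W), τ⁆, (cm x).1 (Jm.mem_cen.1 x.2)⟩ : center W))
      fun x y h => Jm.mem_cen.2 (JD.comm_eq_comm (congrArg Subtype.val h))
    have e2 := ((centralizer {π τ}).comap π).index_mul_card
    have e3 := (centralizer {π τ}).index_mul_card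
    rw [index_comap_of_surjective _ hπ, hq, ← e3, c4', mul_assoc] at e2
    have e4 := Nat.eq_of_mul_eq_mul_left (Nat.pos_of_ne_zero index_ne_zero_of_finite) e2
    simp only [SetLike.coe_sort_coe, c4'] at e1
    omega

/-- Proof. Take `N` from `exists_half`. `a` permutes the fixed points of `ρ`, so `a τ = τ`.
`N` is `a`-invariant: `N' = a N` has index 2 and is `ρ`-invariant, every element of `N` is
`x⁻¹ * ρ x` with `x ∈ N` (no fixed points in `N`), which lies in `N'` (index 2). Apply `fpf` to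
`N`: `|W| = 2 |N| ≤ 2 |C_N(a)|²` and `|C_W(a)| ≥ 2 |C_N(a)|`. -/
theorem fpf2 {W : Type*} [Group W] [Finite W] (hW : IsPGroup 2 W) (ρ a : MulAut W)
    (h3 : ρ ^ 3 = 1) (h2 : a * a = 1) (hi : a * ρ * a = ρ⁻¹) (τ : W) (hτ : τ ≠ 1)
    (hfix : ∀ x, ρ x = x ↔ x = 1 ∨ x = τ) (hel : ∀ x, Commute τ x → x * x = 1)
    (h8 : Nat.card ↥(centralizer ({τ} : Set W)) ≤ 8) :
    2 * Nat.card W ≤ Nat.card {x : W // a x = x} ^ 2 := by
  obtain ⟨N, k1, k2, k3⟩ := exists_half hW ρ h3 τ hτ hfix hel h8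
  have aa : ∀ x, a (a x) = x := fun x => congrArg (fun f : MulAut W => f x) h2
  have iffρ : ∀ M : Subgroup W, (∀ x ∈ M, ρ x ∈ M) → ∀ x, x ∈ M ↔ ρ x ∈ M := fun M h x =>
    ⟨h x, fun h1 => Fp.r3 h3 x ▸ h _ (h _ h1)⟩
  have aτ : a τ = τ := by
    have ρτ : ρ τ = τ := (hfix τ).2 (.inr rfl)
    have h1 := Fp.ar h3 h2 hi τ
    rw [ρτ] at h1
    refine ((hfix (a τ)).1 ?_).resolve_left (by simpa using hτ)
    nth_rw 1 [h1]
    exact Fp.r3 h3 _
  let ρ' := Fp.res N ρ (iffρ N k3)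
  have hf : ∀ x, ρ' x = x → x = 1 := fun x h =>
    ((hfix x).1 (congrArg Subtype.val h)).elim (fun h => Subtype.ext h) fun h => (k2 (h ▸ x.2)).elim
  have k4 : ∀ x ∈ N, a x ∈ N := by
    intro y hy
    obtain ⟨x, hx⟩ := Fp.surj hf ⟨y, hy⟩
    obtain rfl : (x : W)⁻¹ * ρ x = y := congrArg Subtype.val hx
    refine (mul_mem_iff_of_index_two (H := N.comap a.toMonoidHom)
      ((index_comap_of_surjective _ a.surjective).trans k1)).2 ?_
    rw [inv_mem_iff]
    exact iffρ _ (fun z hz => by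
      show a (ρ z) ∈ N
      rw [Fp.ar h3 h2 hi]
      exact k3 _ (k3 _ hz)) _
  let a' := Fp.res N a fun x => ⟨k4 x, fun h => aa x ▸ k4 _ h⟩
  have h4 := fpf ρ' a' (MulEquiv.ext fun x => Subtype.ext (Fp.r3 h3 (x : W)))
    (MulEquiv.ext fun x => Subtype.ext (aa (x : W)))
    (MulEquiv.ext fun x => Subtype.ext (congrArg (fun f : MulAut W => f x) hi)) hf
  have h5 : Nat.card (Bool × {x : N // a' x = x}) ≤ Nat.card {x : W // a x = x} := by
    have fx : ∀ x : {x : N // a' x = x}, a x.1 = x.1 := fun x => congrArg Subtype.val x.2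
    refine Nat.card_le_card_of_injective (fun p => if p.1 then ⟨τ * p.2.1, by rw [map_mul, aτ, fx]⟩
      else ⟨p.2.1, fx _⟩) ?_
    rintro ⟨_ | _, x⟩ ⟨_ | _, y⟩ h <;> have h' := congrArg Subtype.val h <;>
      simp only [Bool.false_eq_true, if_false, if_true] at h'
    · rw [Subtype.ext (Subtype.ext h')]
    · exact (k2 ((N.mul_mem_cancel_right y.1.2).1 (h' ▸ x.1.2))).elim
    · exact (k2 ((N.mul_mem_cancel_right x.1.2).1 (h' ▸ y.1.2))).elim
    · rw [Subtype.ext (Subtype.ext (mul_left_cancel h'))]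
  rw [Nat.card_prod, Nat.card_eq_fintype_card (α := Bool), Fintype.card_bool] at h5
  rw [← N.index_mul_card, k1]
  calc 2 * (2 * Nat.card N) ≤ (2 * Nat.card {x : N // a' x = x}) ^ 2 := by
        rw [mul_pow]; omega
    _ ≤ _ := Nat.pow_le_pow_left h5 2

end CL.HL
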