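import Cfsg.Agent.INV.HL.Orba
import Cfsg.Agent.SOLV.FrobeniusNil
import Cfsg.Agent.INV.JR.Count

/-! S3139: a Sylow 2-subgroup of `C(B)` normalised by `e` and a good `ρ'`. Notation:
`x ^ g = g⁻¹ * x * g`, `~` is conjugacy in `G`. -/

set_option autoImplicit false
set_option linter.style.haveILetI false
open Subgroup CL.MSS CL.HL.Od CL.HL.Ob

namespace CL.HL
variable {G : Type*} [Group G] [Finite G] {F : Fr G}

namespace Iv

omit [Finite G] in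
/-- The automorphism of `M / N` induced by conjugation. -/
theorem exists_qa {M N : Subgroup G} [(N.subgroupOf M).Normal] {r : G} (hM : r ∈ normalizer (M : Set G))
    (hN : r ∈ normalizer (N : Set G)) : ∃ φ : MulAut (M ⧸ N.subgroupOf M),
      ∀ x : M, φ (x : M ⧸ N.subgroupOf M) = ((⟨r * x * r⁻¹, cj hM x.2⟩ : M) : M ⧸ N.subgroupOf M) := by
  refine ⟨QuotientGroup.congr _ _ (M.normalizerMonoidHom ⟨r, hM⟩) ?_, fun x => rfl⟩
  ext x
  constructor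
  · rintro ⟨y, hy, rfl⟩; exact cj hN (mem_subgroupOf.1 hy)
  · intro hx
    refine ⟨⟨r⁻¹ * x * r, cj' hM x.2⟩, cj' hN (mem_subgroupOf.1 hx), Subtype.ext ?_⟩
    change r * (r⁻¹ * x * r) * r⁻¹ = x
    group

/-- `M / N` is nilpotent (Thompson), so its 2-elements form a subgroup. -/
theorem exists_Q {M N : Subgroup G} {r : G} (hn : M ≤ normalizer (N : Set G))
    (hM : r ∈ normalizer (M : Set G)) (hN : r ∈ normalizer (N : Set G)) (h3 : r ^ 3 ∈ N)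
    (hf : ∀ g ∈ M, g⁻¹ * (r * g * r⁻¹) ∈ N → g ∈ N) :
    ∃ Q : Subgroup G, ∀ g, g ∈ Q ↔ g ∈ M ∧ ∃ k : ℕ, g ^ 2 ^ k ∈ N := by
  haveI := Fact.mk Nat.prime_two
  haveI : (N.subgroupOf M).Normal := ⟨fun x hx g => mem_subgroupOf.2 (cj (hn g.2) (mem_subgroupOf.1 hx))⟩
  obtain ⟨φ, hφ⟩ := exists_qa hM hN
  have fp : ∀ x, φ x = x → x = 1 := fun x hx => by
    obtain ⟨x, rfl⟩ := QuotientGroup.mk_surjective x
    rw [hφ, eq_comm, QuotientGroup.eq] at hx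
    exact (QuotientGroup.eq_one_iff _).2 (hf x x.2 hx)
  have p3 : φ ^ 3 = 1 := by
    ext x
    obtain ⟨x, rfl⟩ := QuotientGroup.mk_surjective x
    rw [pow_three, MulAut.mul_apply, MulAut.mul_apply, hφ, hφ, hφ, MulAut.one_apply, eq_comm, QuotientGroup.eq]
    have := mul_mem (cj' (hn x.2) h3) (inv_mem h3)
    refine mem_subgroupOf.2 ?_
    convert this using 1
    simp [pow_succ, mul_assoc]
  haveI : Group.IsNilpotent (M ⧸ N.subgroupOf M) := by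
    by_cases h1 : φ = 1
    · haveI : Subsingleton (M ⧸ N.subgroupOf M) := ⟨fun a b => by rw [fp a (by rw [h1]; rfl), fp b (by rw [h1]; rfl)]⟩
      infer_instance
    · haveI := Fact.mk Nat.prime_three
      exact CL.Frob.isNilpotent_of_aut φ fp (by rw [orderOf_eq_prime p3 h1]; exact Nat.prime_three)
  obtain ⟨P⟩ : Nonempty (Sylow 2 (M ⧸ N.subgroupOf M)) := inferInstance
  refine ⟨((P : Subgroup (M ⧸ N.subgroupOf M)).comap (QuotientGroup.mk' _)).map M.subtype, fun g => ⟨?_, ?_⟩⟩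
  · rintro ⟨x, hx, rfl⟩
    obtain ⟨k, hk⟩ := isPGroup_iff_forall_mem.1 P.isPGroup' _ hx
    rw [← map_pow] at hk
    exact ⟨x.2, k, mem_subgroupOf.1 ((QuotientGroup.eq_one_iff (x ^ 2 ^ k)).1 hk)⟩
  · rintro ⟨hg, k, hk⟩
    refine ⟨⟨g, hg⟩, ?_, rfl⟩
    have : IsPGroup 2 (zpowers ((⟨g, hg⟩ : M) : M ⧸ N.subgroupOf M)) := isPGroup_zpowers (k := k) (by
      rw [← QuotientGroup.mk_pow]; exact (QuotientGroup.eq_one_iff _).2 hk)
    exact (sylIn_top P).le_of_normalizes this le_top (by rw [normalizer_eq_top]; exact le_top) (mem_zpowers _)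

/-- An invariant class of a 2-group contains a fixed point of an element acting with order 3. -/
theorem fix_class {Y : Subgroup G} (hY : IsPGroup 2 Y) {r x : G} (hr : r ∈ normalizer (Y : Set G))
    (hx : x ∈ Y) (h3 : ∀ y ∈ Y, Commute (r ^ 3) y) {a : G} (ha : a ∈ Y) (e : r * x * r⁻¹ = a * x * a⁻¹) :
    ∃ y ∈ Y, Commute r (y * x * y⁻¹) := by
  classical
  haveI := Fact.mk Nat.prime_two
  haveI := Fact.mk Nat.prime_three
  let X : Set G := {u | ∃ y ∈ Y, y * x * y⁻¹ = u}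
  haveI : Fintype X := Fintype.ofFinite _
  let f : Function.End X := fun u => ⟨r * u * r⁻¹, by
    obtain ⟨_, y, hy, rfl⟩ := u
    refine ⟨r * y * r⁻¹ * a, mul_mem (cj hr hy) ha, ?_⟩
    calc _ = r * y * r⁻¹ * (a * x * a⁻¹) * (r * y * r⁻¹)⁻¹ := by group
      _ = _ := by rw [← e]; group⟩
  have hf : f ^ 3 ^ 1 = 1 := by
    funext ⟨u, y, hy, hu⟩
    refine Subtype.ext ?_
    change r * (r * (r * u * r⁻¹) * r⁻¹) * r⁻¹ = u
    calc _ = r ^ 3 * u * (r ^ 3)⁻¹ := by simp [pow_succ, mul_assoc]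
      _ = u := by rw [(h3 u (hu ▸ mul_mem (mul_mem hy hx) (inv_mem hy))).eq]; group
  have h1 := Equiv.Perm.card_fixedPoints_modEq hf
  obtain ⟨n, hn⟩ := hY.exists_card_eq
  have h2 : X.ncard ∣ 2 ^ n := hn ▸ Dvd.intro_left _ (CL.JR.card_inf_mul_ncard_conj Y x)
  by_contra h
  haveI : IsEmpty f.fixedPoints := ⟨fun ⟨⟨u, y, hy, hu⟩, k⟩ => h ⟨y, hy, by
    have : r * u * r⁻¹ = u := congrArg Subtype.val k
    rw [hu]; exact mul_inv_eq_iff_eq_mul.1 this⟩⟩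
  rw [Fintype.card_eq_zero (α := f.fixedPoints), ← Nat.card_eq_fintype_card, Nat.card_coe_set_eq] at h1
  exact absurd (Nat.prime_three.dvd_of_dvd_pow ((Nat.modEq_zero_iff_dvd.1 h1).trans h2)) (by decide)

omit [Finite G] in
/-- A conjugate of `t` in `⟨t, s⟩` is `t`. -/
theorem eq_t (D : K4 F) {x : G} (h : IsConj F.t x) (hx : x = 1 ∨ x = F.t ∨ x = F.s ∨ x = F.t * F.s) :
    x = F.t := by
  rcases hx with rfl | rfl | rfl | rfl
  · exact absurd h (D.nB _ (one_mem _))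
  · rfl
  · exact absurd h (D.nB _ F.s_B)
  · by_cases h2 : F.s = 1
    exacts [by rw [h2, mul_one], absurd (D.orb _ F.s_B h) (F.s_nV h2)]

end Iv
open Iv

/-- Proof. Put `C0 = Y ⊓ C(ρ') ∋ t, s`. An element of `C0` commuting with `t` is in `E`
(`memE`) and commutes with `ρ'`, so is in `X = {1, t, s, t s}` (`mem_E`, `fix_ρ`). If `X < C0`
take `n ∈ N_{C0}(X) \ X`; `t ^ n ∈ X` is conjugate to `t`, so is `t` (`nB`; `orb` and `s_nV`
exclude `t s ≠ t`), so `n ∈ X`. -/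
theorem K4.fix_rho (D : K4 F) {ρ' : G} (hr : F.Rr ρ') {Y : Subgroup G} (hY : IsPGroup 2 Y)
    (hE : F.E ≤ Y) (hB : ∀ y ∈ Y, ∀ b ∈ F.B, Commute b y) {y : G} (hy : y ∈ Y)
    (h : Commute ρ' y) : y = 1 ∨ y = F.t ∨ y = F.s ∨ y = F.t * F.s := by
  haveI := Fact.mk Nat.prime_two
  have mC : ∀ {x u : G}, x ∈ centralizer {u} ↔ x * u = u * x := mem_centralizer_singleton_iff
  have a : ∀ y ∈ Y, Commute ρ' y → Commute F.t y → y = 1 ∨ y = F.t ∨ y = F.s ∨ y = F.t * F.s :=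
    fun y hy h ht => by
      obtain ⟨b, hb, rfl | rfl⟩ := F.mem_E.1 (F.memE hY hE hy ht (hB y hy _ (z_B F)) (hB y hy _ (d_B F)))
      · rcases F.fix_ρ hr hb h with e | e <;> simp [e]
      · have : Commute ρ' b := by simpa using hr.tρ.symm.inv_right.mul_right h
        rcases F.fix_ρ hr hb this with e | e <;> simp [e]
  refine a y hy h ?_
  by_contra ht
  obtain ⟨n, ⟨n1, n2⟩, n3⟩ := SetLike.exists_of_lt (lt_inf_normalizer_of_lt (P := Y ⊓ centralizer {ρ'} ⊓ centralizer {F.t})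
    (hY.to_le (inf_le_left : Y ⊓ centralizer {ρ'} ≤ Y))
    (lt_of_le_of_ne inf_le_left fun e => ht (mC.1 (e.ge ⟨hy, mC.2 h.symm⟩).2).symm))
  obtain ⟨⟨k1, k2⟩, k3⟩ := cj' n2 (⟨⟨hE F.t_E, mC.2 hr.tρ⟩, mC.2 rfl⟩ : F.t ∈ Y ⊓ centralizer {ρ'} ⊓ centralizer {F.t})
  exact n3 ⟨n1, mC.2 (xf (eq_t D (icj n _) (a _ k1 (mC.1 k2).symm (mC.1 k3).symm))).symm⟩

/-- A Sylow 2-subgroup of `C(B)` normalised by `e` and a good `ρ'`.
Proof. Call `(Y, ρ')` good if `Y` is a 2-subgroup of `C = C(B)`, `U ≤ Y`, `F.Rr ρ'`, and `e, ρ'`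
normalise `Y`; `(U, ρ)` is good. Take a good pair with `|Y|` maximal and suppose `Y < Y1 ≤ C`,
`Y1` a 2-group. `M = N(Y) ⊓ C` is normalised by `e, ρ'`, and `|M : Y|` is even. `C_Y(t) = E`
(`memE`). `O1 = F.O ⊓ N(Y)` centralises `Y` (`odd_cent`). An element of `M` fixing `t` lies in
`C(E) = E O` (`dec_O`), so in `E O1`; an element of `M` centralising `Y` fixes `t`; hence
`M1 = Y ⊔ O1 = Y C_M(Y)` is normal in `M` (and `O1` is the set of its elements of odd order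
centralising `Y`, normal in `M ⟨e, ρ'⟩`), and `g ∈ M`, `t ^ g ∈ t ^ Y` implies `g ∈ M1`.
`ρ'` acts on `M̄ = M / M1`. No non-trivial fixed point: if `g ^ ρ' ∈ g M1 = M1 g`-coset, then
the `Y`-class of `t ^ g` is `ρ'`-invariant; it has 2-power size and `ρ' ^ 3` centralises `Y`
(`Rr.cube`, `odd_cent`), so it contains `x` commuting with `ρ'`; `x ~ t`, so `x = t` by
`fix_rho`, `g ∈ M1`. So `ρ' ^ 3 ∈ O1` acts trivially and `ρ'` acts fixed-point-freely on `M̄`: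
`|H| ≡ 1 (mod 3)` for every invariant subgroup `H`. The number of Sylow 2-subgroups of `M̄` is
prime to 3, so one of them, `Q̄`, is invariant; it is unique (if `Q̄ ^ g` is invariant, the coset
`N(Q̄) g` is invariant of size prime to 3, contains a fixed point, which is 1). `e` inverts `ρ'`
modulo `O1` (`Rr.sq`), so `e` normalises `Q̄`. Let `Q` be the preimage; `Fr.lift` gives a good
pair `(Y', o ρ')` (`Rr.mul`) with `Q = O1 Y'`, and `Y' ≠ Y` since `Q̄ ≠ 1`. -/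
theorem K4.invSyl (D : K4 F) : ∃ (ρ' : G) (W : Subgroup G), F.Rr ρ' ∧ IsPGroup 2 W ∧ D.U ≤ W ∧
    (∀ w ∈ W, ∀ b ∈ F.B, Commute b w) ∧ F.e ∈ normalizer (W : Set G) ∧
    ρ' ∈ normalizer (W : Set G) ∧
    ∀ Y : Subgroup G, IsPGroup 2 Y → W ≤ Y → (∀ y ∈ Y, ∀ b ∈ F.B, Commute b y) → Y = W := by
  haveI := Fact.mk Nat.prime_two
  obtain ⟨Y, ⟨pY, UY, cY, eY, ρ', hr, ρY⟩, mx⟩ := (Set.toFinite {Y : Subgroup G | IsPGroup 2 Y ∧ D.U ≤ Y ∧
    (∀ w ∈ Y, ∀ b ∈ F.B, Commute b w) ∧ F.e ∈ normalizer (Y : Set G) ∧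
    ∃ ρ', F.Rr ρ' ∧ ρ' ∈ normalizer (Y : Set G)}).exists_maximal ⟨D.U, D.p2, le_rfl, D.cB, D.eU, _, F.rr, D.ρU⟩
  refine ⟨ρ', Y, hr, pY, UY, cY, eY, ρY, fun Y1 p1 le1 c1 => ?_⟩
  by_contra hne
  obtain ⟨g0, ⟨g1, g2⟩, g3⟩ := SetLike.exists_of_lt (lt_inf_normalizer_of_lt p1 (lt_of_le_of_ne le1 (Ne.symm hne)))
  have EY : F.E ≤ Y := D.EU.trans UY
  have hc : ∀ y ∈ Y, Commute F.t y → y ∈ F.E := fun y hy ht =>
    F.memE pY EY hy ht (cY y hy _ (z_B F)) (cY y hy _ (d_B F))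
  set O1 := F.O ⊓ normalizer (Y : Set G) with hO1
  set M := normalizer (Y : Set G) ⊓ centralizer (F.B : Set G) with hM
  have cO : ∀ o ∈ O1, ∀ y ∈ Y, Commute o y := fun o ho => F.odd_cent pY EY hc ho.1 ho.2
  have mM : ∀ {g}, g ∈ Y ⊔ O1 ↔ ∃ y ∈ Y, ∃ o ∈ O1, y * o = g := mem_sup_of_normalizes_left inf_le_right
  have YM : Y ≤ M := fun y hy => ⟨le_normalizer hy, fun b hb => cY y hy b hb⟩
  have OM : O1 ≤ M := fun o ho => ⟨ho.2, fun b hb => (F.mem_O.1 ho.1).1 b (F.B_E hb)⟩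
  have nO : normalizer (Y : Set G) ≤ normalizer (O1 : Set G) := fun h hh => nm_of fun o ho =>
    ⟨F.mem_O.2 ⟨fun x hx => xf (by
        calc _ = h * (o⁻¹ * (h⁻¹ * x * h) * o) * h⁻¹ := by group
          _ = x := by rw [fx (cO o ho _ (cj' hh (EY hx))).symm]; group),
      by rw [← MulAut.conj_apply, MulEquiv.orderOf_eq]; exact (F.mem_O.1 ho.1).2⟩,
      Subgroup.mul_mem _ (Subgroup.mul_mem _ hh ho.2) (Subgroup.inv_mem _ hh)⟩
  have n1 : normalizer (Y : Set G) ≤ normalizer ((Y ⊔ O1 : Subgroup G) : Set G) := le_normalizer_sup le_rfl nO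
  have nM : ∀ h ∈ normalizer (Y : Set G), h ∈ normalizer (F.E : Set G) → Commute F.t h →
      h ∈ normalizer (M : Set G) := fun h hh hn ht => nm_of fun k hk =>
    ⟨Subgroup.mul_mem _ (Subgroup.mul_mem _ hh hk.1) (Subgroup.inv_mem _ hh), fun b hb => xf (by
      calc _ = h * (k⁻¹ * (h⁻¹ * b * h) * k) * h⁻¹ := by group
        _ = b := by rw [fx (hk.2 _ (stB F hn ht b hb))]; group)⟩
  have ft : ∀ g ∈ M, Commute F.t g → g ∈ Y ⊔ O1 := fun g hg ht => by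
    obtain ⟨x, hx, o, ho, rfl⟩ := F.dec_O (cE_of F ht hg.2)
    exact mM.2 ⟨x, EY hx, o, ⟨ho, (Subgroup.mul_mem_cancel_left _ (le_normalizer (EY hx))).1 hg.1⟩, rfl⟩
  have r3 : ρ' ^ 3 ∈ O1 := ⟨hr.cube, pow_mem ρY 3⟩
  obtain ⟨Q, hQ⟩ := exists_Q (M := M) (N := Y ⊔ O1) (inf_le_left.trans n1) (nM _ ρY hr.nE hr.tρ) (n1 ρY)
    (mem_sup_right r3) fun g hg k => by
      obtain ⟨y, hy, o, ho, e⟩ := mM.1 k
      have tY := EY F.t_E
      obtain ⟨u, hu, cu⟩ := fix_class pY ρY (cj hg.1 tY) (cO _ r3) (cj hg.1 hy) (by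
        calc _ = g * (y * o) * (ρ' * F.t * ρ'⁻¹) * (g * (y * o))⁻¹ := by rw [e]; group
          _ = g * y * (o * F.t * o⁻¹) * (g * y)⁻¹ := by rw [← hr.tρ.eq]; group
          _ = _ := by rw [(cO o ho _ tY).eq]; group)
      have := eq_t D (x := u * (g * F.t * g⁻¹) * u⁻¹) (isConj_iff.2 ⟨u * g, by group⟩)
        (D.fix_rho hr pY EY cY (mul_mem (mul_mem hu (cj hg.1 tY)) (inv_mem hu)) cu)
      exact (Subgroup.mul_mem_cancel_left _ (mem_sup_left hu)).1 (ft _ (mul_mem (YM hu) hg) (by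
        change F.t * (u * g) = u * g * F.t
        nth_rewrite 1 [← this]; group))
  have nQ : ∀ h ∈ normalizer (Y : Set G), h ∈ normalizer (F.E : Set G) → Commute F.t h →
      h ∈ normalizer (Q : Set G) := fun h hh hn ht => nm_of fun k hk => by
    obtain ⟨k1, j, k2⟩ := (hQ k).1 hk
    exact (hQ _).2 ⟨cj (nM h hh hn ht) k1, j, by rw [conj_pow]; exact cj (n1 hh) k2⟩
  obtain ⟨Y', pY', le', Q', eY', dec, o, ho, ρY'⟩ := F.lift (Q := Q) (O1 := O1) inf_le_left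
    (fun o ho => (hQ o).2 ⟨OM ho, 0, by simpa using mem_sup_right ho⟩)
    (fun q hq => nO ((hQ q).1 hq).1.1) (nO eY) (nO ρY) (nQ _ eY F.e_nE F.te) (nQ _ ρY hr.nE hr.tρ)
    (fun q hq => by
      obtain ⟨-, j, k⟩ := (hQ q).1 hq
      obtain ⟨y, hy, o, ho, e⟩ := mM.1 k
      obtain ⟨i, hi⟩ := isPGroup_iff_forall_mem.1 pY y hy
      refine ⟨j + i, ?_⟩
      rw [pow_add, pow_mul, ← e, (cO o ho y hy).symm.mul_pow, hi, one_mul]
      exact pow_mem ho _)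
    pY (fun y hy => (hQ y).2 ⟨YM hy, 0, by simpa using mem_sup_left hy⟩) eY
  have le2 : Y' ≤ Y := mx ⟨pY', UY.trans le', fun w hw => ((hQ w).1 (Q' hw)).1.2, eY', _, hr.mul ho.1, ρY'⟩ le'
  obtain ⟨i, hi⟩ := isPGroup_iff_forall_mem.1 p1 g0 g1
  obtain ⟨y, hy, o', ho', e⟩ := dec g0 ((hQ _).2 ⟨⟨g2, c1 g0 g1⟩, i, hi ▸ one_mem _⟩)
  obtain ⟨j, hj⟩ := isPGroup_iff_forall_mem.1 p1 o' ((Subgroup.mul_mem_cancel_right _ (le1 (le2 hy))).1 (e ▸ g1))
  have := orderOf_eq_one_iff.1 (Nat.eq_one_of_dvd_coprimes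
    (((Nat.coprime_two_right.2 (F.mem_O.1 ho'.1).2)).pow_right j) dvd_rfl (orderOf_dvd_of_pow_eq_one hj))
  exact g3 (by rw [e, this, one_mul]; exact le2 hy)

end CL.HL
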