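import Cfsg.Agent.INV.HL.Orba
import Cfsg.Agent.INV.JR.Count

/-! S3139: the structure of `U` for the orbit `t V`. Notation: `x ^ g = g⁻¹ * x * g`, `~` is
conjugacy in `G`. -/

set_option autoImplicit false
set_option linter.style.haveILetI false
open Subgroup CL.MSS CL.HL.Od CL.HL.Ob

namespace CL.HL
variable {G : Type*} [Group G] [Finite G] {F : Fr G}

namespace Ks
open Md

omit [Finite G] in
/-- `X = ⟨t e, s, z⟩`. -/
theorem exists_X (h2 : F.s ≠ 1) : ∃ X : Subgroup G, (∀ x ∈ X, x * x = 1) ∧ Nat.card X = 8 ∧ F.t * F.e ∈ X ∧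
    F.s ∈ X ∧ F.z ∈ X ∧ X ≤ F.T0 ∧ F.t ∉ X ∧
    ∀ g, Commute (F.t * F.e) g → Commute F.s g → Commute F.z g → ∀ x ∈ X, Commute x g := by
  let p : Md → Prop := fun x => x.τ = x.f ∧ (x.j = (bif x.f then 2 else 0) ∨ x.j = (bif x.f then 6 else 4))
  refine ⟨F.sub p (by decide) (by decide +kernel) (by decide), ?_, ?_, ⟨mtt * me, F.ok2 h2 _, by decide, ?_⟩,
    F.s_sub (by decide), ⟨mz, F.ok2 h2 _, by decide, F.w_z⟩, ?_, ?_, ?_⟩
  · rintro _ ⟨x, h, k, rfl⟩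
    exact (F.w_sq h).2 ((by decide : ∀ x, p x → x * x = 1) x k)
  · rw [F.card_of (p := p) fun _ => Iff.rfl, F.tw_iff.2 h2]; decide
  · rw [← F.wm2 h2, F.w_t, F.w_e]
  · rintro _ ⟨x, h, k, rfl⟩
    exact F.mem_T0'.2 ⟨x, h, (by decide : ∀ x, p x → Fr.p0 x) x k, rfl⟩
  · rintro ⟨x, h, k, e⟩
    rw [F.w_inj h F.okt (e.trans F.w_t.symm)] at k
    exact absurd k (by decide)
  · rintro g a b c _ ⟨x, h, k, rfl⟩
    rcases (by decide : ∀ x, p x → x = 1 ∨ x = mz ∨ x = ms ∨ x = ms * mz ∨ x = mtt * me ∨ x = mtt * me * mz ∨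
      x = mtt * me * ms ∨ x = mtt * me * (ms * mz)) x k with rfl | rfl | rfl | rfl | rfl | rfl | rfl | rfl <;>
      simp only [← F.wm2 h2, F.w_t, F.w_e, F.w_s, F.w_z, F.w_one]
    exacts [Commute.one_left _, c, b, b.mul_left c, a, a.mul_left c, a.mul_left b, a.mul_left (b.mul_left c)]

variable (D : K4 F)

omit [Finite G] in
theorem hv {u : G} (hu : u ∈ D.U) : ∃ v ∈ F.V, u⁻¹ * F.t * u = F.t * v := by
  obtain ⟨b, hb, e | e⟩ := F.mem_E.1 (cj' (D.UN hu) F.t_E)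
  exacts [absurd (e ▸ icj u F.t) (D.nB b hb), ⟨b, D.orb b hb (e ▸ icj u F.t), e⟩]

omit [Finite G] in
theorem sqB {u : G} (hu : u ∈ D.U) : u * u ∈ F.B := by
  obtain ⟨v, hv, e⟩ := hv D hu
  obtain ⟨b, hb, k | k⟩ := F.mem_E.1 (D.cU _ (mul_mem hu hu) (xf (by
    rw [cc, e, cm, e, fx (D.cB u hu v (F.V_B hv)), mul_assoc, F.el_E (F.B_E (F.V_B hv)), mul_one])))
  · exact k ▸ hb
  · have : Commute F.t u := by
      rw [← mul_inv_eq_iff_eq_mul.2 k]
      exact ((Commute.refl u).mul_left (Commute.refl u)).mul_left (D.cB u hu b hb).inv_left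
    rw [F.el_E (D.cU u hu this)]; exact one_mem _

omit [Finite G] in
theorem cardU : Nat.card D.U = 8 * Nat.card F.B := by
  have h := CL.JR.card_inf_mul_ncard_conj D.U F.t
  have e1 : D.U ⊓ centralizer {F.t} = F.E := le_antisymm
    (fun u hu => D.cU u hu.1 (mem_centralizer_singleton_iff.1 hu.2).symm)
    fun x hx => ⟨D.EU hx, mem_centralizer_singleton_iff.2 (F.comm_E hx F.t_E)⟩
  have e2 : {y | ∃ a ∈ D.U, a * F.t * a⁻¹ = y} = (fun v => F.t * v) '' (F.V : Set G) := by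
    ext y
    constructor
    · rintro ⟨a, ha, rfl⟩
      obtain ⟨v, hv, e⟩ := hv D (inv_mem ha)
      exact ⟨v, hv, by simpa using e.symm⟩
    · rintro ⟨v, hv, rfl⟩
      obtain ⟨u, hu, e⟩ := D.tr v hv
      exact ⟨u⁻¹, inv_mem hu, by simpa using e⟩
  rw [e1, e2, Set.ncard_image_of_injective _ (mul_right_injective _), ← Nat.card_coe_set_eq, F.card_E] at h
  erw [F.card_V] at h
  omega

omit [Finite G] in
include D in
theorem tte : IsConj F.t (F.t * F.e) := by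
  obtain ⟨u, -, e⟩ := D.tr _ F.z_V
  exact (e ▸ icj u F.t).trans F.cj_te
omit [Finite G] in
include D in
theorem nts (h2 : F.s ≠ 1) : ¬ IsConj F.t (F.t * F.s) := fun h => F.s_nV h2 (D.orb _ F.s_B h)

theorem c3 {u : G} (hu : u ∈ D.U) : F.ρ⁻¹ * (F.ρ⁻¹ * (F.ρ⁻¹ * u * F.ρ) * F.ρ) * F.ρ = u := by
  have := fx (F.odd_cent D.p2 D.EU D.cU F.rr.cube (pow_mem D.ρU 3) u hu).symm
  rwa [pow_three', cc, cc] at this
theorem c2 {u : G} (hu : u ∈ D.U) :
    F.e⁻¹ * (F.ρ⁻¹ * u * F.ρ) * F.e = F.ρ⁻¹ * (F.ρ⁻¹ * (F.e⁻¹ * u * F.e) * F.ρ) * F.ρ := by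
  have := fx (F.odd_cent D.p2 D.EU D.cU F.rr.sq (pow_mem (mul_mem D.eU D.ρU) 2) _ (cj' D.eU hu)).symm
  rw [sq, cc, cc, cc, ← cc F.e F.e u, F.ee, inv_one, one_mul, mul_one] at this
  rw [← this, c3 D (cj' D.eU (cj' D.ρU hu))]

theorem exists_y : ∃ y ∈ D.U, y⁻¹ * F.t * y = F.t * F.z ∧
    y * (F.ρ⁻¹ * y * F.ρ) * (F.ρ⁻¹ * (F.ρ⁻¹ * y * F.ρ) * F.ρ) ∈ F.B ∧ ∃ b ∈ F.B, F.e⁻¹ * y * F.e = y * b := by
  obtain ⟨w, hw, wt⟩ := D.tr _ F.z_V
  have σt : ∀ {u v}, u⁻¹ * F.t * u = F.t * v →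
      (F.ρ⁻¹ * u * F.ρ)⁻¹ * F.t * (F.ρ⁻¹ * u * F.ρ) = F.t * (F.ρ⁻¹ * v * F.ρ) := fun h => by
    rw [cc, cc, fx F.tρ.inv_right, h, cm, fx F.tρ]
  have t1 := σt wt
  have t2 := σt t1
  have w3 := c3 D hw
  have e1 := c2 D hw
  have e2 := c2 D (cj' D.ρU hw)
  rw [e1, c3 D (cj' D.ρU (cj' D.eU hw))] at e2
  rw [F.zρ'] at t1 t2
  rw [F.dρ'] at t2
  obtain ⟨x, hx, ex⟩ : ∃ x ∈ F.E, F.e⁻¹ * w * F.e = w * x :=
    ⟨w⁻¹ * (F.e⁻¹ * w * F.e), D.cU _ (mul_mem (inv_mem hw) (cj' D.eU hw)) (by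
      refine Commute.symm (xf ?_).symm
      rw [cc, show w⁻¹⁻¹ * F.t * w⁻¹ = F.t * F.z from by
        rw [← bk (g := w) (x := F.t * F.z) (y := F.t) (by rw [cm, wt, fx (D.cB w hw _ (z_B F)), mul_assoc, F.zz, mul_one])],
        cc, cc, fx (F.te.mul_left F.ze).inv_right, cm w, wt, fx (D.cB w hw _ (z_B F)), mul_assoc F.t, F.zz, mul_one,
        fx F.te]), by group⟩
  rw [ex, cm F.ρ w x] at e1 e2
  rw [cm F.ρ (F.ρ⁻¹ * w * F.ρ)] at e1
  have h1 := cj' D.ρU hw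
  have h2 := cj' D.ρU h1
  set w1 := F.ρ⁻¹ * w * F.ρ
  set w2 := F.ρ⁻¹ * w1 * F.ρ
  refine ⟨w1 * w2, mul_mem h1 h2, ?_, ?_, ?_⟩
  · rw [cc, t1, cm, t2, fx (D.cB _ h2 _ (d_B F)), mul_assoc, mul_assoc, F.zd.eq, ← mul_assoc F.d, F.dd, one_mul]
  · rw [cm F.ρ w1 w2, w3, cm F.ρ _ w, w3]
    have : w1 * w2 * (w2 * w) * (w * w1) = w1 * (w2 * w2 * (w * w)) * w1 := by group
    change w1 * w2 * (w2 * w) * (w * w1) ∈ _
    rw [this, ← (D.cB _ h1 _ (mul_mem (sqB D h2) (sqB D hw))).eq, mul_assoc]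
    exact mul_mem (mul_mem (sqB D h2) (sqB D hw)) (sqB D h1)
  · refine ⟨(w1 * w2)⁻¹ * (F.e⁻¹ * (w1 * w2) * F.e), ?_, by group⟩
    rw [cm F.e w1 w2, e1, e2]
    have k : (w1 * w2)⁻¹ * (w2 * w1) ∈ F.B := by
      have := mul_mem (mul_mem (inv_mem (sqB D (mul_mem h1 h2))) (sqB D h2)) (sqB D h1)
      rwa [mul_assoc, ← mul_assoc (w2 * w2), (D.cB _ h1 _ (sqB D h2)).eq, show (w1 * w2 * (w1 * w2))⁻¹ *
        (w1 * (w2 * w2) * w1) = (w1 * w2)⁻¹ * (w2 * w1) by group] at this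
    obtain ⟨b, hb, rfl | rfl⟩ := F.mem_E.1 hx
    · have b1 := F.ρ_nB hb
      have b2 := F.ρ_nB b1
      rw [mul_assoc w2, ← mul_assoc _ w1, (D.cB _ h1 _ b2).eq, ← mul_assoc w2, ← mul_assoc w2, mul_assoc (w2 * w1),
        ← mul_assoc]
      exact mul_mem k (mul_mem b2 b1)
    · have b1 := F.ρ_nB hb
      have b2 := F.ρ_nB b1
      rw [cm F.ρ F.t, fx F.tρ, cm F.ρ F.t, fx F.tρ]
      generalize F.ρ⁻¹ * (F.ρ⁻¹ * b * F.ρ) * F.ρ = u at b2 ⊢
      generalize F.ρ⁻¹ * b * F.ρ = v at b1 ⊢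
      have : (w1 * w2)⁻¹ * (w2 * (F.t * u) * (w1 * (F.t * v))) =
          (w1 * w2)⁻¹ * (w2 * w1) * (w1⁻¹ * (F.t * u) * w1 * F.t * v) := by group
      rw [this, cm, t1, fx (D.cB _ h1 _ b2), mul_assoc F.t, ← (F.comm_E F.t_E (mul_mem F.t_E
        (F.B_E (mul_mem (d_B F) b2)))).eq, ← mul_assoc F.t, F.tt, one_mul]
      exact mul_mem k (mul_mem (mul_mem (d_B F) b2) b1)

theorem sq_y {y b : G} (hy : y ∈ D.U) (yt : y⁻¹ * F.t * y = F.t * F.z) (hb : b ∈ F.B)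
    (ey : F.e⁻¹ * y * F.e = y * b) : y * y = 1 ∨ y * y = F.z := by
  have cb := D.cB y hy b hb
  have q := F.fix_e (sqB D hy) (xf (by
    rw [cm, ey, mul_assoc, ← mul_assoc b, cb.eq, mul_assoc, F.el_E (F.B_E hb), mul_one])).symm
  by_cases h2 : F.s = 1
  · rw [h2, one_mul] at q; tauto
  have hb' := F.fix_e hb (xf (by
    have : F.e⁻¹ * (F.e⁻¹ * y * F.e) * F.e = y := by rw [← cc, F.ee]; group
    rw [ey, cm, ey, mul_assoc] at this
    rw [← inv_eq_of_mul_eq_one_right (mul_eq_left.1 this), inv_eq_of_mul_eq_one_right (F.el_E (F.B_E hb))])).symm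
  have te : y⁻¹ * (F.t * F.e) * y = F.t * F.e * (b * F.z) := by
    have : y⁻¹ * F.e * y = F.e * b := by
      calc _ = y⁻¹ * (F.e⁻¹ * y * F.e) * F.e⁻¹ := by nth_rewrite 1 [← ei F]; group
        _ = _ := by
          rw [ey, inv_mul_cancel_left, ei]
          rcases hb' with rfl | rfl | rfl | rfl
          exacts [Commute.one_left _, F.ze, F.se, F.se.mul_left F.ze]
    rw [cm, yt, this, mul_assoc, ← mul_assoc F.z, F.ze.eq, mul_assoc, (cBB F (z_B F) hb).eq, mul_assoc]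
  have cj := (tte D).trans (te ▸ icj y _)
  obtain ⟨u, hu, ut, uu, ue⟩ : ∃ u ∈ D.U, u⁻¹ * F.t * u = F.t * F.z ∧ u * u = y * y ∧ Commute (F.t * F.e) u := by
    rcases hb' with rfl | rfl | rfl | rfl
    · refine ⟨y * F.d, mul_mem hy (D.EU (F.B_E (d_B F))), by rw [cc, yt, fx (F.td.mul_left F.zd)], ?_, xf ?_⟩
      · rw [mul_assoc, ← mul_assoc F.d, (D.cB y hy _ (d_B F)).eq, mul_assoc, F.dd, mul_one]
      · rw [cc, te, one_mul]; hl_w
    · exact ⟨y, hy, yt, rfl, xf (by rw [te, F.zz, mul_one])⟩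
    · exact absurd (cj.trans (F.cj_tesz h2).symm) (nts D h2)
    · rw [mul_assoc F.s, F.zz, mul_one] at cj
      exact absurd (cj.trans (F.cj_tes h2).symm) (nts D h2)
  obtain ⟨X, x1, x2, x3, x4, x5, x6, x7, x8⟩ := exists_X h2
  have pe : IsPGroup 2 (zpowers F.e) := isPGroup_zpowers (k := 1) (by rw [pow_one, sq, F.ee])
  have pY : IsPGroup 2 ((D.U ⊔ zpowers F.e) ⊓ centralizer (X : Set G) : Subgroup G) :=
    (isPGroup_sup_of_normalizes' D.p2 pe (zpowers_le.2 D.eU)).to_inf_left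
  have T0 : F.T0 ≤ D.U ⊔ zpowers F.e := fun x hx => by
    obtain ⟨w, hw, rfl | rfl⟩ := F.mem_T0.1 hx
    exacts [mem_sup_left (D.EU hw), mul_mem_sup (D.EU hw) (mem_zpowers _)]
  have tC : F.t ∈ centralizer (X : Set G) := fun x hx => (F.t_T (F.T0_T (x6 hx))).symm
  have uC : u ∈ centralizer (X : Set G) := x8 u ue (D.cB u hu _ F.s_B) (D.cB u hu _ (z_B F))
  have xC : X ≤ centralizer (X : Set G) := fun x hx w hw => comm_of_el x1 hw hx
  have l1 := two_le (lt_of_le_of_ne (le_inf x6 xC)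
    fun e => x7 (e.ge ⟨F.E_T0 F.t_E, tC⟩))
  have l2 := two_le (lt_of_le_of_ne (inf_le_inf_right (centralizer (X : Set G)) T0) fun e => by
    have := fx (F.t_T (F.T0_T (e.ge ⟨mem_sup_left hu, uC⟩).1))
    rw [ut] at this
    exact F.z1 (mul_eq_left.1 this))
  have l3 := (F.lc (tte D)).c8 X _ x1 x2 x3 pY fun w hw => hw.2
  have tu : F.t * u * (F.t * u) = y * y * F.z := by
    calc _ = F.t * (u * u) * (u⁻¹ * F.t * u) := by group
      _ = _ := by rw [ut, uu, (F.comm_E F.t_E (F.B_E (sqB D hy))).eq, mul_assoc, ← mul_assoc F.t, F.tt, one_mul]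
  have k := (F.lc (tte D)).sq8 X _ x1 x2 x3 pY (fun w hw => hw.2) (by omega) u ⟨mem_sup_left hu, uC⟩ (F.t * u)
    ⟨mem_sup_left (mul_mem (D.EU F.t_E) hu), mul_mem tC uC⟩
  rw [tu, uu] at k
  by_contra hne
  rw [not_or] at hne
  exact F.z1 (mul_eq_left.1 (k hne.1 fun e => hne.2 (by
    rw [eq_inv_of_mul_eq_one_left e, inv_eq_of_mul_eq_one_right F.zz])).symm)

end Ks
open Ks

/-- Structure of `U` for the orbit `t V`.
Proof. For `u ∈ U`, `t ^ u = t v(u)` with `v(u) ∈ V` (`UN`, `nB`, `orb`), `v` is a homomorphism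
onto `V` with kernel `E`. `u² ∈ E`, and `u² = t b` would make `u` commute with `t`; so
`u² ∈ B`: `U / B` is elementary abelian, `B` is central, squares are constant on cosets of `B`
and commutators are bilinear. `ρ ^ 3` and `(e ρ)²` centralise `U` (`Rr.cube`, `Rr.sq`,
`odd_cent`). Take `w ∈ U`, `v(w) = z`, and put `y1 = w ^ ρ * w ^ ρ²`, `y2 = y1 ^ ρ`,
`y3 = y2 ^ ρ`: `v(y1) = z`, `v(y2) = d`, `y1 y2 y3 ∈ B`, and `y1 ^ e ∈ y1 B` (because
`w ^ e ∈ w E`, and `e` inverts `ρ` on `U`). `A = B ⊔ closure {y1, y2}` is normalised by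
`t, e, ρ`, has order `4 |B|`, `U = A ∪ t A`, `C_A(t) = B`. `q = y1²` is fixed by `e`, so
`q ∈ {1, z, s, s z}` (`fix_e`). Claim `q ∈ {1, z}`. Let `s ≠ 1`, `y1 ^ e = y1 b`; `e² = 1` gives
`b ∈ {1, z, s, s z}`. `(t e) ^ y1 = t e z b`; `t e ~ t z ~ t` but `t e s, t e s z ~ t s ≁ t`
(`cj_tes`, `cj_tesz`, `orb`, `s_nV`); so `b ∈ {1, z}` and `y = y1` or `y = y1 d` commutes with
`t e`. `Y = closure {t e, t, s, z, y}` has order 32 and centralises `X = closure {t e, s, z}`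
(order 8); `y² = q` and `(t y)² = q z`; `(F.lc _).sq8` at `u = t e` forbids `q ∈ {s, s z}`.
Then `⁅y1, y2⁆ = q · q ^ ρ · q ^ ρ² = 1`, `A` is abelian. If `q = 1`, `A` is elementary:
`mkLA` with `A1 = {a ∈ A | v(a) ∈ {1, z}}` (if `a` commutes with `e` or `t e`, then `e` fixes
`t ^ a`). If `q = z`, then `t y1 t = y1 z = y1⁻¹`, `t y2 t = y2⁻¹`, and `t` inverts `A`. -/
theorem K4.split (D : K4 F) : Nonempty (LA G) ∨ ∃ A : Subgroup G, F.B ≤ A ∧ A ≤ D.U ∧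
    (∀ a ∈ A, F.t * a * F.t = a⁻¹) ∧ (∀ u ∈ D.U, u ∈ A ∨ F.t * u ∈ A) ∧
    (∀ a ∈ A, a * a ∈ F.V) ∧ ∀ v ∈ F.V, ∃ a ∈ A, a * a = v := by
  obtain ⟨y1, h1, t1, hN, b, hb, ey⟩ := exists_y D
  have hq := sq_y D h1 t1 hb ey
  have h2 := cj' D.ρU h1
  have h3 := cj' D.ρU h2
  have t2 : (F.ρ⁻¹ * y1 * F.ρ)⁻¹ * F.t * (F.ρ⁻¹ * y1 * F.ρ) = F.t * F.d := by
    rw [cc, cc, fx F.tρ.inv_right, t1, cm, fx F.tρ, F.zρ']
  have ey2 := c2 D h1
  rw [ey, cm F.ρ y1 b, cm F.ρ (F.ρ⁻¹ * y1 * F.ρ)] at ey2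
  have q2 := (cm F.ρ y1 y1).symm
  have q3 := (cm F.ρ (F.ρ⁻¹ * y1 * F.ρ) (F.ρ⁻¹ * y1 * F.ρ)).symm
  rw [q2] at q3
  have b2 := F.ρ_nB (F.ρ_nB hb)
  generalize F.ρ⁻¹ * (F.ρ⁻¹ * b * F.ρ) * F.ρ = b' at *
  generalize F.ρ⁻¹ * (F.ρ⁻¹ * y1 * F.ρ) * F.ρ = y3 at *
  generalize F.ρ⁻¹ * y1 * F.ρ = y2 at *
  have c12 : Commute y1 y2 := by
    have a : y1 * y2 * (y1 * y2) * (y3 * y3) = 1 := by
      have c := (D.cB _ h3 _ hN).eq
      calc _ = y1 * y2 * (y1 * y2 * y3 * y3) := by group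
        _ = _ := by rw [c, ← mul_assoc, F.el_E (F.B_E hN)]
    have : y1 * y1 * (y2 * y2) * (y3 * y3) = 1 := by
      rw [q2, q3]
      rcases hq with e | e <;> rw [e]
      · simp
      · rw [F.zρ', F.dρ']; rw [← F.w_one]; hl_w
    have := mul_right_cancel (this.trans a.symm)
    rw [mul_assoc, mul_assoc, ← mul_assoc y1 y2, ← mul_assoc y2 y1] at this
    exact mul_right_cancel (mul_left_cancel this)
  set A := closure ((F.B : Set G) ∪ {y1, y2}) with hA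
  have BA : F.B ≤ A := fun x hx => subset_closure (Or.inl hx)
  have a1 : y1 ∈ A := subset_closure (Or.inr (Or.inl rfl))
  have a2 : y2 ∈ A := subset_closure (Or.inr (Or.inr rfl))
  have AU : A ≤ D.U := (closure_le _).2 (by
    rintro x (hx | rfl | rfl); exacts [D.EU (F.B_E hx), h1, h2])
  have cA : ∀ x ∈ A, ∀ y ∈ A, Commute x y := fun x hx y hy => by
    have : A ≤ centralizer (A : Set G) := (closure_le _).2 (by
      rw [hA, centralizer_closure]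
      rintro u (hu | hu | hu) v (hv | hv | hv) <;> (try rw [hu]) <;> (try rw [hv])
      exacts [cBB F hv hu, (D.cB _ h1 _ hu).symm, (D.cB _ h2 _ hu).symm, D.cB _ h1 _ hv, c12.symm,
        D.cB _ h2 _ hv, c12])
    exact this hy x hx
  have tA : F.t ∉ A := fun h => F.z1 (mul_eq_left.1 (t1.symm.trans (fx (cA _ h _ a1))))
  have trA : ∀ v ∈ F.V, ∃ a ∈ A, a⁻¹ * F.t * a = F.t * v := fun v hv => by
    rcases F.mem_V.1 hv with rfl | rfl | rfl | rfl
    exacts [⟨1, one_mem _, by simp⟩, ⟨y1, a1, t1⟩, ⟨y2, a2, t2⟩,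
      ⟨y1 * y2, mul_mem a1 a2, by rw [cc, t1, cm, t2, fx (D.cB _ h2 _ (z_B F)), mul_assoc]⟩]
  have ta : ∀ {a v}, a⁻¹ * F.t * a = F.t * v → v ∈ F.B → F.t * a * F.t = a * v := fun {a v} e hv => by
    calc _ = a * (a⁻¹ * F.t * a) * F.t := by group
      _ = _ := by rw [e, (F.comm_E F.t_E (F.B_E hv)).eq, mul_assoc, mul_assoc, F.tt, mul_one]
  rcases hq with q1 | q1 <;> rw [q1] at q2
  · have el : ∀ a ∈ A, a * a = 1 := fun a ha => by
      induction ha using closure_induction with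
      | mem x hx => rcases hx with hx | rfl | rfl; exacts [F.el_E (F.B_E hx), q1, by simpa using q2]
      | one => simp
      | mul x y hx hy ex ey => rw [mul_assoc, ← mul_assoc y, (cA _ hy _ hx).eq, mul_assoc, ey, mul_one, ex]
      | inv x hx ex => rw [← mul_inv_rev, ex, inv_one]
    let A1 : Subgroup G :=
      { carrier := {a | a ∈ A ∧ (a⁻¹ * F.t * a = F.t ∨ a⁻¹ * F.t * a = F.t * F.z)}
        one_mem' := ⟨one_mem _, Or.inl (by simp)⟩
        mul_mem' := by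
          rintro x y ⟨hx, ex⟩ ⟨hy, ey⟩
          refine ⟨mul_mem hx hy, ?_⟩
          rw [cc]
          rcases ex with e | e <;> rw [e]
          · exact ey
          · rw [cm, fx (D.cB _ (AU hy) _ (z_B F))]
            rcases ey with f | f <;> rw [f]
            exacts [Or.inr rfl, Or.inl (by rw [mul_assoc, F.zz, mul_one])]
        inv_mem' := fun {x} hx => by rwa [inv_eq_of_mul_eq_one_right (el x hx.1)] }
    have B1 : F.B ≤ A1 := fun x hx => ⟨BA hx, Or.inl (fx (F.comm_E F.t_E (F.B_E hx)))⟩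
    have l1 : F.B < A1 := lt_of_le_of_ne B1 fun e =>
      F.z1 (mul_eq_left.1 (t1.symm.trans (fx (F.comm_E F.t_E (F.B_E (e.ge ⟨a1, Or.inr t1⟩))))))
    have l2 : A1 < A := lt_of_le_of_ne (fun x hx => hx.1) fun e => by
      rcases (e.ge a2).2 with k | k <;> rw [t2] at k
      exacts [F.d1 (mul_eq_left.1 k), F.d_ne_z (mul_left_cancel k)]
    refine Or.inl (F.mkLA el ?_ B1 l2 (fun a ha ht => ?_) (fun a ha => ?_) (fun a ha => ?_) ?_ (fun a ha k => ?_)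
      fun b hb k => trA b (D.orb b hb k))
    · have := card_le_of_le AU
      have := cardU D
      have := F.card_B'
      omega
    · obtain ⟨x, hx, rfl | rfl⟩ := F.mem_E.1 (D.cU a (AU ha) ht)
      exacts [hx, absurd ((A.mul_mem_cancel_right (BA hx)).1 ha) tA]
    · obtain ⟨v, hv, e⟩ := hv D (AU ha)
      exact ta e (F.V_B hv) ▸ mul_mem ha (BA (F.V_B hv))
    · nth_rewrite 1 [← ei F]
      induction ha using closure_induction with
      | mem x hx =>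
        rcases hx with hx | rfl | rfl
        · rw [ei]; exact BA (F.e_nB hx)
        · exact ey ▸ mul_mem a1 (BA hb)
        · exact ey2 ▸ mul_mem ((A.mul_mem_cancel_left (mul_mem a1 a2)).1 (BA hN)) (BA b2)
      | one => simp
      | mul x y _ _ ex ey => rw [cm]; exact mul_mem ex ey
      | inv x _ ex => simpa [mul_assoc] using inv_mem ex
    · have := two_le l1
      have := two_le l2
      omega
    · obtain ⟨v, hv, e⟩ := hv D (AU ha)
      have : F.e⁻¹ * v * F.e = v := by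
        rcases k with k | k
        · have : F.e⁻¹ * (a⁻¹ * F.t * a) * F.e = a⁻¹ * F.t * a := by rw [← cc, ← k.eq, cc, fx F.te]
          rw [e, cm, fx F.te] at this
          exact mul_left_cancel this
        · have : (F.t * F.e)⁻¹ * (a⁻¹ * F.t * a) * (F.t * F.e) = a⁻¹ * F.t * a := by
            rw [← cc, ← k.eq, cc, fx ((Commute.refl _).mul_right F.te)]
          rw [e, cc, fx ((Commute.refl _).mul_left (F.comm_E (F.B_E (F.V_B hv)) F.t_E)), cm, fx F.te] at this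
          exact mul_left_cancel this
      refine ⟨ha, ?_⟩
      rcases F.mem_V.1 hv with rfl | rfl | rfl | rfl
      · exact Or.inl (by rw [e, mul_one])
      · exact Or.inr e
      · rw [de] at this; exact absurd (mul_eq_left.1 this) F.z1
      · rw [dze] at this; exact absurd (mul_eq_left.1 this.symm) F.z1
  · rw [F.zρ'] at q2
    refine Or.inr ⟨A, BA, AU, fun a ha => ?_, fun u hu => ?_, fun a ha => ?_, fun v hv => ?_⟩
    · induction ha using closure_induction with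
      | mem x hx =>
        refine eq_inv_of_mul_eq_one_right ?_
        rcases hx with hx | rfl | rfl
        · rw [(F.comm_E F.t_E (F.B_E hx)).eq, mul_assoc x, F.tt, mul_one, F.el_E (F.B_E hx)]
        · rw [ta t1 (z_B F), ← mul_assoc, q1, F.zz]
        · rw [ta t2 (d_B F), ← mul_assoc, q2, F.dd]
      | one => simp [F.tt]
      | mul x y hx hy ex ey =>
        calc _ = F.t * x * (F.t * F.t) * y * F.t := by rw [F.tt]; group
          _ = F.t * x * F.t * (F.t * y * F.t) := by group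
          _ = _ := by rw [ex, ey, (cA _ hx _ hy).eq, mul_inv_rev]
      | inv x hx ex => nth_rewrite 2 [← ex]; rw [mul_inv_rev, mul_inv_rev, inv_eq_of_mul_eq_one_right F.tt, mul_assoc]
    · obtain ⟨v, hv, e⟩ := hv D hu
      obtain ⟨a, ha, f⟩ := trA v hv
      obtain ⟨x, hx, k | k⟩ := F.mem_E.1 (D.cU _ (mul_mem hu (inv_mem (AU ha))) (xf (by rw [cc, e, bk f]))) <;>
        rw [mul_inv_eq_iff_eq_mul.1 k]
      · exact Or.inl (mul_mem (BA hx) ha)
      · exact Or.inr (by rw [← mul_assoc, ← mul_assoc, F.tt, one_mul]; exact mul_mem (BA hx) ha)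
    · induction ha using closure_induction with
      | mem x hx =>
        rcases hx with hx | rfl | rfl
        exacts [F.el_E (F.B_E hx) ▸ one_mem _, q1 ▸ F.z_V, q2 ▸ F.d_V]
      | one => simp
      | mul x y hx hy ex ey =>
        rw [mul_assoc, ← mul_assoc y, (cA _ hy _ hx).eq, mul_assoc, ← mul_assoc]; exact mul_mem ex ey
      | inv x hx ex => rw [← mul_inv_rev]; exact inv_mem ex
    · rcases F.mem_V.1 hv with rfl | rfl | rfl | rfl
      exacts [⟨1, one_mem _, one_mul _⟩, ⟨y1, a1, q1⟩, ⟨y2, a2, q2⟩, ⟨y2 * y1, mul_mem a2 a1, by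
        rw [mul_assoc, ← mul_assoc y1, c12.eq, mul_assoc, ← mul_assoc, q1, q2]⟩]

end CL.HL
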