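import Cfsg.Agent.INV.HL.Inv
import Cfsg.Agent.INV.HL.K4s
import Cfsg.Agent.INV.HL.Fpf

/-! S3139: the orbit `t V`, homocyclic case. Notation: `x ^ g = g⁻¹ * x * g`, `~` is conjugacy
in `G`. -/

set_option autoImplicit false
set_option linter.style.haveILetI false
open Subgroup CL.MSS CL.HL.Od CL.HL.Ob CL.HL.Iv CL.HL.Ks

namespace CL.HL
variable {G : Type*} [Group G] [Finite G] {F : Fr G}

/-- Proof. Take `ρ', W` from `invSyl`. Apply `fpf2` to `W̄ = W / ⟨s⟩` (`s` is central in `W`)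
with the automorphisms induced by `ρ'` and `a = t e`, `τ = t̄`: `ρ' ^ 3` and
`t e ρ' t e ρ' = (e ρ')²` centralise `W` (`odd_cent`, `memE`). Fixed points of `ρ̄'`: `w ^ ρ' = w s`
with `s ≠ 1` contradicts `ρ' ^ 3`; use `fix_rho`. `C(t̄) = Ē` has order 8 (`t ≁ t s` for
`s ≠ 1` by `orb`; `memE`). If `ā` fixes `w̄`, then `(t e) ^ w ∈ {t e, t e s}`, so `w` commutes
with `t e` (`t e ~ t`, `t e s ~ t s ≁ t`). `C_W(t e) ⊔ ⟨t e⟩` is a 2-group of order
`2 |C_W(t e)|` (`t e` does not centralise `d`) centralising `t e, s, z`, so has order `≤ 32`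
(`bT` if `s = 1`, `(F.lc _).c8` with `X = closure {t e, s, z}` if `s ≠ 1`). -/
theorem K4.cenB (D : K4 F) : ∃ W : Subgroup G, IsPGroup 2 W ∧ D.U ≤ W ∧
    (∀ w ∈ W, ∀ b ∈ F.B, Commute b w) ∧ F.e ∈ normalizer (W : Set G) ∧
    (∀ Y : Subgroup G, IsPGroup 2 Y → W ≤ Y → (∀ y ∈ Y, ∀ b ∈ F.B, Commute b y) → Y = W) ∧
    Nat.card W ≤ 128 ∧ (F.s ≠ 1 → Nat.card W ≤ 64) := by
  haveI := Fact.mk Nat.prime_two
  obtain ⟨r, W, hr, pW, UW, cW, eW, rW, mx⟩ := D.invSyl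
  have EW : F.E ≤ W := D.EU.trans UW
  have hc : ∀ y ∈ W, Commute F.t y → y ∈ F.E := fun y hy ht =>
    F.memE pW EW hy ht (cW y hy _ (z_B F)) (cW y hy _ (d_B F))
  have ms : ∀ {x}, x ∈ zpowers F.s ↔ x = 1 ∨ x = F.s := fun {x} =>
    ⟨fun ⟨k, hk⟩ => by
      rcases Int.even_or_odd' k with ⟨j, rfl | rfl⟩ <;> simp only [zpow_add, zpow_mul, zpow_two, F.ss] at hk
      exacts [Or.inl (by simpa using hk.symm), Or.inr (by simpa using hk.symm)],
    fun h => h.elim (· ▸ one_mem _) (· ▸ mem_zpowers _)⟩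
  have ns : ∀ {g}, Commute F.s g → g ∈ normalizer (zpowers F.s : Set G) := fun h =>
    norm_of_comm fun x hx => (ms.1 hx).elim (· ▸ Commute.one_left _) (· ▸ h)
  haveI : ((zpowers F.s).subgroupOf W).Normal :=
    ⟨fun x hx g => mem_subgroupOf.2 (cj (ns (cW g g.2 _ F.s_B)) (mem_subgroupOf.1 hx))⟩
  have teW := mul_mem (le_normalizer (EW F.t_E)) eW
  obtain ⟨φ, hφ⟩ := exists_qa rW (ns hr.sρ)
  obtain ⟨a, ha⟩ := exists_qa teW (ns (F.ts.symm.mul_right F.se))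
  have qe : ∀ {x y : W}, (x : W ⧸ (zpowers F.s).subgroupOf W) = y ↔ (y : G) = x ∨ (y : G) = x * F.s := fun {x y} => by
    rw [QuotientGroup.eq, mem_subgroupOf, ms, coe_mul, coe_inv, inv_mul_eq_iff_eq_mul, inv_mul_eq_iff_eq_mul, mul_one]
  have cO : ∀ o ∈ F.O, o ∈ normalizer (W : Set G) → ∀ w ∈ W, o * w * o⁻¹ = w := fun o ho hn w hw => by
    rw [(F.odd_cent pW EW hc ho hn w hw).eq]; group
  have c3 : ∀ w ∈ W, r * (r * (r * w * r⁻¹) * r⁻¹) * r⁻¹ = w := fun w hw => by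
    nth_rewrite 2 [← cO _ hr.cube (pow_mem rW 3) w hw]; simp [pow_succ, mul_assoc]
  have tete : F.t * F.e * (F.t * F.e) = 1 := by rw [← F.w_one]; hl_w
  let τ : W ⧸ (zpowers F.s).subgroupOf W := ((⟨F.t, EW F.t_E⟩ : W) : W ⧸ (zpowers F.s).subgroupOf W)
  have cτ : ∀ w : W, Commute τ (w : W ⧸ (zpowers F.s).subgroupOf W) → (w : G) ∈ F.E := fun w h => by
    have := qe.1 (show ((w * ⟨F.t, EW F.t_E⟩ : W) : W ⧸ (zpowers F.s).subgroupOf W) = (⟨F.t, EW F.t_E⟩ * w : W) from h.eq.symm)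
    refine hc w w.2 (xf (eq_t D (icj _ _) (Or.inr ?_)))
    rcases this with e | e <;> simp only [coe_mul] at e <;> rw [mul_assoc, e]
    exacts [Or.inl (by group), Or.inr (Or.inr (by group))]
  have cn : Nat.card ((zpowers F.s).subgroupOf W) = orderOf F.s := by
    rw [← Nat.card_zpowers]
    exact Nat.card_congr (subgroupOfEquivOfLe (zpowers_le.2 (EW (F.B_E F.s_B)))).toEquiv
  have pre : ∀ (S : Set (W ⧸ (zpowers F.s).subgroupOf W)) (K : Subgroup G),
      (∀ w : W, (w : W ⧸ (zpowers F.s).subgroupOf W) ∈ S → (w : G) ∈ K) → orderOf F.s * Nat.card S ≤ Nat.card K :=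
    fun S K h => by
      rw [← cn, ← QuotientGroup.card_preimage_mk]
      exact Nat.card_le_card_of_injective (fun w => ⟨w.1.1, h _ w.2⟩) fun x y e =>
        Subtype.ext (Subtype.ext (congrArg (fun k : K => (k : G)) e))
  have os : (F.s = 1 ∧ orderOf F.s = 1 ∧ Nat.card F.B = 4) ∨ (F.s ≠ 1 ∧ orderOf F.s = 2 ∧ Nat.card F.B = 8) := by
    by_cases h2 : F.s = 1
    exacts [Or.inl ⟨h2, by rw [h2, orderOf_one], by rw [F.B_eq h2, F.card_V]⟩,
      Or.inr ⟨h2, orderOf_eq_prime (by rw [sq, F.ss]) h2, F.card_B h2⟩]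
  have key := fpf2 ((pW.to_quotient _ : IsPGroup 2 (W ⧸ (zpowers F.s).subgroupOf W))) φ a
    (by
      ext x
      obtain ⟨x, rfl⟩ := QuotientGroup.mk_surjective x
      rw [pow_three, MulAut.mul_apply, MulAut.mul_apply, hφ, hφ, hφ, MulAut.one_apply]
      exact qe.2 (Or.inl (c3 x x.2).symm))
    (by
      ext x
      obtain ⟨x, rfl⟩ := QuotientGroup.mk_surjective x
      rw [MulAut.mul_apply, ha, ha, MulAut.one_apply]
      refine qe.2 (Or.inl ?_)
      calc (x : G) = F.t * F.e * (F.t * F.e) * x * (F.t * F.e * (F.t * F.e))⁻¹ := by rw [tete]; group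
        _ = _ := by simp only [mul_inv_rev, mul_assoc])
    (by
      refine eq_inv_of_mul_eq_one_left ?_
      ext x
      obtain ⟨x, rfl⟩ := QuotientGroup.mk_surjective x
      rw [MulAut.mul_apply, MulAut.mul_apply, MulAut.mul_apply, hφ, ha, hφ, ha, MulAut.one_apply]
      refine qe.2 (Or.inl ?_)
      have e : F.t * F.e * r * (F.t * F.e * r) = (F.e * r) ^ 2 := by
        rw [mul_assoc F.t, ← sq, (F.te.mul_right hr.tρ).mul_pow, sq F.t, F.tt, one_mul]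
      refine (cO _ hr.sq (pow_mem (mul_mem eW rW) 2) x x.2).symm.trans ?_
      rw [← e]
      simp only [mul_inv_rev, mul_assoc])
    τ (fun e => F.t_nB (by
      rcases ms.1 (mem_subgroupOf.1 ((QuotientGroup.eq_one_iff _).1 e)) with k | k <;> change F.t = _ at k <;> rw [k]
      exacts [one_mem _, F.s_B]))
    (fun x => by
      obtain ⟨x, rfl⟩ := QuotientGroup.mk_surjective x
      rw [hφ]
      refine ⟨fun h => ?_, ?_⟩
      · have k : r * x * r⁻¹ = x := by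
          rcases qe.1 h.symm with e | e
          · exact e
          · change r * x * r⁻¹ = _ at e
            have s1 : r * F.s * r⁻¹ = F.s := by rw [← hr.sρ.eq]; group
            have m : ∀ u v, r * (u * v) * r⁻¹ = r * u * r⁻¹ * (r * v * r⁻¹) := fun u v => by group
            have := c3 x x.2
            rw [e, m x, e, s1, mul_assoc (x : G), F.ss, mul_one] at this
            exact this
        rcases D.fix_rho hr pW EW cW x.2 (mul_inv_eq_iff_eq_mul.1 k) with e | e | e | e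
        exacts [Or.inl (qe.2 (Or.inl e.symm)), Or.inr (qe.2 (Or.inl e.symm)),
          Or.inl (qe.2 (Or.inr (by rw [e, F.ss]; rfl))), Or.inr (qe.2 (Or.inr (by rw [e, mul_assoc, F.ss, mul_one])))]
      · rintro (h | h)
        · rw [← hφ, h, map_one]
        · rw [← hφ, h, hφ]; exact qe.2 (Or.inl (by simp only []; rw [← hr.tρ.eq]; group)))
    (fun x h => by
      obtain ⟨x, rfl⟩ := QuotientGroup.mk_surjective x
      rw [← QuotientGroup.mk_mul, show x * x = 1 from Subtype.ext (F.el_E (cτ x h))]; rfl)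
    (by
      have := pre (centralizer {τ}) F.E fun w h => cτ w (mem_centralizer_singleton_iff.1 h).symm
      rw [F.card_E] at this
      change _ * Nat.card (centralizer {τ}) ≤ _ at this
      rcases os with ⟨-, h, k⟩ | ⟨-, h, k⟩ <;> rw [h, k] at this <;> omega)
  have k1 := pre {x | a x = x} (W ⊓ centralizer {F.t * F.e}) fun w h => ⟨w.2, mem_centralizer_singleton_iff.2 (by
    replace h : a w = w := h
    rw [ha] at h
    rcases qe.1 h.symm with e | e <;> simp only [] at e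
    · exact (mul_inv_eq_iff_eq_mul.1 e).symm
    · have f : (w : G)⁻¹ * (F.t * F.e) * w = F.t * F.e * F.s := by
        rw [mul_assoc, mul_inv_eq_iff_eq_mul.1 e, (F.ts.mul_left F.se.symm).eq]; group
      by_cases h2 : F.s = 1
      · rw [h2, mul_one] at f; exact (xf f).symm
      · exact absurd (((tte D).trans (f ▸ icj (w : G) _)).trans (F.cj_tes h2).symm) (nts D h2))⟩
  have k2 : 2 * Nat.card ↥(W ⊓ centralizer {F.t * F.e}) ≤ 32 := by
    have c : ∀ u, Commute u (F.t * F.e) → (∀ w ∈ W ⊓ centralizer {F.t * F.e}, Commute u w) →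
        ∀ y ∈ W ⊓ centralizer {F.t * F.e} ⊔ zpowers (F.t * F.e), Commute u y := fun u h1 h2 =>
      comm_sup h2 (by rintro _ ⟨k, rfl⟩; exact h1.zpow_right k)
    have c1 := c _ (Commute.refl _) fun w hw => (mem_centralizer_singleton_iff.1 hw.2).symm
    have pY : IsPGroup 2 ↥(W ⊓ centralizer {F.t * F.e} ⊔ zpowers (F.t * F.e)) :=
      isPGroup_sup_of_normalizes' pW.to_inf_left (isPGroup_zpowers (k := 1) (by rw [pow_one, sq, tete]))
        (zpowers_le.2 (norm_of_comm fun x hx => mem_centralizer_singleton_iff.1 hx.2))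
    refine (two_le (K := _ ⊔ zpowers (F.t * F.e)) (lt_of_le_of_ne le_sup_left fun e => F.not_de ?_)).trans ?_
    · simpa using F.td.symm.inv_right.mul_right (cW _ (e.ge (mem_sup_right (mem_zpowers _))).1 _ (d_B F))
    rcases os with ⟨-, -, h⟩ | ⟨h2, -⟩
    · have := F.bT (tte D) _ pY c1
      omega
    · obtain ⟨X, x1, x2, x3, -, -, -, -, x8⟩ := exists_X h2
      exact (F.lc (tte D)).c8 X _ x1 x2 x3 pY fun y hy => x8 y (c1 y hy)
        (c _ (F.ts.symm.mul_right F.se) (fun w hw => cW w hw.1 _ F.s_B) y hy)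
        (c _ (F.tz.symm.mul_right F.ze) (fun w hw => cW w hw.1 _ (z_B F)) y hy)
  have k3 := card_eq_card_quotient_mul_card_subgroup ((zpowers F.s).subgroupOf W)
  rw [cn] at k3
  change 2 * _ ≤ Nat.card {x | a x = x} ^ 2 at key
  refine ⟨W, pW, UW, cW, eW, mx, ?_⟩
  rcases os with ⟨h2, h, -⟩ | ⟨h2, h, -⟩ <;> rw [h] at k1 k3
  · have := Nat.pow_le_pow_left (show Nat.card {x | a x = x} ≤ 16 by omega) 2
    exact ⟨by omega, fun h => absurd h2 h⟩
  · have := Nat.pow_le_pow_left (show Nat.card {x | a x = x} ≤ 8 by omega) 2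
    exact ⟨by omega, fun _ => by omega⟩

theorem Kf.card_le (P : Subgroup G) (x : G) (S : Set G) (h : ∀ a ∈ P, a * x * a⁻¹ ∈ S) :
    Nat.card P ≤ Nat.card ↥(P ⊓ centralizer {x}) * S.ncard := by
  rw [← CL.JR.card_inf_mul_ncard_conj P x]
  exact Nat.mul_le_mul_left _ (Set.ncard_le_ncard (by rintro _ ⟨a, ha, rfl⟩; exact h a ha))

/-- Proof. `A` is abelian, `t ∉ A`, an involution of `A` lies in `B` (`cU`), every `f ∈ t A`
inverts `A`, so `{a⁻¹ a ^ f} = V`. Take `W` from `cenB`, `P` a Sylow 2-subgroup of `N(B)` above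
`W ⊔ ⟨e⟩`; `C_P(B) = W`, `|P : W| ≤ 2` if `s = 1` and `≤ 8` if `s ≠ 1` (a 2-group of
automorphisms of `B`), so `|P| ≤ 512`. (*) An element `f ∈ P ∩ N(E)` centralising `V` lies in
`U`: `ns` gives `f ∈ C(B)`, `syl` applied to `P ⊓ N(E)` gives `f ∈ U ∪ U e`. If `s ≠ 1`,
`|U| ≥ 4 |E| = 64` (`tr`), so `W = U` is normal in `P`, and so are `A` (generated by `B` and
the non-involutions of `U`) and `V` (its squares). If `s = 1`, `V = B`. Let `S ≥ P` be Sylow in
`G`, `x ∈ N_S(P)`; we show `B ^ x = B`, whence `x ∈ P` and `S = P`.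
(1) `X = V ^ x` is a normal four-subgroup of `P`, so `⁅P, X⁆ ≤ ⟨ζ⟩`, `ζ ∈ X ∩ Z(P)`. `ζ` fixes
`t`, normalises `E`, so `ζ ∈ T0` (`memT0`), `ζ ∈ E` (`cen_T0`). For `f ∈ X`, `a ∈ A`:
`a ^ f ∈ a ⟨ζ⟩`, so `f` centralises the squares `V`; `⁅E, f⁆ ≤ ⟨ζ⟩ ≤ E`; by (*) `f ∈ U`;
`f ∉ t A` as `|V| = 4`; so `f ∈ B`. If `s = 1` we are done.
(2) `s ≠ 1`, `B' = B ^ x` normal in `P`, `f ∈ B'`. `⁅A, f⁆ ≤ A ∩ B'` consists of involutions, so
`f` centralises `V`. `I = U ∩ B' ∋ ⁅t, f⁆`. If `I ≤ A` then `I ≤ B`, every `f ∈ B'` normalises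
`E`, so `f ∈ U` by (*), `B' = I ≤ B`, done. Otherwise `f' ∈ I ∩ t A`, so `V ≤ B'`,
`B' = ⟨V, f'⟩`, `B ∩ B' = V`. `A' = A ^ x` is normal in `P` and centralises `B'`;
`⁅A, A'⁆ ≤ A ∩ A'`, whose elements commute with `f'`, so are involutions, so lie in
`B ∩ B' = V`. As `t = f' a`, `⁅t, A'⁆ ≤ V`, so `A'` normalises `E`, `A' ≤ U` by (*), and `A'`
commutes with `f'`, which forces all its elements to be involutions; but `A'` has elements of
order 4. -/
theorem K4.four (D : K4 F) (A : Subgroup G) (hB : F.B ≤ A) (hU : A ≤ D.U)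
    (hi : ∀ a ∈ A, F.t * a * F.t = a⁻¹) (hd : ∀ u ∈ D.U, u ∈ A ∨ F.t * u ∈ A)
    (hs : ∀ a ∈ A, a * a ∈ F.V) (hs' : ∀ v ∈ F.V, ∃ a ∈ A, a * a = v) :
    ¬ 2 ^ 10 ∣ Nat.card G := by
  haveI := Fact.mk Nat.prime_two
  have cA : ∀ a ∈ A, ∀ b ∈ A, Commute a b := fun a ha b hb => by
    have : (a * b)⁻¹ = (b * a)⁻¹ := by
      calc _ = F.t * a * (F.t * F.t) * b * F.t := by rw [← hi _ (mul_mem ha hb), F.tt]; group
        _ = F.t * a * F.t * (F.t * b * F.t) := by group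
        _ = _ := by rw [hi a ha, hi b hb, mul_inv_rev]
    exact inv_injective this
  obtain ⟨az, haz, sz⟩ := hs' _ F.z_V
  obtain ⟨ad, had, sd⟩ := hs' _ F.d_V
  have inv : ∀ f ∈ D.U, f ∉ A → f * f = 1 ∧ ∀ a ∈ A, f⁻¹ * a * f = a⁻¹ := fun f hf hfA => by
    have k := (hd f hf).resolve_left hfA
    have e : f = F.t * (F.t * f) := by rw [← mul_assoc, F.tt, one_mul]
    generalize F.t * f = u at k e
    subst e
    refine ⟨by rw [← mul_assoc, hi u k, inv_mul_cancel], fun a ha => ?_⟩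
    rw [cc, inv_eq_of_mul_eq_one_right F.tt, hi a ha, fx (cA _ (inv_mem ha) _ k)]
  have tA : F.t ∉ A := fun h => F.z1 (by
    rw [← sz]; nth_rewrite 1 [← inv_inv az, ← hi az haz, (cA _ h _ haz).eq, mul_assoc, F.tt, mul_one]
    exact inv_mul_cancel _)
  have iB : ∀ a ∈ A, a * a = 1 → a ∈ F.B := fun a ha h => by
    have := hi a ha
    rw [inv_eq_of_mul_eq_one_right h] at this
    obtain ⟨b, hb, rfl | rfl⟩ := F.mem_E.1 (D.cU a (hU ha)
      (xf (by rwa [inv_eq_of_mul_eq_one_right F.tt])).symm)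
    exacts [hb, absurd ((A.mul_mem_cancel_right (hB hb)).1 ha) tA]
  obtain ⟨W, pW, UW, cW, eW, mx, w1, w2⟩ := D.cenB
  have pe : IsPGroup 2 (zpowers F.e) := isPGroup_zpowers (k := 1) (by rw [pow_one, sq, F.ee])
  obtain ⟨P, hP, le⟩ := exists_sylIn_ge (H := normalizer (F.B : Set G))
    (isPGroup_sup_of_normalizes' pW pe (zpowers_le.2 eW))
    (sup_le (fun w hw => norm_of_comm (cW w hw)) (zpowers_le.2 (nm_of (stB' F F.e_nE F.te))))
  have WP : W ≤ P := le_sup_left.trans le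
  have UP := UW.trans WP
  have EP := D.EU.trans UP
  have eP : F.e ∈ P := le (mem_sup_right (mem_zpowers _))
  have nB : ∀ p ∈ P, ∀ b ∈ F.B, p⁻¹ * b * p ∈ F.B := fun p hp b hb => cj' (hP.le hp) hb
  have CW : P ⊓ centralizer (F.B : Set G) = W :=
    mx _ hP.pgroup.to_inf_left (le_inf WP fun w hw => cW w hw) fun y hy => hy.2
  have star : ∀ f ∈ P, (∀ v ∈ F.V, Commute v f) → (∃ c ∈ F.E, f⁻¹ * F.t * f = F.t * c) → f ∈ D.U := by
    rintro f hf hV ⟨c, hc, e⟩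
    have hn : f ∈ normalizer (F.E : Set G) := Fr.norm_of fun x hx => by
      obtain ⟨b, hb, rfl | rfl⟩ := F.mem_E.1 hx
      · exact F.B_E (nB f hf _ hb)
      · rw [cm, e]; exact mul_mem (mul_mem F.t_E hc) (F.B_E (nB f hf _ hb))
    refine (D.syl (P ⊓ normalizer (F.E : Set G)) hP.pgroup.to_inf_left inf_le_right (le_inf UP D.UN)
      ⟨eP, F.e_nE⟩ f ⟨hf, hn⟩).resolve_right fun k => F.not_de ?_
    simpa using (hV _ F.d_V).inv_right.mul_right (D.cB _ k _ (d_B F))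
  have nUA : F.s ≠ 1 → (∀ p ∈ P, ∀ u ∈ D.U, p⁻¹ * u * p ∈ D.U) ∧ ∀ p ∈ P, ∀ a ∈ A, p⁻¹ * a * p ∈ A := fun h2 => by
    have e : D.U = W := eq_of_le_of_card_ge UW (by rw [cardU D, F.card_B h2]; exact w2 h2)
    have a : ∀ p ∈ P, ∀ u ∈ D.U, p⁻¹ * u * p ∈ D.U := fun p hp u hu => by
      rw [e, ← CW]
      refine ⟨P.mul_mem (P.mul_mem (P.inv_mem hp) (UP hu)) hp, fun b hb => xf ?_⟩
      rw [cc, cc, fx (D.cB u hu _ (nB _ (inv_mem hp) b hb))]; group
    refine ⟨a, fun p hp u hu => by_contra fun k => k (hB (nB p hp u (iB u hu ?_)))⟩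
    have := (inv _ (a p hp u (hU hu)) k).1
    rwa [← cm, cj_eq_one] at this
  have nV : ∀ p ∈ P, ∀ v ∈ F.V, p⁻¹ * v * p ∈ F.V := fun p hp v hv => by
    by_cases h2 : F.s = 1
    · rw [← F.B_eq h2] at hv ⊢; exact nB p hp v hv
    · obtain ⟨a, ha, rfl⟩ := hs' v hv
      rw [cm]; exact hs _ ((nUA h2).2 p hp a ha)
  have cz : ∀ p ∈ P, Commute F.z p := by
    obtain ⟨⟨v, hv, hc⟩, v1⟩ := ne_bot_iff_exists_ne_one.1 (inf_centralizer_ne_bot hP.pgroup
      (F.p2_E.to_le (F.V_B.trans F.B_E)) (fun p hp => Fr.norm_of (nV p hp))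
      fun e => F.z1 (mem_bot.1 (e ▸ F.z_V)))
    have := fx (Commute.symm (hc _ eP))
    rcases F.mem_V.1 hv with rfl | rfl | rfl | rfl
    · exact absurd rfl v1
    · exact fun p hp => Commute.symm (hc p hp)
    · rw [de] at this; exact absurd (mul_eq_left.1 this) F.z1
    · rw [dze] at this; exact absurd (mul_eq_left.1 this.symm) F.z1
  have cd : ∀ p ∈ P, p⁻¹ * F.d * p = F.d ∨ p⁻¹ * F.d * p = F.d * F.z := fun p hp => by
    rcases F.mem_V.1 (nV p hp _ F.d_V) with e | e | e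
    exacts [absurd (cj_eq_one.1 e) F.d1, absurd (inj (e.trans (fx (cz p hp)).symm)) F.d_ne_z, e]
  have cv : ∀ p ∈ P, ∀ v ∈ F.V, p⁻¹ * v * p = v ∨ p⁻¹ * v * p = v * F.z := fun p hp v hv => by
    rcases F.mem_V.1 hv with rfl | rfl | rfl | rfl
    · exact Or.inl (by simp)
    · exact Or.inl (fx (cz p hp))
    · exact cd p hp
    · rw [cm, fx (cz p hp)]; exact (cd p hp).imp (fun e => by rw [e]) fun e => by rw [e]
  have cP : Nat.card P ≤ 512 := by
    have a := Kf.card_le P F.d {F.d, F.d * F.z} fun p hp => by simpa using cd _ (inv_mem hp)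
    have a2 : ({F.d, F.d * F.z} : Set G).ncard ≤ 2 := (Set.ncard_insert_le _ _).trans (by simp)
    have b : ∀ p ∈ P ⊓ centralizer {F.d}, Commute F.s p → p ∈ W := fun p hp h => CW.le
      ⟨hp.1, cB_of F h (cz p hp.1) (mem_centralizer_singleton_iff.1 hp.2).symm⟩
    by_cases h2 : F.s = 1
    · have := card_le_of_le (fun p hp => b p hp (h2 ▸ Commute.one_left _) : P ⊓ centralizer {F.d} ≤ W)
      nlinarith
    · have c := Kf.card_le (P ⊓ centralizer {F.d}) F.s ((fun v => F.s * v) '' (F.V : Set G)) fun p hp => by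
        obtain ⟨v, hv, e | e⟩ := F.mem_B.1 (cj (hP.le hp.1) F.s_B)
        · have := nV p hp.1 v hv
          rw [← e] at this
          exact absurd (by simpa [mul_assoc] using this) (F.s_nV h2)
        · exact ⟨v, hv, e.symm⟩
      rw [Set.ncard_image_of_injective _ (mul_right_injective _), ← Nat.card_coe_set_eq] at c
      erw [F.card_V] at c
      have := card_le_of_le (fun p hp => b p hp.1 (mem_centralizer_singleton_iff.1 hp.2).symm :
        P ⊓ centralizer {F.d} ⊓ centralizer {F.s} ≤ W)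
      have := w2 h2
      nlinarith
  obtain ⟨S, hS⟩ := hP.pgroup.exists_le_sylow
  intro h10
  have cS := Nat.le_of_dvd Nat.card_pos (S.pow_dvd_card_of_pow_dvd_card h10)
  obtain ⟨x, ⟨xS, xP⟩, xn⟩ := SetLike.exists_of_lt (lt_inf_normalizer_of_lt S.isPGroup'
    (lt_of_le_of_ne hS fun e => by rw [← e] at cS; omega))
  refine xn ((hP.max (S ⊓ normalizer (F.B : Set G)) S.isPGroup'.to_inf_left (le_inf hS hP.le) inf_le_right).le
    ⟨xS, Fr.norm_of (H := F.B) ?_⟩)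
  have nx : ∀ {H : Subgroup G}, (∀ p ∈ P, ∀ h ∈ H, p⁻¹ * h * p ∈ H) → ∀ p ∈ P, ∀ f ∈ cjs H x,
      p⁻¹ * f * p ∈ cjs H x := fun h p hp f hf => mem_cjs.2 (by
    have := h _ (cj xP hp) _ (mem_cjs.1 hf)
    rwa [show (x * p * x⁻¹)⁻¹ * (x * f * x⁻¹) * (x * p * x⁻¹) = x * (p⁻¹ * f * p) * x⁻¹ by group] at this)
  have sqV : ∀ f, (∀ a ∈ A, ∃ c, c * c = 1 ∧ Commute a c ∧ f⁻¹ * a * f = a * c) → ∀ v ∈ F.V, Commute v f :=
    fun f h v hv => by
      obtain ⟨a, ha, rfl⟩ := hs' v hv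
      obtain ⟨c, c1, c2, e⟩ := h a ha
      exact xf (by rw [cm, e, mul_assoc, ← mul_assoc c, ← c2.eq, mul_assoc, c1, mul_one])
  by_cases h2 : F.s = 1
  · intro v hv
    rw [F.B_eq h2] at hv
    have vP := cj' xP (EP (F.B_E (F.V_B hv)))
    have cζ : ∀ p ∈ P, Commute p (x⁻¹ * F.z * x) := fun p hp => by
      simpa [mul_assoc] using comm_cj (cz _ (cj xP hp)).symm x
    have ζE := F.memE hP.pgroup EP (cj' xP (EP (F.B_E (z_B F)))) (cζ _ (EP F.t_E)) (cζ _ (EP (F.B_E (z_B F))))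
      (cζ _ (EP (F.B_E (d_B F))))
    have vv := sq_cj (F.el_E (F.B_E (F.V_B hv))) x
    have k : ∀ p ∈ P, (x⁻¹ * v * x)⁻¹ * p * (x⁻¹ * v * x) = p ∨
        (x⁻¹ * v * x)⁻¹ * p * (x⁻¹ * v * x) = p * (x⁻¹ * F.z * x) := fun p hp => by
      have e : (x⁻¹ * v * x)⁻¹ * p * (x⁻¹ * v * x) =
        p * (x⁻¹ * (((x * p * x⁻¹)⁻¹ * v * (x * p * x⁻¹))⁻¹ * v) * x) := by group
      rw [e]
      rcases cv _ (cj xP hp) v hv with f | f <;> rw [f]
      · exact Or.inl (by group)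
      · exact Or.inr (by rw [mul_inv_rev, inv_mul_cancel_right, inv_eq_of_mul_eq_one_right F.zz])
    generalize x⁻¹ * v * x = f at *
    generalize x⁻¹ * F.z * x = ζ at *
    have fU := star f vP (sqV f fun a ha => (k a (UP (hU ha))).elim
      (fun e => ⟨1, one_mul _, Commute.one_right _, by rw [e, mul_one]⟩)
      fun e => ⟨ζ, F.el_E ζE, cζ a (UP (hU ha)), e⟩)
      ((k _ (EP F.t_E)).elim (fun e => ⟨1, one_mem _, by rw [e, mul_one]⟩) fun e => ⟨ζ, ζE, e⟩)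
    refine iB f (by_contra fun fA => ?_) vv
    have a : ∀ a ∈ A, a * a = 1 ∨ a * a * ζ = 1 := fun a ha =>
      (k a (UP (hU ha))).imp (fun e => by nth_rewrite 1 [← e]; rw [(inv f fU fA).2 a ha, inv_mul_cancel])
        fun e => by rw [mul_assoc, ← e, (inv f fU fA).2 a ha, mul_inv_cancel]
    have a1 := a _ haz
    have a2 := a _ had
    rw [sz] at a1
    rw [sd] at a2
    exact F.d_ne_z (mul_right_cancel ((a2.resolve_left F.d1).trans (a1.resolve_left F.z1).symm))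
  obtain ⟨nU, nA⟩ := nUA h2
  have BP : cjs F.B x ≤ P := cjs_ind fun b hb => cj' xP (EP (F.B_E hb))
  have el : ∀ f ∈ cjs F.B x, f * f = 1 := cjs_ind fun b hb => sq_cj (F.el_E (F.B_E hb)) x
  by_cases hI : ∀ f ∈ cjs F.B x, f ∈ D.U → f ∈ A
  · intro b hb
    have hf := cj_cjs x hb
    generalize x⁻¹ * b * x = f at hf
    have cm1 : ∀ p ∈ P, p⁻¹ * (f⁻¹ * p * f) ∈ cjs F.B x := fun p hp => by
      simpa [mul_assoc] using mul_mem (nx nB p hp _ (inv_mem hf)) hf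
    refine iB f (hI f hf (star f (BP hf) (sqV f fun a ha => ⟨_, el _ (cm1 a (UP (hU ha))),
      cA _ ha _ (mul_mem (inv_mem ha) (nA f (BP hf) a ha)), by group⟩) ⟨_, F.B_E (iB _ (hI _ (cm1 _ (EP F.t_E))
      (mul_mem (inv_mem (D.EU F.t_E)) (nU f (BP hf) _ (D.EU F.t_E)))) (el _ (cm1 _ (EP F.t_E)))), by group⟩)) (el f hf)
  push Not at hI
  obtain ⟨f, hf, fU, fA⟩ := hI
  have fi := (inv f fU fA).2
  have VB : F.V ≤ cjs F.B x := fun v hv => by
    obtain ⟨a, ha, rfl⟩ := hs' v hv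
    have := mul_mem (inv_mem hf) (nx nB a (UP (hU ha)) f hf)
    rwa [show f⁻¹ * (a⁻¹ * f * a) = f⁻¹ * a⁻¹ * f * a by group, fi _ (inv_mem ha), inv_inv] at this
  have cx : ∀ a ∈ cjs A x, ∀ b ∈ cjs F.B x, Commute b a :=
    cjs_ind fun a ha => cjs_ind fun b hb => comm_cj (D.cB a (hU ha) b hb) x
  have ha := cj_cjs x haz
  have a1 : x⁻¹ * az * x * (x⁻¹ * az * x) ≠ 1 := by rw [← cm, sz, Ne, cj_eq_one]; exact F.z1
  have aP := cj' xP (UP (hU haz))
  generalize x⁻¹ * az * x = a at ha a1 aP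
  have tf := (hd f fU).resolve_left fA
  have c1 : (F.t * f)⁻¹ * (a⁻¹ * (F.t * f) * a) ∈ A := mul_mem (inv_mem tf) (nA a aP _ tf)
  have c2 : (F.t * f)⁻¹ * (a⁻¹ * (F.t * f) * a) ∈ cjs A x := by
    simpa [mul_assoc] using mul_mem (nx nA _ (UP (hU tf)) _ (inv_mem ha)) ha
  have c3 := fi _ c1
  rw [fx (cx _ c2 f hf).symm] at c3
  have c4 := iB _ c1 (by nth_rewrite 1 [c3]; exact inv_mul_cancel _)
  have aU := star a aP (fun v hv => cx a ha v (VB hv)) ⟨_, F.B_E (nB _ (inv_mem (UP fU)) _ c4), by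
    have : a⁻¹ * F.t * a = a⁻¹ * (F.t * f) * a * f⁻¹ := by rw [cm, fx (cx a ha f hf)]; group
    rw [this]; group⟩
  by_cases aA : a ∈ A
  · exact absurd (by nth_rewrite 1 [← fx (cx a ha f hf).symm]; rw [fi a aA, inv_mul_cancel]) a1
  · exact absurd (inv a aU aA).1 a1

end CL.HL
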