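import Cfsg.Agent.INV.HL.LA1b
import Cfsg.Agent.S3224

/-! STUB (S3139, captain h73). Keep the statements verbatim; helper files `INV/HL/LA1a.lean`, ... are
welcome. Notation: `x ^ g = g⁻¹ * x * g`, `~` is conjugacy in `G`. Definitions: `HL/Defs`. -/

set_option autoImplicit false
open Subgroup
open scoped Pointwise

namespace CL.HL
variable {G : Type*} [Group G] [Finite G]

/-- `T0 = C_A(t) ⟨t, e⟩` is the centraliser of `t` in every 2-subgroup `Y ≥ T0` of `N(A)`.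
Proof. `t, e, t e` do not centralise `A` (`big`), so they are not in `A` and `T0` has order
`4 |C_A(t)|`; apply `max0` to `Y ⊓ C(t)`. -/
theorem LA.memT0 (L : LA G) {Y : Subgroup G} (hY : IsPGroup 2 Y)
    (hn : Y ≤ normalizer (L.A : Set G)) (hA : L.A ≤ Y) (ht : L.t ∈ Y) (he : L.e ∈ Y) {g : G}
    (hg : g ∈ Y) (h : Commute L.t g) :
    ∃ a ∈ L.A, Commute L.t a ∧ (g = a ∨ g = a * L.t ∨ g = a * L.e ∨ g = a * (L.t * L.e)) :=
  La.memT0' L hY hn hA ht he hg h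

/-- A 2-element normalising an elementary abelian group of order `≤ 64` has its 8th power in the
centraliser. Proof. `f = conj g` on `Additive A`, an `End` ring of characteristic 2;
`N = f - 1` is nilpotent (`N ^ (2 ^ k) = f ^ (2 ^ k) - 1 = 0`), the ranges of `N ^ i` decrease
strictly until they vanish, so `N ^ 6 = 0` and `f ^ 8 - 1 = N ^ 8 = 0`. -/
theorem pow8 {A : Subgroup G} (hel : ∀ a ∈ A, a * a = 1) (hc : Nat.card A ≤ 64) {g : G}
    (hg : g ∈ normalizer (A : Set G)) {k : ℕ} (hk : g ^ 2 ^ k = 1) :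
    ∀ a ∈ A, Commute (g ^ 8) a := La.pow8' hel hc hg hk

/-- Proof. Let `SA ≥ A ⊔ closure {t, e}` be Sylow in `N(A)`, `S ≥ SA` Sylow in `G`, so
`N_S(A) = SA`; `P̄ = SA / A`. `C(t̄) = {1, t̄, ē, t̄ ē}` (if `t ^ g = t a`, `fus` gives `b ∈ A`
with `g b⁻¹ ∈ C(t)`; `memT0`). `C_SA(A) = A` (otherwise its image meets `Z(P̄) ≤ C(t̄)`, and one
of `t, e, t e` centralises `A`). By `pow8` `P̄` has exponent `∣ 8`; by `S3224` it has a cyclic
subgroup of index 2 or order 4; so `|P̄| ≤ 16`. If `S = SA`, `|S| ≤ 1024`. Otherwise take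
`x ∈ N_S(SA) \ SA` with `x² ∈ SA`, `A' = A ^ x ≠ A`, normal in `SA`, `A' ^ x = A`.
`N̄ = A' A / A ≠ 1` is normal and elementary abelian, `Z0 = A ⊓ A'` has order `|A| / |N̄|` and is
centralised by `A` and `A'`. `|N̄| = 2` gives `N̄ ≤ Z(P̄)`, against `big`. `t̄ ∈ N̄` or
`C(t̄) ≤ N̄` give `N̄ ≤ C(t̄)`, `N̄ = C(t̄)`, against `big2`. So `C_N̄(t̄) = ⟨ζ⟩`,
`ζ ∈ {ē, t̄ ē}`, `|N̄| ≤ |C_N̄(t̄)|² = 4`, `N̄ = {1, ζ, β1, β2}`, `t̄` swaps `β1, β2`.
`P̄ = N̄ ⟨t̄⟩`: otherwise `C̄ = C(N̄)` (index 2, `t̄ ∉ C̄`) contains `g ∉ N̄` central modulo `N̄`;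
`⁅g, t̄⁆ ∈ N̄` is inverted by `t̄`, so lies in `⟨ζ⟩`, so `g` or `g β1` lies in
`C(t̄) ∩ C̄ = ⟨ζ⟩`. So `SA = J ∪ J t`, `J = A ⊔ A'`. `C_A(ζ) ≥ Z0` has index `≥ 4`, so equals `Z0`
(gives `z0`). Conjugating by `x` (`t ^ x ∈ t J`): `t` acts non-trivially on `A / Z0` and the
`t`-fixed class `a0` satisfies `C_A'(a0) = Z0`. Take `a1` not fixed, `a2 = t a1 t`, the same for
`b1, b2`. `ty`: if some `a ∉ A'` commutes with some `b ∉ A`, then they are not in the fixed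
classes; rename `b1, b2` so that `a1, b1` commute; conjugate by `t`; `⁅a1, b2⁆ = ⁅a1, b1 b2⁆ ≠ 1`,
`⁅a2, b1⁆ ≠ 1`, and the product of the two is `⁅a1 a2, b1 b2⁆ ≠ 1`. `fusJ`: `t j` is an
involution, `t̄ βi` has order 4, so `j ∈ A` (`fus`) or `j̄ = ζ`, and then `(t j) ^ b1 ∈ t A`. -/
theorem LA.split (L : LA G) : ¬ 2 ^ 11 ∣ Nat.card G ∨ Nonempty (JD L) := by
  have p2 : ∀ X : Subgroup G, (∀ x ∈ X, x * x = 1) → IsPGroup 2 X := fun X h x =>
    ⟨1, Subtype.ext (by simpa [pow_two] using h x x.2)⟩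
  have pz : ∀ u : G, u * u = 1 → IsPGroup 2 (zpowers u) := fun u h => p2 _ (by
    rintro _ ⟨n, rfl⟩
    rw [← (Commute.refl u).mul_zpow, h, one_zpow])
  obtain ⟨S, hS⟩ := ((p2 L.A L.el).to_sup_of_normal_left' ((pz _ L.tt).to_sup_of_normal_right'
    (pz _ L.ee) (zpowers_le_of_mem (mem_normalizer_fintype fun n hn => by
      obtain ⟨k, rfl⟩ := hn
      rw [(L.te.zpow_right k).eq, mul_inv_cancel_right]
      exact ⟨k, rfl⟩)))
    (sup_le (zpowers_le_of_mem JD.t_nA) (zpowers_le_of_mem JD.e_nA))).exists_le_sylow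
  have c : La.Cx L S := ⟨le_sup_left.trans hS, hS (mem_sup_right (mem_sup_left (mem_zpowers _))),
    hS (mem_sup_right (mem_sup_right (mem_zpowers _)))⟩
  by_cases hlt : La.HH L S < S
  swap
  · refine Or.inl fun h => ?_
    have h1 := Nat.le_of_dvd Nat.card_pos (S.pow_dvd_card_of_pow_dvd_card h)
    change 2 ^ 11 ≤ Nat.card (S : Subgroup G) at h1
    have h2 := c.card_H
    rw [show La.HH L S = S from (eq_or_lt_of_le inf_le_left).resolve_right hlt] at h2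
    omega
  right
  obtain ⟨x, xS, xN, xH, xx⟩ := La.exists_sq S.isPGroup' hlt
  set B := L.A.comap (MulAut.conj x).toMonoidHom
  have mB : ∀ b, x * b * x⁻¹ ∈ L.A ↔ b ∈ B := fun b => Iff.rfl
  have xA : ∀ a, a ∈ L.A ↔ x⁻¹ * a * x ∈ B := fun a => by
    rw [← mB, show x * (x⁻¹ * a * x) * x⁻¹ = a by group]
  have xA' : ∀ b, b ∈ B ↔ x⁻¹ * b * x ∈ L.A := fun b => by
    rw [← mB, mem_normalizer_iff.1 xx.2 (x⁻¹ * b * x),
      show x * x * (x⁻¹ * b * x) * (x * x)⁻¹ = x * b * x⁻¹ by group]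
  have mA : ∀ a, x * a * x⁻¹ ∈ B ↔ a ∈ L.A := fun a => by
    rw [xA', show x⁻¹ * (x * a * x⁻¹) * x = a by group]
  have hBH : B ≤ La.HH L S := fun b hb => (mem_normalizer_iff.1 xN b).2 (c.AH ((mB b).2 hb))
  have hel : ∀ b ∈ B, b * b = 1 := fun b hb => by
    have := L.el _ ((mB b).2 hb)
    rwa [conj_mul, conj_eq_one_iff] at this
  have hnA : ∀ h ∈ La.HH L S, ∀ a ∈ L.A, h * a * h⁻¹ ∈ L.A := fun h hh a ha =>
    (mem_normalizer_iff.1 hh.2 a).1 ha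
  have hn : ∀ h ∈ La.HH L S, ∀ b ∈ B, h * b * h⁻¹ ∈ B := fun h hh b hb => by
    have := hnA _ ((mem_normalizer_iff.1 xN h).1 hh) _ ((mB b).2 hb)
    rwa [show x * h * x⁻¹ * (x * b * x⁻¹) * (x * h * x⁻¹)⁻¹ = x * (h * b * h⁻¹) * x⁻¹ by group,
      mB] at this
  have hcard : Nat.card B = Nat.card L.A :=
    Nat.card_congr ((MulAut.conj x).toEquiv.subtypeEquiv fun _ => Iff.rfl)
  have hBA : ¬ B ≤ L.A := fun h => xH (mem_inf.2 ⟨xS, inv_mem_iff.1
    (mem_normalizer_fintype fun a ha => h (by rw [inv_inv]; exact (xA a).1 ha))⟩)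
  obtain ⟨tJ, sB, nS, z0, fusJ, card⟩ := c.side hBH hel hn hcard hBA
  have ti := Jm.inv_of_sq L.tt
  have tB : ∀ b ∈ B, L.t * b * L.t ∈ B := fun b hb => by simpa only [ti] using hn L.t c.t'.2 b hb
  have cm : ∀ a ∈ L.A, ∀ b ∈ B, a * b * a * b ∈ L.A ⊓ B := fun a ha b hb => by
    refine mem_inf.2 ⟨?_, mul_mem ?_ hb⟩
    · have := mul_mem ha (hnA b (hBH hb) a ha)
      rwa [Jm.inv_of_sq (hel b hb), ← mul_assoc, ← mul_assoc] at this
    · have := hn a (c.AH ha) b hb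
      rwa [Jm.inv_of_sq (L.el a ha)] at this
  have sA : La.Side B L.A L.t := by
    have h1 : x * L.t * x⁻¹ ∉ L.A ⊔ B := fun h => tJ (by
      have : L.A ⊔ B ≤ (L.A ⊔ B).comap (MulAut.conj x⁻¹).toMonoidHom :=
        sup_le (fun a ha => mem_comap.2 (mem_sup_right (by simpa using (xA a).1 ha)))
          fun b hb => mem_comap.2 (mem_sup_left (by simpa using (xA' b).1 hb))
      simpa [mul_assoc] using mem_comap.1 (this h))
    have h2 := (nS _ ((mem_normalizer_iff.1 xN _).1 c.t'.2)).resolve_left h1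
    obtain ⟨a', ha', b', hb', h4⟩ : x * L.t * x⁻¹ * L.t ∈ ((L.A : Set G) * (B : Set G)) := by
      rw [← coe_mul_of_right_le_normalizer_left _ _ (hBH.trans inf_le_right)]
      exact h2
    refine (sB.map (MulAut.conj x) mA mB).congr fun a ha y hy => ?_
    have h5 : x * L.t * x⁻¹ = a' * b' * L.t := by
      rw [show a' * b' = _ from h4, mul_assoc _ L.t L.t, L.tt, mul_one]
    have h6 : x * L.t * x⁻¹ = (a' * b' * L.t)⁻¹ := by
      rw [← h5, conj_inv, ti]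
    have h7 := L.tA a ha
    have h8 : MulAut.conj x L.t * a * MulAut.conj x L.t =
        L.t * a * L.t * (L.t * a * L.t * b' * (L.t * a * L.t) * b') := by
      rw [MulAut.conj_apply]
      nth_rw 2 [h6]
      rw [h5, show a' * b' * L.t * a * (a' * b' * L.t)⁻¹ =
        a' * (b' * (L.t * a * L.t⁻¹) * b'⁻¹) * a'⁻¹ by group, ti,
        (Jm.comm_of_el L.el ha' (hnA _ (hBH hb') _ h7)).eq, mul_inv_cancel_right,
        Jm.inv_of_sq (hel _ hb'), ← mul_assoc (L.t * a * L.t), ← mul_assoc (L.t * a * L.t),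
        ← mul_assoc (L.t * a * L.t), L.el _ h7, one_mul]
    rw [h8, ← mul_assoc y, B.mul_mem_cancel_right (mem_inf.1 (cm _ h7 _ hb')).2]
  have back : ∀ g, L.t * (L.t * g * L.t) * L.t = g := fun g => by
    rw [show L.t * (L.t * g * L.t) * L.t = (L.t * L.t) * g * (L.t * L.t) by group, L.tt]
    simp
  obtain ⟨a1, a1A, ha1, b1, b1B, hb1, ty⟩ : ∃ a1 ∈ L.A, a1 * (L.t * a1 * L.t) ∉ B ∧ ∃ b1 ∈ B,
      b1 * (L.t * b1 * L.t) ∉ L.A ∧
      ((∀ a ∈ L.A, a ∉ B → ∀ b ∈ B, b ∉ L.A → ¬ Commute a b) ∨ Commute a1 b1) := by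
    by_cases h : ∀ a ∈ L.A, a ∉ B → ∀ b ∈ B, b ∉ L.A → ¬ Commute a b
    · obtain ⟨a1, h1, h2⟩ := sA.ex
      obtain ⟨b1, h3, h4⟩ := sB.ex
      exact ⟨a1, h1, h2, b1, h3, h4, .inl h⟩
    · push Not at h
      obtain ⟨a, ha, h1, b, hb, h2, h3⟩ := h
      exact ⟨a, ha, fun h4 => h2 (sA.cen a ha h1 h4 b hb h3.symm), b, hb,
        fun h4 => h1 (sB.cen b hb h2 h4 a ha h3), .inr h3⟩
  have a2A := L.tA a1 a1A
  have b2B := tB b1 b1B
  have na1 : a1 ∉ B := fun h => ha1 (mul_mem h (tB _ h))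
  have na2 : L.t * a1 * L.t ∉ B := fun h => na1 (back a1 ▸ tB _ h)
  have nb1 : b1 ∉ L.A := fun h => hb1 (mul_mem h (L.tA _ h))
  have nb2 : L.t * b1 * L.t ∉ L.A := fun h => nb1 (back b1 ▸ L.tA _ h)
  refine ⟨⟨S, B, x, a1, L.t * a1 * L.t, b1, L.t * b1 * L.t, c.hA, c.ht, c.he, xS, xA, xA', tB, a1A,
    a2A, b1B, b2B, ⟨na1, na2, ha1⟩, ⟨nb1, nb2, hb1⟩, card, sA.dec a1 a1A ha1, sB.dec b1 b1B hb1, cm,
    L.el _ a2A ▸ one_mem _, hel _ b2B ▸ one_mem _, tJ, fun g h1 h2 => nS g ⟨h1, h2⟩, z0, fusJ,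
    ty.imp_right fun h => ?_⟩⟩
  have c22 : Commute (L.t * a1 * L.t) (L.t * b1 * L.t) := by
    simpa only [MulAut.conj_apply, ti] using h.map (MulAut.conj L.t)
  have key : ∀ a ∈ L.A, Commute a (b1 * (L.t * b1 * L.t)) → a ∈ B :=
    sB.cen _ (mul_mem b1B b2B) hb1 (by
      have : L.t * (b1 * (L.t * b1 * L.t)) * L.t = L.t * b1 * L.t * b1 := by
        rw [show L.t * (b1 * (L.t * b1 * L.t)) * L.t = L.t * b1 * L.t * b1 * (L.t * L.t) by group,
          L.tt, mul_one]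
      rw [this, ← (Jm.comm_of_el hel b1B b2B).eq, hel _ (mul_mem b1B b2B)]
      exact one_mem _)
  refine ⟨h, c22, fun h1 => na1 (key _ a1A (h.mul_right h1)),
    fun h1 => na2 (key _ a2A (h1.mul_right c22)), fun h1 => ha1 (key _ (mul_mem a1A a2A) ?_)⟩
  generalize L.t * a1 * L.t = a2 at a2A c22 h1
  generalize L.t * b1 * L.t = b2 at b2B c22 h1
  have sw : ∀ a ∈ L.A, ∀ b ∈ B, b * a = a * b * a * b * (a * b) := fun a ha b hb => by
    have h2 := L.el _ (cm a ha b hb).1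
    calc b * a = (a * b * a * b * (a * b * a * b)) * (b * a) := by rw [h2, one_mul]
      _ = a * b * a * b * (a * b) * (a * (b * b) * a) := by group
      _ = _ := by rw [hel b hb, mul_one, L.el a ha, mul_one]
  have s1 := sw a1 a1A b2 b2B
  have s2 := sw a2 a2A b1 b1B
  have zZ := cm a2 a2A b1 b1B
  rw [h1] at s1
  generalize a2 * b1 * a2 * b1 = z at s1 s2 zZ
  have z1 : Commute b1 z := Jm.comm_of_el hel b1B zZ.2
  have z2 : Commute a1 z := Jm.comm_of_el L.el a1A zZ.1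
  symm
  calc b1 * b2 * (a1 * a2) = b1 * (b2 * a1) * a2 := by group
    _ = (b1 * z) * a1 * (b2 * a2) := by rw [s1]; group
    _ = z * (b1 * a1) * (a2 * b2) := by rw [z1.eq, c22.eq]; group
    _ = (z * a1) * (b1 * a2) * b2 := by rw [← h.eq]; group
    _ = a1 * (z * z) * a2 * (b1 * b2) := by rw [s2, ← z2.eq]; group
    _ = _ := by rw [L.el z zZ.1, mul_one]

end CL.HL
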