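import Cfsg.Agent.INV.HL.LA3
import Cfsg.Agent.TECH.LargeTI
import Cfsg.Agent.INV.SylowAux
import Cfsg.Agent.S3224

/-! S3139, Lemma A: tools for the dichotomy. -/

set_option autoImplicit false
open Subgroup
open scoped commutatorElement

namespace CL.HL.La

open Jm

theorem sub_pow_two {R : Type*} [Ring R] (h : (2 : R) = 0) (f : R) (k : ℕ) :
    (f - 1) ^ 2 ^ k = f ^ 2 ^ k - 1 := by
  induction k with
  | zero => simp
  | succ k ih =>
    rw [pow_succ, pow_mul, ih, pow_mul]
    generalize f ^ 2 ^ k = x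
    have : (x - 1) ^ 2 = x ^ 2 - 1 + 2 * (1 - x) := by noncomm_ring
    rw [this, h, zero_mul, add_zero]

variable {G : Type*} [Group G] [Finite G]

theorem pow8' {A : Subgroup G} (hel : ∀ a ∈ A, a * a = 1) (hc : Nat.card A ≤ 64) {g : G}
    (hg : g ∈ normalizer (A : Set G)) {k : ℕ} (hk : g ^ 2 ^ k = 1) :
    ∀ a ∈ A, Commute (g ^ 8) a := by
  letI : CommGroup A := { (inferInstance : Group A) with
    mul_comm := fun a b => Subtype.ext (comm_of_el hel a.2 b.2).eq }
  letI : Module (ZMod 2) (Additive A) := AddCommGroup.zmodModule (n := 2) fun x => by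
    rw [two_nsmul]
    exact Subtype.ext (hel _ x.toMul.2)
  let f0 : A →* A := (A.normalizerMonoidHom ⟨g, hg⟩).toMonoidHom
  let f : Module.End (ZMod 2) (Additive A) := (MonoidHom.toAdditive f0).toZModLinearMap 2
  have hf : ∀ (n : ℕ) (x : Additive A), (((f ^ n) x).toMul : G) = g ^ n * x.toMul * (g ^ n)⁻¹ := by
    intro n
    induction n with
    | zero => simp
    | succ n ih =>
      intro x
      rw [pow_succ, Module.End.mul_apply, ih, show ((f x).toMul : G) = g * x.toMul * g⁻¹ from rfl]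
      group
  have h2 : (2 : Module.End (ZMod 2) (Additive A)) = 0 := by
    ext1 x
    rw [← one_add_one_eq_two (R := Module.End (ZMod 2) (Additive A)), LinearMap.add_apply,
      Module.End.one_apply, LinearMap.zero_apply]
    exact Subtype.ext (hel _ x.toMul.2)
  have hr : Module.finrank (ZMod 2) (Additive A) ≤ 8 := by
    have h1 : Nat.card (Additive A) = _ := Module.natCard_eq_pow_finrank (K := ZMod 2)
    rw [Nat.card_zmod] at h1
    have h3 : 2 ^ Module.finrank (ZMod 2) (Additive A) ≤ 2 ^ 8 := by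
      rw [← h1]
      exact hc.trans (by norm_num)
    exact (Nat.pow_le_pow_iff_right (by norm_num)).1 h3
  have h3 : f ^ 2 ^ (k + 3) = 1 := by
    ext1 x
    refine Additive.toMul.injective (Subtype.ext ?_)
    rw [hf, pow_add, pow_mul, hk]
    simp
  have h4 : LinearMap.ker ((f - 1) ^ 2 ^ 3) = ⊤ := by
    rw [Module.End.ker_pow_eq_ker_pow_finrank_of_le (m := 2 ^ 3) hr,
      ← Module.End.ker_pow_eq_ker_pow_finrank_of_le (m := 2 ^ (k + 3))
        (hr.trans (Nat.pow_le_pow_right (n := 2) (i := 3) (by norm_num) (by omega))),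
      sub_pow_two h2, h3, sub_self, LinearMap.ker_zero]
  rw [LinearMap.ker_eq_top, sub_pow_two h2, sub_eq_zero] at h4
  intro a ha
  have := hf 8 (Additive.ofMul ⟨a, ha⟩)
  rw [show 8 = 2 ^ 3 from rfl, h4] at this
  exact (mul_inv_eq_iff_eq_mul.1 this.symm)

variable (L : LA G)

theorem not_cen {u : G} (hu : u = L.t ∨ u = L.e ∨ u = L.t * L.e) : ¬ ∀ a ∈ L.A, Commute u a := by
  intro h
  have h1 := L.big u hu
  rw [inf_eq_left.2 fun a ha => mem_cen.2 (h a ha)] at h1
  have : 0 < Nat.card L.A := Nat.card_pos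
  omega

theorem not_mem {u : G} (hu : u = L.t ∨ u = L.e ∨ u = L.t * L.e) : u ∉ L.A :=
  fun h => not_cen L hu fun _ ha => comm_of_el L.el h ha

theorem memT0' {Y : Subgroup G} (hY : IsPGroup 2 Y)
    (hn : Y ≤ normalizer (L.A : Set G)) (hA : L.A ≤ Y) (ht : L.t ∈ Y) (he : L.e ∈ Y) {g : G}
    (hg : g ∈ Y) (h : Commute L.t g) :
    ∃ a ∈ L.A, Commute L.t a ∧ (g = a ∨ g = a * L.t ∨ g = a * L.e ∨ g = a * (L.t * L.e)) := by
  let u : ZMod 2 × ZMod 2 → G := fun i => pw L.t i.1 * pw L.e i.2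
  have hu : ∀ i j, u (i + j) = u i * u j := fun i j => by
    simp only [u, Prod.fst_add, Prod.snd_add, pw_add L.tt, pw_add L.ee]
    refine Commute.mul_mul_mul_comm ?_ _ _
    rcases z2 j.1 with h | h <;> rcases z2 i.2 with h' | h' <;> simp [h, h', L.te]
  have hu0 : ∀ i, u i ∈ L.A → i = 0 := by
    rintro ⟨p, q⟩ h
    rcases z2 p with rfl | rfl <;> rcases z2 q with rfl | rfl
    · rfl
    · exact absurd (by simpa [u] using h) (not_mem L (.inr (.inl rfl)))
    · exact absurd (by simpa [u] using h) (not_mem L (.inl rfl))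
    · exact absurd (by simpa [u] using h) (not_mem L (.inr (.inr rfl)))
  have hc : ∀ i, u i ∈ Y ⊓ centralizer {L.t} := fun i => mul_mem
    (pw_mem (mem_inf.2 ⟨ht, mem_cen.2 (Commute.refl _)⟩) _) (pw_mem (mem_inf.2 ⟨he, mem_cen.2 L.te⟩) _)
  let φ : (ZMod 2 × ZMod 2) × ↥(L.A ⊓ centralizer {L.t}) → ↥(Y ⊓ centralizer {L.t}) :=
    fun p => ⟨p.2 * u p.1, mul_mem (inf_le_inf_right _ hA p.2.2) (hc _)⟩
  have hφ : Function.Injective φ := by
    rintro ⟨i, a⟩ ⟨j, b⟩ e
    have e' : (a : G) * u i = b * u j := congrArg Subtype.val e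
    have h1 : u (i + j) = (a : G)⁻¹ * b := by
      rw [hu, eq_inv_mul_iff_mul_eq, ← mul_assoc, e', mul_assoc, ← hu,
        (by decide : ∀ j : ZMod 2 × ZMod 2, j + j = 0) j]
      simp [u]
    have h2 := hu0 _ (h1 ▸ mul_mem (inv_mem (mem_inf.1 a.2).1) (mem_inf.1 b.2).1)
    obtain rfl : i = j := (by decide : ∀ i j : ZMod 2 × ZMod 2, i + j = 0 → i = j) i j h2
    rw [Subtype.ext (mul_right_cancel e')]
  have h1 := L.max0 (Y ⊓ centralizer {L.t}) (hY.to_le inf_le_left) (fun y hy => mem_cen.1 hy.2)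
    (inf_le_left.trans hn)
  obtain ⟨⟨⟨p, q⟩, a⟩, e⟩ := (hφ.bijective_of_nat_card_le (by simpa using h1)).2
    ⟨g, hg, mem_cen.2 h⟩
  have e' : (a : G) * (pw L.t p * pw L.e q) = g := congrArg Subtype.val e
  refine ⟨a, a.2.1, mem_cen.1 a.2.2, ?_⟩
  rcases z2 p with rfl | rfl <;> rcases z2 q with rfl | rfl <;> simp [← e']

section Quot

variable {Q : Type*} [Group Q] [Finite Q]

theorem card_le_16 (hQ : IsPGroup 2 Q) {t e : Q} (tt : t * t = 1) (te : Commute t e) (t1 : t ≠ 1)
    (e1 : e ≠ 1) (te1 : t * e ≠ 1) (hC : ∀ g, Commute t g → g = 1 ∨ g = t ∨ g = e ∨ g = t * e)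
    (h8 : ∀ g : Q, g ^ 8 = 1) : Nat.card Q ≤ 16 := by
  have h1 : Nat.card (centralizer ({t} : Set Q)) = 4 := by
    have : ((centralizer ({t} : Set Q) : Subgroup Q) : Set Q) = {1, t, e, t * e} := by
      ext g
      simp only [SetLike.mem_coe, mem_cen, Set.mem_insert_iff, Set.mem_singleton_iff]
      refine ⟨hC g, ?_⟩
      rintro (rfl | rfl | rfl | rfl)
      exacts [Commute.one_right _, Commute.refl _, te, (Commute.refl _).mul_right te]
    have h2 : t ≠ e := by rintro rfl; exact te1 tt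
    rw [← SetLike.coe_sort_coe, this, Nat.card_coe_set_eq, Set.ncard_insert_of_notMem,
      Set.ncard_insert_of_notMem, Set.ncard_pair]
    · simpa using t1
    · simp [h2, e1]
    · simp [t1.symm, e1.symm, te1.symm]
  rcases Cfsg.Agent.S3224.result hQ t (orderOf_eq_prime (by rw [pow_two, tt]) t1) h1 with
    ⟨n, ⟨φ⟩⟩ | ⟨n, -, h2, x, -, h3, -⟩ | h2
  · have h2 := Nat.le_of_dvd (by norm_num) (orderOf_dvd_of_pow_eq_one (h8 (φ.symm (.r 1))))
    rw [MulEquiv.orderOf_eq, DihedralGroup.orderOf_r_one] at h2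
    rw [Nat.card_congr φ.toEquiv, DihedralGroup.nat_card]
    omega
  · have h4 := Nat.le_of_dvd (by norm_num) (orderOf_dvd_of_pow_eq_one (h8 x))
    rw [h2, pow_succ, ← h3]
    omega
  · omega

theorem card_le_of_sub {N : Subgroup Q} {s : Finset Q} (h : ∀ n ∈ N, n ∈ s) :
    Nat.card N ≤ s.card := by
  rw [← SetLike.coe_sort_coe, Nat.card_coe_set_eq, ← Set.ncard_coe_finset]
  exact Set.ncard_le_ncard h

theorem t_not_mem {t e : Q} {N : Subgroup Q} (hel : ∀ n ∈ N, n * n = 1)
    (hC : ∀ g, Commute t g → g = 1 ∨ g = t ∨ g = e ∨ g = t * e) (h4 : t ∈ N → 4 ≤ Nat.card N)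
    (h8 : t ∈ N → e ∈ N → 8 ≤ Nat.card N) : t ∉ N := by
  classical
  intro ht
  have h1 : ∀ n ∈ N, n = 1 ∨ n = t ∨ n = e ∨ n = t * e := fun n hn => hC n (comm_of_el hel ht hn)
  by_cases he : e ∈ N
  · have h2 := (card_le_of_sub (s := {1, t, e, t * e}) fun n hn => by simpa using h1 n hn).trans
      Finset.card_le_four
    have := h8 ht he
    omega
  · have h2 := (card_le_of_sub (N := N) (s := {1, t}) fun n hn => by
      rcases h1 n hn with rfl | rfl | rfl | rfl
      · simp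
      · simp
      · exact absurd hn he
      · exact absurd ((N.mul_mem_cancel_left ht).1 hn) he).trans Finset.card_le_two
    have := h4 ht
    omega

theorem qmain (hQ : IsPGroup 2 Q) {t e : Q} {N : Subgroup Q} [hN : N.Normal]
    (hel : ∀ n ∈ N, n * n = 1) (tt : t * t = 1)
    (hC : ∀ g, Commute t g → g = 1 ∨ g = t ∨ g = e ∨ g = t * e) (h0 : N ≠ ⊥) (tN : t ∉ N)
    (h4 : e ∈ N ∨ t * e ∈ N → 4 ≤ Nat.card N) :
    ∃ ζ ∈ N, (ζ = e ∨ ζ = t * e) ∧ (∀ n ∈ N, n * (t * n * t) = 1 → n = 1 ∨ n = ζ) ∧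
      (∃ β ∈ N, β * (t * β * t) ≠ 1) ∧
      (∀ β ∈ N, β * (t * β * t) ≠ 1 → β * (t * β * t) = ζ ∧
        ∀ n ∈ N, n = 1 ∨ n * β = 1 ∨ n * (t * β * t) = 1 ∨ n * (β * (t * β * t)) = 1) ∧
      ∀ g, g ∈ N ∨ g * t ∈ N := by
  classical
  have ti := inv_of_sq tt
  have cj : ∀ n ∈ N, t * n * t ∈ N := fun n hn => by simpa [ti] using hN.conj_mem n hn t
  obtain ⟨ζ, hζ, ζ1, ζc⟩ := CL.LTI.exists_fix (K := N) (V := ⊥) (P := ⊤) (hQ.to_subgroup _)
    (hQ.to_subgroup _) (by rw [normalizer_eq_top]) (by rwa [le_bot_iff])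
  rw [mem_bot] at ζ1
  replace ζc : ∀ g, Commute g ζ := fun g => commutatorElement_eq_one_iff_commute.1 (ζc g trivial)
  have hζ' : ζ = e ∨ ζ = t * e := by
    rcases hC ζ (ζc t) with h | rfl | h
    exacts [absurd h ζ1, absurd hζ tN, h]
  have hC' : ∀ g, Commute t g → g = 1 ∨ g = ζ ∨ g = t ∨ g = t * ζ := by
    intro g hg
    rcases hζ' with rfl | rfl
    · have := hC g hg
      tauto
    · rw [← mul_assoc, tt, one_mul]
      have := hC g hg
      tauto
  have fx : ∀ n ∈ N, Commute t n → n = 1 ∨ n = ζ := by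
    intro n hn h
    rcases hC' n h with h | h | rfl | rfl
    exacts [.inl h, .inr h, absurd hn tN, absurd ((N.mul_mem_cancel_right hζ).1 hn) tN]
  have fx' : ∀ n ∈ N, n * (t * n * t) = 1 → n = 1 ∨ n = ζ := fun n hn h => fx n hn (by
    have := (eq_inv_of_mul_eq_one_right h).trans (inv_of_sq (hel n hn))
    exact (mul_inv_eq_iff_eq_mul.1 (ti.symm ▸ this)))
  have nz : ∀ β ∈ N, β * (t * β * t) ≠ 1 → β * (t * β * t) = ζ := fun β hβ h =>
    (fx _ (mul_mem hβ (cj β hβ)) (by
      calc t * (β * (t * β * t)) = t * (t * β * t * β) := by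
            rw [(comm_of_el hel hβ (cj β hβ)).eq]
        _ = (t * t) * β * t * β := by group
        _ = β * (t * β * (t * t)) := by rw [tt]; group
        _ = _ := by group)).resolve_left h
  have mulf : ∀ n ∈ N, ∀ β ∈ N, n * β * (t * (n * β) * t) = n * (t * n * t) * (β * (t * β * t)) := by
    intro n hn β hβ
    rw [show t * (n * β) * t = t * n * t * (t * β * t) by
      rw [mul_assoc (t * n), ← mul_assoc t (t * β), ← mul_assoc t t, tt]; group]
    exact (comm_of_el hel hβ (cj n hn)).mul_mul_mul_comm _ _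
  obtain ⟨β, hβ, hβ1⟩ : ∃ β ∈ N, β * (t * β * t) ≠ 1 := by
    by_contra hc
    push Not at hc
    have h2 := (card_le_of_sub (N := N) (s := {1, ζ}) fun n hn => by
      simpa using fx' n hn (hc n hn)).trans Finset.card_le_two
    have := h4 (by rcases hζ' with h | h; exacts [.inl (h ▸ hζ), .inr (h ▸ hζ)])
    omega
  have dec : ∀ β ∈ N, β * (t * β * t) ≠ 1 →
      ∀ n ∈ N, n = 1 ∨ n * β = 1 ∨ n * (t * β * t) = 1 ∨ n * (β * (t * β * t)) = 1 := by
    intro β hβ h n hn
    by_cases h1 : n * (t * n * t) = 1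
    · rcases fx' n hn h1 with h2 | h2
      · exact .inl h2
      · exact .inr (.inr (.inr (by rw [nz β hβ h, h2, hel ζ hζ])))
    · rcases fx' _ (mul_mem hn hβ) (by rw [mulf n hn β hβ, nz β hβ h, nz n hn h1, hel ζ hζ])
        with h2 | h2
      · exact .inr (.inl h2)
      · refine .inr (.inr (.inl ?_))
        rw [← nz β hβ h, (comm_of_el hel hβ (cj β hβ)).eq, mul_left_inj] at h2
        rw [h2]
        nth_rw 1 [← h2]
        rw [← h2]
        exact hel n hn
  refine ⟨ζ, hζ, hζ', fx', ⟨β, hβ, hβ1⟩, fun β hβ h => ⟨nz β hβ h, dec β hβ h⟩, ?_⟩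
  have β1 : β ≠ 1 := by
    rintro rfl
    exact hβ1 (by simp [tt])
  have βζ : β ≠ ζ := by
    rintro rfl
    exact hβ1 (by rw [(ζc t).eq, mul_assoc β t t, tt, mul_one, hel β hβ])
  have tβ : ¬ Commute t β := fun h => (fx β hβ h).elim β1 βζ
  have cβ : ∀ g, Commute g β → g ∈ centralizer (N : Set Q) := by
    intro g h n hn
    have h2 : t * β * t = β * ζ := by rw [← nz β hβ hβ1, ← mul_assoc β β, hel β hβ, one_mul]
    rcases dec β hβ hβ1 n hn with rfl | h1 | h1 | h1
    · simp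
    · rw [eq_inv_of_mul_eq_one_left h1]
      exact h.inv_right.eq.symm
    · rw [eq_inv_of_mul_eq_one_left h1, h2]
      exact (h.mul_right (ζc g)).inv_right.eq.symm
    · rw [eq_inv_of_mul_eq_one_left h1, nz β hβ hβ1]
      exact (ζc g).inv_right.eq.symm
  have hle : centralizer (N : Set Q) ≤ N := by
    by_contra hle
    have key : ∀ g ∈ centralizer (N : Set Q), Commute t g → g ∈ N := by
      intro g hg h
      have h1 : Commute β g := hg β hβ
      rcases hC' g h with rfl | rfl | rfl | rfl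
      · exact one_mem _
      · exact hζ
      · exact absurd h1.symm tβ
      · have := h1.mul_right (ζc β).inv_right
        rw [mul_inv_cancel_right] at this
        exact absurd this.symm tβ
    obtain ⟨g, hg, gN, hc⟩ := CL.LTI.exists_fix (K := centralizer (N : Set Q)) (V := N) (P := ⊤)
      (hQ.to_subgroup _) (hQ.to_subgroup _) (by rw [normalizer_eq_top]) hle
    have h1 := hc t trivial
    rcases fx' _ h1 (by
      rw [commutatorElement_def, ti]
      calc t * g * t * g⁻¹ * (t * (t * g * t * g⁻¹) * t)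
          = t * g * t * g⁻¹ * (t * t) * g * t * g⁻¹ * t := by group
        _ = t * g * (t * t) * g⁻¹ * t := by nth_rw 1 [tt]; group
        _ = 1 := by rw [tt, mul_one, mul_inv_cancel_right, tt]) with h2 | h2
    · exact gN (key g hg (commutatorElement_eq_one_iff_commute.1 h2))
    · refine gN ((N.mul_mem_cancel_right hβ).1 (key _ (mul_mem hg (cβ β (Commute.refl β))) ?_))
      rw [commutatorElement_def, ti, mul_inv_eq_iff_eq_mul] at h2
      have h3 : t * β * t = β * ζ := by rw [← nz β hβ hβ1, ← mul_assoc β β, hel β hβ, one_mul]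
      have h5 : t * (g * β) * t = g * β := by
        calc t * (g * β) * t = t * g * (t * t) * β * t := by rw [tt]; group
          _ = (t * g * t) * (t * β * t) := by group
          _ = ζ * (g * β) * ζ := by rw [h2, h3]; group
          _ = g * β := by rw [← (ζc (g * β)).eq, mul_assoc, hel ζ hζ, mul_one]
      exact mul_inv_eq_iff_eq_mul.1 (ti.symm ▸ h5)
  intro g
  have gi : ∀ n, g * β * g⁻¹ * n = 1 → n ∈ N → g * β * g⁻¹ = n := fun n h hn =>
    (eq_inv_of_mul_eq_one_left h).trans (inv_of_sq (hel n hn))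
  rcases dec β hβ hβ1 _ (hN.conj_mem β hβ g) with h | h | h | h
  · exact absurd (conj_eq_one_iff.1 h) β1
  · exact .inl (hle (cβ g (mul_inv_eq_iff_eq_mul.1 (gi _ h hβ))))
  · have h1 : t * g ∈ N := hle (cβ _ (by
      have := gi _ h (cj β hβ)
      rw [Commute, SemiconjBy, mul_assoc, mul_inv_eq_iff_eq_mul.1 this, ← mul_assoc, ← mul_assoc,
        ← mul_assoc, tt, one_mul, mul_assoc]))
    exact .inr (by simpa [mul_assoc] using hN.conj_mem _ h1 g)
  · have := gi _ h (mul_mem hβ (cj β hβ))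
    rw [nz β hβ hβ1, mul_inv_eq_iff_eq_mul, ← (ζc g).eq, mul_right_inj] at this
    exact absurd this βζ

end Quot

end CL.HL.La
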