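import Cfsg.Agent.INV.HL.LA1a

/-! S3139, Lemma A: the quotient `N_S(A) / A`. -/

set_option autoImplicit false
open Subgroup
open scoped commutatorElement Pointwise

namespace CL.HL.La

open Jm

variable {G : Type*} [Group G]

/-- The action of `t` on `B / (A ∩ B)`. -/
structure Side (A B : Subgroup G) (t : G) : Prop where
  ex : ∃ b ∈ B, b * (t * b * t) ∉ A
  dec : ∀ b1 ∈ B, b1 * (t * b1 * t) ∉ A → ∀ b ∈ B,
    b ∈ A ∨ b * b1 ∈ A ∨ b * (t * b1 * t) ∈ A ∨ b * (b1 * (t * b1 * t)) ∈ A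
  cen : ∀ b ∈ B, b ∉ A → b * (t * b * t) ∈ A → ∀ a ∈ A, Commute a b → a ∈ B

theorem Side.map {A B A' B' : Subgroup G} {t : G} (h : Side A B t) (φ : G ≃* G)
    (hA : ∀ c, φ c ∈ A' ↔ c ∈ A) (hB : ∀ c, φ c ∈ B' ↔ c ∈ B) : Side A' B' (φ t) := by
  refine ⟨?_, fun b1 h1 h2 b hb => ?_, fun b hb h1 h2 a ha hc => ?_⟩
  · obtain ⟨b, hb, h1⟩ := h.ex
    exact ⟨φ b, (hB b).2 hb, by simpa only [← map_mul, hA] using h1⟩
  · obtain ⟨b1, rfl⟩ := φ.surjective b1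
    obtain ⟨b, rfl⟩ := φ.surjective b
    simp only [← map_mul, hA, hB] at h1 h2 hb ⊢
    exact h.dec b1 h1 h2 b hb
  · obtain ⟨a, rfl⟩ := φ.surjective a
    obtain ⟨b, rfl⟩ := φ.surjective b
    simp only [← map_mul, hA, hB] at h1 h2 hb ha ⊢
    exact h.cen b hb h1 h2 a ha (φ.injective (by simpa using hc.eq))

theorem Side.congr {A B : Subgroup G} {t t' : G} (h : Side A B t')
    (H : ∀ b ∈ B, ∀ y ∈ B, (y * (t' * b * t') ∈ A ↔ y * (t * b * t) ∈ A)) : Side A B t := by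
  refine ⟨?_, fun b1 h1 h2 b hb => ?_, fun b hb h1 h2 => h.cen b hb h1 ((H b hb b hb).2 h2)⟩
  · obtain ⟨b, hb, h1⟩ := h.ex
    exact ⟨b, hb, fun h2 => h1 ((H b hb b hb).2 h2)⟩
  · have := h.dec b1 h1 (fun h3 => h2 ((H b1 h1 b1 h1).1 h3)) b hb
    rwa [H b1 h1 b hb, ← mul_assoc b b1, H b1 h1 _ (mul_mem hb h1), mul_assoc b b1] at this

variable [Finite G]

theorem exists_sq {H S : Subgroup G} (hS : IsPGroup 2 S) (h : H < S) :
    ∃ x ∈ S, x ∈ normalizer (H : Set G) ∧ x ∉ H ∧ x * x ∈ H := by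
  classical
  obtain ⟨x, hx, h1, h2⟩ := CL.SylowAux.exists_mem_normalizer_of_lt hS h
  have h3 : ∃ k, x ^ 2 ^ k ∈ H := by
    obtain ⟨k, hk⟩ := hS ⟨x, hx⟩
    exact ⟨k, by rw [show x ^ 2 ^ k = 1 from congrArg Subtype.val hk]; exact one_mem _⟩
  obtain ⟨k, hk⟩ : ∃ k, Nat.find h3 = k + 1 := Nat.exists_eq_succ_of_ne_zero fun h0 => h2 (by
    simpa [h0] using Nat.find_spec h3)
  refine ⟨x ^ 2 ^ k, pow_mem hx _, pow_mem h1 _, Nat.find_min h3 (by omega), ?_⟩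
  have := Nat.find_spec h3
  rwa [hk, pow_succ, pow_mul, pow_two] at this

variable (L : LA G) (S : Sylow 2 G)

/-- `N_S(A)`. -/
abbrev HH : Subgroup G := (S : Subgroup G) ⊓ normalizer (L.A : Set G)

instance : (L.A.subgroupOf (HH L S)).Normal := normal_subgroupOf_of_le_normalizer inf_le_right

/-- The projection to `N_S(A) / A`. -/
def pr : HH L S →* HH L S ⧸ L.A.subgroupOf (HH L S) := QuotientGroup.mk' _

/-- The Sylow subgroup contains `A, t, e`. -/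
structure Cx : Prop where
  hA : L.A ≤ S
  ht : L.t ∈ (S : Subgroup G)
  he : L.e ∈ (S : Subgroup G)

variable {L S}

omit [Finite G] in
theorem pr_ker : (pr L S).ker = L.A.subgroupOf (HH L S) := QuotientGroup.ker_mk' _

omit [Finite G] in
theorem pr_eq_one {h : HH L S} : pr L S h = 1 ↔ (h : G) ∈ L.A := by
  rw [← MonoidHom.mem_ker, pr_ker, mem_subgroupOf]

omit [Finite G] in
theorem pr_surj : Function.Surjective (pr L S) := QuotientGroup.mk'_surjective _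

omit [Finite G] in
theorem p2H : IsPGroup 2 (HH L S) := S.isPGroup'.to_le inf_le_left

namespace Cx

variable (c : Cx L S)
include c

omit [Finite G] in
theorem AH : L.A ≤ HH L S := le_inf c.hA le_normalizer

/-- `t` as an element of `N_S(A)`. -/
def t' : HH L S := ⟨L.t, c.ht, JD.t_nA⟩
/-- `e` as an element of `N_S(A)`. -/
def e' : HH L S := ⟨L.e, c.he, JD.e_nA⟩

theorem hC (q : HH L S ⧸ L.A.subgroupOf (HH L S)) (h : Commute (pr L S c.t') q) :
    q = 1 ∨ q = pr L S c.t' ∨ q = pr L S c.e' ∨ q = pr L S c.t' * pr L S c.e' := by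
  obtain ⟨g, rfl⟩ := pr_surj q
  have h1 : L.t⁻¹ * ((g : G)⁻¹ * L.t * g) ∈ L.A :=
    (pr_eq_one (h := c.t'⁻¹ * (g⁻¹ * c.t' * g))).1 (by
      simp only [map_mul, map_inv]
      rw [mul_assoc, h.eq]
      group)
  obtain ⟨b, hb, h2⟩ := L.fus _ h1 (isConj_iff.2 ⟨(g : G)⁻¹, by group⟩)
  obtain ⟨a, ha, -, h3⟩ := memT0' L p2H inf_le_right c.AH c.t'.2 c.e'.2
    (mul_mem g.2 (inv_mem (c.AH hb))) (by
      rw [mul_inv_cancel_left] at h2
      calc L.t * (g * b⁻¹) = g * ((g : G)⁻¹ * L.t * g) * b⁻¹ := by group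
        _ = _ := by rw [← h2]; group)
  have h4 : ∀ u : HH L S, (g : G) * b⁻¹ = a * u → pr L S g = pr L S u := fun u hu => by
    have : g = ⟨a, c.AH ha⟩ * u * ⟨b, c.AH hb⟩ := Subtype.ext (mul_inv_eq_iff_eq_mul.1 hu)
    rw [this, map_mul, map_mul, (pr_eq_one (h := ⟨a, _⟩)).2 ha, (pr_eq_one (h := ⟨b, _⟩)).2 hb,
      one_mul, mul_one]
  rcases h3 with h3 | h3 | h3 | h3
  · exact .inl ((h4 1 (by simpa using h3)).trans (map_one _))
  · exact .inr (.inl (h4 c.t' h3))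
  · exact .inr (.inr (.inl (h4 c.e' h3)))
  · exact .inr (.inr (.inr ((h4 (c.t' * c.e') h3).trans (map_mul _ _ _))))

theorem cenA {g : G} (hg : g ∈ HH L S) (h : ∀ a ∈ L.A, Commute g a) : g ∈ L.A := by
  by_contra hn
  obtain ⟨k, hk, kA, h1⟩ := CL.LTI.exists_fix (K := HH L S ⊓ centralizer (L.A : Set G))
    (V := L.A) (P := HH L S) (p2H.to_le inf_le_left) p2H
    (le_trans (le_inf le_normalizer (inf_le_right.trans (normalizer_le_normalizer_centralizer _)))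
      inf_normalizer_le_normalizer_inf) fun h1 => hn (h1 ⟨hg, fun a ha => (h a ha).eq.symm⟩)
  have h2 : ∀ u : HH L S, pr L S ⟨k, hk.1⟩ = pr L S u → ∀ a ∈ L.A, Commute (u : G) a := by
    intro u hu a ha
    have h3 : k⁻¹ * u ∈ L.A := (pr_eq_one (h := (⟨k, hk.1⟩ : HH L S)⁻¹ * u)).1 (by
      rw [map_mul, map_inv, hu, inv_mul_cancel])
    have := (show Commute k a from (hk.2 a ha).symm).mul_left (comm_of_el L.el h3 ha)
    rwa [mul_inv_cancel_left] at this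
  rcases c.hC (pr L S ⟨k, hk.1⟩) (by
    rw [← commutatorElement_eq_one_iff_commute, ← map_commutatorElement]
    exact pr_eq_one.2 (h1 _ c.t'.2)) with h3 | h3 | h3 | h3
  · exact kA (pr_eq_one.1 h3)
  · exact not_cen L (.inl rfl) (h2 _ h3)
  · exact not_cen L (.inr (.inl rfl)) (h2 _ h3)
  · exact not_cen L (.inr (.inr rfl)) (h2 (c.t' * c.e') (h3.trans (map_mul _ _ _).symm))

omit [Finite G] in
theorem tt : pr L S c.t' * pr L S c.t' = 1 := by
  rw [← map_mul, show c.t' * c.t' = 1 from Subtype.ext L.tt, map_one]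

theorem card_H : Nat.card (HH L S) ≤ 1024 := by
  have h1 := card_le_16 (p2H.of_surjective _ pr_surj) c.tt
    ((show Commute c.t' c.e' from Subtype.ext L.te).map _)
    (fun h => not_mem L (.inl rfl) (pr_eq_one.1 h))
    (fun h => not_mem L (.inr (.inl rfl)) (pr_eq_one.1 h))
    (fun h => not_mem L (.inr (.inr rfl)) ((pr_eq_one (h := c.t' * c.e')).1 (by rwa [map_mul])))
    c.hC fun q => by
      obtain ⟨g, rfl⟩ := pr_surj q
      obtain ⟨k, hk⟩ := p2H g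
      rw [← map_pow, pr_eq_one]
      exact c.cenA (g ^ 8).2 (pow8' L.el L.card g.2.2 (congrArg Subtype.val hk))
  rw [card_eq_card_quotient_mul_card_subgroup (L.A.subgroupOf (HH L S)),
    Nat.card_congr (subgroupOfEquivOfLe c.AH).toEquiv]
  exact Nat.mul_le_mul h1 L.card

theorem side {B : Subgroup G} (hBH : B ≤ HH L S) (hel : ∀ b ∈ B, b * b = 1)
    (hn : ∀ h ∈ HH L S, ∀ b ∈ B, h * b * h⁻¹ ∈ B) (hcard : Nat.card B = Nat.card L.A)
    (hBA : ¬ B ≤ L.A) : L.t ∉ L.A ⊔ B ∧ Side L.A B L.t ∧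
      (∀ g ∈ HH L S, g ∈ L.A ⊔ B ∨ g * L.t ∈ L.A ⊔ B) ∧
      (∀ a ∈ L.A, Commute L.t a → Commute L.e a → a ∈ B) ∧
      (∀ j ∈ L.A ⊔ B, IsConj L.t (L.t * j) → ∃ k ∈ L.A ⊔ B, k⁻¹ * L.t * k = L.t * j) ∧
      Nat.card L.A = 4 * Nat.card ↥(L.A ⊓ B) := by
  classical
  have hJH : L.A ⊔ B ≤ HH L S := sup_le c.AH hBH
  haveI : (B.subgroupOf (HH L S)).Normal := ⟨fun b hb g => hn g g.2 b hb⟩
  set N := (B.subgroupOf (HH L S)).map (pr L S) with hN
  haveI : N.Normal := Normal.map inferInstance _ pr_surj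
  have mN : ∀ h : HH L S, pr L S h ∈ N ↔ (h : G) ∈ L.A ⊔ B := fun h => by
    rw [← mem_comap, hN, comap_map_eq, pr_ker, ← subgroupOf_sup hBH c.AH, mem_subgroupOf, sup_comm]
  have cN : Nat.card N * Nat.card ↥(L.A ⊓ B) = Nat.card L.A := by
    rw [hN, ← relIndex_ker, pr_ker, relIndex_subgroupOf hBH, ← hcard,
      ← (L.A.subgroupOf B).index_mul_card, ← inf_subgroupOf_right L.A B,
      Nat.card_congr (subgroupOfEquivOfLe (inf_le_right : L.A ⊓ B ≤ B)).toEquiv,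
      inf_subgroupOf_right]
    rfl
  have cZ : ∀ j ∈ L.A ⊔ B, ∀ z ∈ L.A ⊓ B, Commute j z := fun j hj z hz =>
    mem_cen.1 ((sup_le (fun a ha => mem_cen.2 (comm_of_el L.el hz.1 ha))
      fun b hb => mem_cen.2 (comm_of_el hel hz.2 hb) : L.A ⊔ B ≤ centralizer {z}) hj) |>.symm
  have Zpos : 0 < Nat.card ↥(L.A ⊓ B) := Nat.card_pos
  have lZ : ∀ u ∈ L.A ⊔ B, L.A ⊓ B ≤ L.A ⊓ centralizer {u} := fun u hu z hz =>
    mem_inf.2 ⟨hz.1, mem_cen.2 (cZ u hu z hz)⟩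
  have h4 : ∀ u, (u = L.t ∨ u = L.e ∨ u = L.t * L.e) → u ∈ L.A ⊔ B → 4 ≤ Nat.card N := by
    intro u hu hJ
    have h1 := L.big u hu
    have h2 := card_le_of_le (lZ u hJ)
    exact Nat.le_of_mul_le_mul_right (by omega) Zpos
  have helN : ∀ n ∈ N, n * n = 1 := by
    rintro _ ⟨b, hb, rfl⟩
    rw [← map_mul, show b * b = 1 from Subtype.ext (hel b hb), map_one]
  have tN : pr L S c.t' ∉ N := t_not_mem helN c.hC (fun h => h4 _ (.inl rfl) ((mN _).1 h))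
    fun h h' => by
      have h1 := L.big2
      have h2 := card_le_of_le (show L.A ⊓ B ≤ L.A ⊓ centralizer {L.t, L.e} from fun z hz =>
        mem_inf.2 ⟨hz.1, by
          rintro _ (rfl | rfl)
          exacts [cZ _ ((mN _).1 h) z hz, cZ _ ((mN _).1 h') z hz]⟩)
      exact Nat.le_of_mul_le_mul_right (by omega) Zpos
  have h4' : pr L S c.e' ∈ N ∨ pr L S c.t' * pr L S c.e' ∈ N → 4 ≤ Nat.card N := by
    rintro (h | h)
    · exact h4 _ (.inr (.inl rfl)) ((mN _).1 h)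
    · exact h4 _ (.inr (.inr rfl)) ((mN (c.t' * c.e')).1 (by rwa [map_mul]))
  obtain ⟨ζ, hζ, hζ', fx, ⟨β, hβ, hβ1⟩, dec, fin⟩ := qmain (p2H.of_surjective _ pr_surj) helN c.tt
    c.hC (fun h => hBA fun b hb => (pr_eq_one (h := ⟨b, hBH hb⟩)).1
      (by rw [← mem_bot, ← h]; exact ⟨_, hb, rfl⟩)) tN h4'
  obtain ⟨u, hu, rfl⟩ : ∃ u : HH L S, ((u : G) = L.e ∨ (u : G) = L.t * L.e) ∧ pr L S u = ζ := by
    rcases hζ' with rfl | rfl
    · exact ⟨c.e', .inl rfl, rfl⟩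
    · exact ⟨c.t' * c.e', .inr rfl, map_mul _ _ _⟩
  have uJ := (mN u).1 hζ
  have c4 : Nat.card N = 4 := le_antisymm ((card_le_of_sub (s := {1, β⁻¹,
      (pr L S c.t' * β * pr L S c.t')⁻¹, (β * (pr L S c.t' * β * pr L S c.t'))⁻¹}) fun n hn => by
        simpa only [Finset.mem_insert, Finset.mem_singleton, eq_inv_iff_mul_eq_one] using
          (dec β hβ hβ1).2 n hn).trans Finset.card_le_four) (h4 _ (.inr hu) uJ)
  rw [c4] at cN
  have cu : ∀ a ∈ L.A, Commute (u : G) a → a ∈ B := fun a ha h => by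
    have h1 := L.big u (.inr hu)
    have h2 := eq_of_le_of_card_ge (lZ u uJ) (by omega)
    exact (mem_inf.1 (h2 ▸ mem_inf.2 ⟨ha, mem_cen.2 h⟩ : a ∈ L.A ⊓ B)).2
  have tr : ∀ j : HH L S, pr L S j * (pr L S c.t' * pr L S j * pr L S c.t') = 1 ↔
      (j : G) * (L.t * j * L.t) ∈ L.A := fun j => by
    rw [← map_mul, ← map_mul, ← map_mul, pr_eq_one]
    rfl
  obtain ⟨b1, hb1, rfl⟩ := hβ
  refine ⟨fun h => tN ((mN _).2 h), ⟨⟨b1, hb1, fun h => hβ1 ((tr b1).2 h)⟩, ?_, ?_⟩, ?_, ?_, ?_,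
    cN.symm⟩
  · intro b1 h1 h2 b hb
    have := (dec (pr L S ⟨b1, hBH h1⟩) ⟨_, h1, rfl⟩ fun h => h2 ((tr _).1 h)).2
      (pr L S ⟨b, hBH hb⟩) ⟨_, hb, rfl⟩
    simp only [← map_mul, pr_eq_one] at this
    exact this
  · intro b hb h1 h2 a ha hc
    have h3 := (fx (pr L S ⟨b, hBH hb⟩) ⟨_, hb, rfl⟩ ((tr _).2 h2)).resolve_left
      fun h => h1 (pr_eq_one.1 h)
    have h5 : b⁻¹ * u ∈ L.A := (pr_eq_one (h := (⟨b, hBH hb⟩ : HH L S)⁻¹ * u)).1 (by
      rw [map_mul, map_inv, h3, inv_mul_cancel])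
    have := hc.symm.mul_left (comm_of_el L.el h5 ha)
    rw [mul_inv_cancel_left] at this
    exact cu a ha this
  · intro g hg
    have := fin (pr L S ⟨g, hg⟩)
    rwa [← map_mul, mN, mN] at this
  · intro a ha h1 h2
    refine cu a ha ?_
    rcases hu with h | h <;> rw [h]
    exacts [h2, h1.mul_left h2]
  · intro j hj hc
    have h1 : j * (L.t * j * L.t) = 1 := by
      obtain ⟨g, hg⟩ := isConj_iff.1 hc
      have : L.t * j * (L.t * j) = 1 := by rw [← hg, conj_mul, L.tt]; simp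
      calc j * (L.t * j * L.t) = L.t⁻¹ * (L.t * j * (L.t * j)) * L.t := by group
        _ = 1 := by rw [this]; simp
    rcases fx (pr L S ⟨j, hJH hj⟩) ((mN _).2 hj) ((tr _).2 (h1 ▸ one_mem _)) with h2 | h2
    · obtain ⟨b, hb, h3⟩ := L.fus j (pr_eq_one.1 h2) hc
      exact ⟨b, mem_sup_left hb, h3⟩
    · have h3 : L.t * b1 * L.t * j * b1 ∈ L.A :=
        (pr_eq_one (h := c.t' * b1 * c.t' * ⟨j, hJH hj⟩ * b1)).1 (by
          have m1 : pr L S b1 ∈ N := ⟨_, hb1, rfl⟩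
          simp only [map_mul]
          rw [h2, mul_assoc, ← (comm_of_el helN m1 hζ).eq, ← (dec _ m1 hβ1).1, ← mul_assoc (pr L S b1),
            helN _ m1, one_mul]
          have := mul_mem m1 ((dec _ m1 hβ1).1 ▸ hζ)
          rw [← mul_assoc, helN _ m1, one_mul] at this
          exact helN _ this)
      have h5 : (b1 : G)⁻¹ * (L.t * j) * b1 = L.t * (L.t * b1 * L.t * j * b1) := by
        rw [inv_of_sq (hel (b1 : G) hb1), ← mul_assoc L.t, ← mul_assoc L.t, ← mul_assoc L.t,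
          ← mul_assoc L.t, L.tt]
        group
      obtain ⟨b, hb, h6⟩ := L.fus _ h3 (hc.trans (isConj_iff.2 ⟨(b1 : G)⁻¹, by rw [inv_inv, h5]⟩))
      refine ⟨b * (b1 : G)⁻¹, mul_mem (mem_sup_left hb) (inv_mem (mem_sup_right hb1)), ?_⟩
      calc (b * (b1 : G)⁻¹)⁻¹ * L.t * (b * (b1 : G)⁻¹) = b1 * (b⁻¹ * L.t * b) * (b1 : G)⁻¹ := by
            group
        _ = _ := by rw [h6, ← h5]; group

end Cx

end CL.HL.La
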