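import Cfsg.Agent.INV.HL.Defs

/-! S3139, Lemma A: the four-bit model of `J = A A'`. -/

set_option autoImplicit false
set_option maxRecDepth 100000
open Subgroup
open scoped commutatorElement Pointwise

namespace CL.HL.Jm

/-- Classes modulo `Z0`: exponents of `((a1, b2), (a2, b1))`. -/
abbrev V := (ZMod 2 × ZMod 2) × (ZMod 2 × ZMod 2)

def e0 : V := ((1, 0), (0, 0))
def e1 : V := ((0, 1), (0, 0))
def e2 : V := ((0, 0), (1, 0))
def e3 : V := ((0, 0), (0, 1))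

/-- The commutator form of the second type. -/
def bt (v w : V) : ZMod 2 × ZMod 2 :=
  (v.1.1 * w.1.2 + v.1.2 * w.1.1, v.2.1 * w.2.2 + v.2.2 * w.2.1)

/-- The squaring map of the second type. -/
def qq (v : V) : ZMod 2 × ZMod 2 := (v.1.1 * v.1.2, v.2.1 * v.2.2)

def sw (p : Bool) (x : ZMod 2 × ZMod 2) : ZMod 2 × ZMod 2 := if p then (x.2, x.1) else x

/-- The eight patterns. -/
def act (s p q : Bool) (v : V) : V := if s then (sw p v.2, sw q v.1) else (sw p v.1, sw q v.2)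

variable {G : Type*} [Group G]

def pw (a : G) (n : ZMod 2) : G := if n = 0 then 1 else a

@[simp] theorem pw_zero (a : G) : pw a 0 = 1 := if_pos rfl
@[simp] theorem pw_one (a : G) : pw a 1 = a := if_neg (by decide)

theorem z2 (n : ZMod 2) : n = 0 ∨ n = 1 := by revert n; decide

theorem pw_mem {H : Subgroup G} {a : G} (h : a ∈ H) (n : ZMod 2) : pw a n ∈ H := by
  rcases z2 n with rfl | rfl
  · simp
  · simpa

theorem pw_add {a : G} (h : a * a = 1) (m n : ZMod 2) : pw a (m + n) = pw a m * pw a n := by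
  rcases z2 m with rfl | rfl <;> rcases z2 n with rfl | rfl
  · simp
  · simp
  · simp
  · rw [show (1 + 1 : ZMod 2) = 0 from rfl]; simp [h]

theorem inv_of_sq {a : G} (h : a * a = 1) : a⁻¹ = a := inv_eq_of_mul_eq_one_right h

theorem comm_of_el {H : Subgroup G} (h : ∀ a ∈ H, a * a = 1) {a b : G} (ha : a ∈ H) (hb : b ∈ H) :
    Commute a b := by
  have := inv_of_sq (h _ (mul_mem ha hb))
  rw [mul_inv_rev, inv_of_sq (h a ha), inv_of_sq (h b hb)] at this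
  exact this.symm

/-- `c a b = a b a b`. -/
def cc (a b : G) : G := a * b * a * b

end CL.HL.Jm

namespace CL.HL.JD

open Jm

variable {G : Type*} [Group G] {L : LA G} (J : JD L) {a a' b b' z z' j k g h : G}

/-- `J = A A'`. -/
abbrev JJ : Subgroup G := L.A ⊔ J.A'
/-- `Z0 = A ∩ A'`. -/
abbrev Z : Subgroup G := L.A ⊓ J.A'

theorem el' (b : G) (hb : b ∈ J.A') : b * b = 1 := by
  have := L.el _ ((J.xA' b).1 hb)
  rw [show J.x⁻¹ * b * J.x * (J.x⁻¹ * b * J.x) = J.x⁻¹ * (b * b) * J.x⁻¹⁻¹ by group] at this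
  exact conj_eq_one_iff.1 this

theorem elZ (hz : z ∈ J.Z) : z * z = 1 := L.el z hz.1

theorem memA (ha : a ∈ L.A) : a ∈ J.JJ := mem_sup_left ha
theorem memB (hb : b ∈ J.A') : b ∈ J.JJ := mem_sup_right hb
theorem memZ (hz : z ∈ J.Z) : z ∈ J.JJ := mem_sup_left hz.1

theorem BS : J.A' ≤ J.S := fun b hb => by
  have := mul_mem (mul_mem J.xS (J.AS ((J.xA' b).1 hb))) (inv_mem J.xS)
  rwa [show J.x * (J.x⁻¹ * b * J.x) * J.x⁻¹ = b by group] at this

theorem JS : J.JJ ≤ J.S := sup_le J.AS J.BS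

theorem cc_mem (ha : a ∈ L.A) (hb : b ∈ J.A') : cc a b ∈ J.Z := J.cm a ha b hb

theorem swap (ha : a ∈ L.A) (hb : b ∈ J.A') : b * a = a * b * cc a b := by
  have h1 := J.elZ (J.cc_mem ha hb)
  have h2 := L.el a ha
  have h3 := J.el' b hb
  calc b * a = b * a * (cc a b * cc a b) := by rw [h1, mul_one]
    _ = b * (a * a) * b * (a * b * cc a b) := by simp only [cc, mul_assoc]
    _ = _ := by rw [h2, mul_one, h3, one_mul]

theorem B_norm_A : J.A' ≤ normalizer (L.A : Set G) := fun b hb => by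
  have key : ∀ a ∈ L.A, b * a * b⁻¹ ∈ L.A := fun a ha => by
    have h1 : b * a * b⁻¹ = a * cc a b := by
      rw [inv_of_sq (J.el' b hb), cc, ← mul_assoc, ← mul_assoc, ← mul_assoc, L.el a ha, one_mul]
    rw [h1]
    exact mul_mem ha (J.cc_mem ha hb).1
  refine mem_normalizer_iff.2 fun a => ⟨key a, fun h => ?_⟩
  have := key _ h
  rwa [show b * (b * a * b⁻¹) * b⁻¹ = (b * b) * a * (b * b)⁻¹ by group, J.el' b hb, one_mul,
    inv_one, mul_one] at this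

theorem dec (hj : j ∈ J.JJ) : ∃ a ∈ L.A, ∃ b ∈ J.A', j = a * b := by
  have : j ∈ ((L.A : Set G) * (J.A' : Set G)) := by
    rw [← coe_mul_of_right_le_normalizer_left _ _ J.B_norm_A]; exact hj
  obtain ⟨a, ha, b, hb, rfl⟩ := this
  exact ⟨a, ha, b, hb, rfl⟩

theorem cen (hz : z ∈ J.Z) (hj : j ∈ J.JJ) : Commute z j := by
  obtain ⟨a, ha, b, hb, rfl⟩ := J.dec hj
  exact (comm_of_el L.el hz.1 ha).mul_right (comm_of_el J.el' hz.2 hb)

theorem cc_mul_left (ha : a ∈ L.A) (ha' : a' ∈ L.A) (hb : b ∈ J.A') :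
    cc (a * a') b = cc a b * cc a' b := by
  refine mul_left_cancel (a := a * a' * b) ?_
  rw [← J.swap (mul_mem ha ha') hb, ← mul_assoc b, J.swap ha hb, mul_assoc (a * b),
    (J.cen (J.cc_mem ha hb) (J.memA ha')).eq, ← mul_assoc, mul_assoc a b a', J.swap ha' hb,
    (J.cen (J.cc_mem ha hb) (J.memZ (J.cc_mem ha' hb))).eq]
  simp only [mul_assoc]

theorem cc_mul_right (ha : a ∈ L.A) (hb : b ∈ J.A') (hb' : b' ∈ J.A') :
    cc a (b * b') = cc a b * cc a b' := by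
  refine mul_left_cancel (a := a * (b * b')) ?_
  rw [← J.swap ha (mul_mem hb hb'), mul_assoc b, J.swap ha hb', ← mul_assoc, ← mul_assoc,
    J.swap ha hb, mul_assoc (a * b), (J.cen (J.cc_mem ha hb) (J.memB hb')).eq]
  simp only [mul_assoc]

theorem cc_eq_one (ha : a ∈ L.A) (hb : b ∈ J.A') : cc a b = 1 ↔ Commute a b := by
  rw [Commute, SemiconjBy, J.swap ha hb, eq_comm (a := a * b), mul_eq_left]

theorem mul_eq (hb : b ∈ J.A') (hz : z ∈ J.Z) (ha' : a' ∈ L.A) (hb' : b' ∈ J.A') :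
    a * b * z * (a' * b' * z') = a * a' * (b * b') * (cc a' b * (z * z')) := by
  calc a * b * z * (a' * b' * z') = a * b * (z * (a' * b')) * z' := by simp only [mul_assoc]
    _ = a * (b * a') * b' * (z * z') := by
      rw [(J.cen hz (mul_mem (J.memA ha') (J.memB hb'))).eq]; simp only [mul_assoc]
    _ = a * a' * b * (cc a' b * b') * (z * z') := by rw [J.swap ha' hb]; simp only [mul_assoc]
    _ = _ := by rw [(J.cen (J.cc_mem ha' hb) (J.memB hb')).eq]; simp only [mul_assoc]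

theorem comm_eq (ha : a ∈ L.A) (hb : b ∈ J.A') (hz : z ∈ J.Z) (ha' : a' ∈ L.A) (hb' : b' ∈ J.A')
    (hz' : z' ∈ J.Z) : ⁅a * b * z, a' * b' * z'⁆ = cc a b' * cc a' b := by
  have hw : cc a b' * cc a' b ∈ J.Z := mul_mem (J.cc_mem ha hb') (J.cc_mem ha' hb)
  rw [commutatorElement_def, mul_assoc _ _⁻¹, ← mul_inv_rev, mul_inv_eq_iff_eq_mul,
    (J.cen hw (mul_mem (mul_mem (mul_mem (J.memA ha') (J.memB hb')) (J.memZ hz'))
      (mul_mem (mul_mem (J.memA ha) (J.memB hb)) (J.memZ hz)))).eq,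
    J.mul_eq hb hz ha' hb', J.mul_eq hb' hz' ha hb, (comm_of_el L.el ha' ha).eq,
    (comm_of_el J.el' hb' hb).eq, mul_assoc (a * a' * _), (J.cen hz' (J.memZ hz)).eq,
    ← (J.cen hw (mul_mem (J.memZ (J.cc_mem ha hb')) (J.memZ (mul_mem hz hz')))).eq,
    (J.cen (J.cc_mem ha hb') (J.memZ (J.cc_mem ha' hb))).eq, mul_assoc (cc a' b),
    ← mul_assoc (cc a b'), J.elZ (J.cc_mem ha hb'), one_mul]

theorem sq_eq (ha : a ∈ L.A) (hb : b ∈ J.A') (hz : z ∈ J.Z) :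
    a * b * z * (a * b * z) = cc a b := by
  rw [J.mul_eq hb hz ha hb, L.el a ha, J.el' b hb, J.elZ hz]
  simp

/-- The `A`-part of the representative. -/
def al (v : V) : G := pw J.a1 v.1.1 * pw J.a2 v.2.1
/-- The `A'`-part of the representative. -/
def be (v : V) : G := pw J.b2 v.1.2 * pw J.b1 v.2.2

theorem al_mem (v : V) : J.al v ∈ L.A := mul_mem (pw_mem J.a1A _) (pw_mem J.a2A _)
theorem be_mem (v : V) : J.be v ∈ J.A' := mul_mem (pw_mem J.b2A _) (pw_mem J.b1A _)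

theorem al_add (v w : V) : J.al (v + w) = J.al v * J.al w := by
  simp only [al, Prod.fst_add, Prod.snd_add, pw_add (L.el _ J.a1A), pw_add (L.el _ J.a2A)]
  exact (comm_of_el L.el (pw_mem J.a1A _) (pw_mem J.a2A _)).mul_mul_mul_comm _ _

theorem be_add (v w : V) : J.be (v + w) = J.be v * J.be w := by
  simp only [be, Prod.fst_add, Prod.snd_add, pw_add (J.el' _ J.b1A), pw_add (J.el' _ J.b2A)]
  exact (comm_of_el J.el' (pw_mem J.b2A _) (pw_mem J.b1A _)).mul_mul_mul_comm _ _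

theorem al_mem_iff (v : V) : J.al v ∈ J.A' ↔ v.1.1 = 0 ∧ v.2.1 = 0 := by
  obtain ⟨h1, h2, h3⟩ := J.na
  rcases z2 v.1.1 with h | h <;> rcases z2 v.2.1 with h' | h' <;> simp [al, h, h', h1, h2, h3]

theorem be_mem_iff (v : V) : J.be v ∈ L.A ↔ v.1.2 = 0 ∧ v.2.2 = 0 := by
  obtain ⟨h1, h2, h3⟩ := J.nb
  rw [(comm_of_el J.el' J.b1A J.b2A).eq] at h3
  rcases z2 v.1.2 with h | h <;> rcases z2 v.2.2 with h' | h' <;> simp [be, h, h', h1, h2, h3]

theorem exists_cls (hj : j ∈ J.JJ) : ∃ v, ∃ z ∈ J.Z, j = J.al v * J.be v * z := by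
  obtain ⟨a, ha, b, hb, rfl⟩ := J.dec hj
  obtain ⟨p, q, h1⟩ : ∃ p q : ZMod 2, a * (pw J.a1 p * pw J.a2 q) ∈ J.A' := by
    rcases J.decA a ha with h | h | h | h
    · exact ⟨0, 0, by simpa⟩
    · exact ⟨1, 0, by simpa⟩
    · exact ⟨0, 1, by simpa⟩
    · exact ⟨1, 1, by simpa⟩
  obtain ⟨r, s, h2⟩ : ∃ r s : ZMod 2, b * (pw J.b2 r * pw J.b1 s) ∈ L.A := by
    rcases J.decB b hb with h | h | h | h
    · exact ⟨0, 0, by simpa⟩
    · exact ⟨0, 1, by simpa⟩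
    · exact ⟨1, 0, by simpa⟩
    · exact ⟨1, 1, by simpa [(comm_of_el J.el' J.b2A J.b1A).eq] using h⟩
  set v : V := ((p, r), (q, s))
  have h3 : a * J.al v ∈ J.Z := ⟨mul_mem ha (J.al_mem v), h1⟩
  have h4 : b * J.be v ∈ J.Z := ⟨h2, mul_mem hb (J.be_mem v)⟩
  refine ⟨v, a * J.al v * (b * J.be v), mul_mem h3 h4, ?_⟩
  rw [← mul_assoc, mul_assoc (J.al v), ← (J.cen h3 (J.memB (J.be_mem v))).eq,
    (comm_of_el L.el ha (J.al_mem v)).eq, (comm_of_el J.el' hb (J.be_mem v)).eq]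
  calc a * b = (J.al v * J.al v) * a * (J.be v * J.be v) * b := by
        rw [L.el _ (J.al_mem v), J.el' _ (J.be_mem v)]; simp
    _ = _ := by simp only [mul_assoc]

theorem cls_uniq {v w : V} (hz : z ∈ J.Z) (hz' : z' ∈ J.Z)
    (h : J.al v * J.be v * z = J.al w * J.be w * z') : v = w := by
  have h1 : J.al (w + v) = J.be w * z' * z⁻¹ * (J.be v)⁻¹ := by
    rw [al_add, ← inv_of_sq (L.el _ (J.al_mem w)),
      show J.al v = J.al v * J.be v * z * z⁻¹ * (J.be v)⁻¹ by group, h]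
    group
  have h2 : J.al (w + v) ∈ J.A' := h1 ▸
    mul_mem (mul_mem (mul_mem (J.be_mem w) hz'.2) (inv_mem hz.2)) (inv_mem (J.be_mem v))
  have h3 : J.be (w + v) ∈ L.A := by
    have h4 := J.al_mem (w + v)
    rw [h1, mul_assoc (J.be w), ← (J.cen (mul_mem hz' (inv_mem hz)) (J.memB (J.be_mem w))).eq,
      mul_assoc, L.A.mul_mem_cancel_left (mem_inf.1 (mul_mem hz' (inv_mem hz))).1,
      inv_of_sq (J.el' _ (J.be_mem v)), ← be_add] at h4
    exact h4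
  rw [al_mem_iff] at h2
  rw [be_mem_iff] at h3
  revert h2 h3
  generalize v = v, w = w
  revert v w
  decide +kernel

open Classical in
/-- The class of an element of `J` modulo `Z0`. -/
noncomputable def cl (j : G) : V := if h : j ∈ J.JJ then (J.exists_cls h).choose else 0

theorem cl_spec (hj : j ∈ J.JJ) : ∃ z ∈ J.Z, j = J.al (J.cl j) * J.be (J.cl j) * z := by
  rw [cl, dif_pos hj]
  exact (J.exists_cls hj).choose_spec

theorem cl_eq {v : V} (hz : z ∈ J.Z) (h : j = J.al v * J.be v * z) : J.cl j = v := by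
  obtain ⟨z', hz', h'⟩ := J.cl_spec (j := j)
    (h ▸ mul_mem (mul_mem (J.memA (J.al_mem v)) (J.memB (J.be_mem v))) (J.memZ hz))
  exact J.cls_uniq hz' hz (h'.symm.trans h)

theorem cl_mul (hj : j ∈ J.JJ) (hk : k ∈ J.JJ) : J.cl (j * k) = J.cl j + J.cl k := by
  obtain ⟨z, hz, h⟩ := J.cl_spec hj
  obtain ⟨z', hz', h'⟩ := J.cl_spec hk
  refine J.cl_eq (mul_mem (J.cc_mem (J.al_mem (J.cl k)) (J.be_mem (J.cl j))) (mul_mem hz hz')) ?_
  rw [al_add, be_add, ← J.mul_eq (J.be_mem _) hz (J.al_mem _) (J.be_mem _), ← h, ← h']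

theorem cl_Z (hz : z ∈ J.Z) : J.cl z = 0 := J.cl_eq hz (by simp [al, be])

theorem cl_one : J.cl 1 = 0 := J.cl_Z (one_mem _)

theorem cl_inv (hj : j ∈ J.JJ) : J.cl j⁻¹ = J.cl j := by
  have := J.cl_mul (inv_mem hj) hj
  rw [inv_mul_cancel, cl_one] at this
  revert this
  generalize J.cl j⁻¹ = v, J.cl j = w
  revert v w
  decide +kernel

theorem memA_iff (hj : j ∈ J.JJ) : j ∈ L.A ↔ (J.cl j).1.2 = 0 ∧ (J.cl j).2.2 = 0 := by
  obtain ⟨z, hz, h⟩ := J.cl_spec hj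
  rw [← J.be_mem_iff]
  nth_rw 1 [h]
  rw [L.A.mul_mem_cancel_right hz.1, L.A.mul_mem_cancel_left (J.al_mem _)]

theorem memB_iff (hj : j ∈ J.JJ) : j ∈ J.A' ↔ (J.cl j).1.1 = 0 ∧ (J.cl j).2.1 = 0 := by
  obtain ⟨z, hz, h⟩ := J.cl_spec hj
  rw [← J.al_mem_iff]
  nth_rw 1 [h]
  rw [J.A'.mul_mem_cancel_right hz.2, J.A'.mul_mem_cancel_right (J.be_mem _)]

theorem memZ_iff (hj : j ∈ J.JJ) : j ∈ J.Z ↔ J.cl j = 0 := by
  rw [mem_inf, J.memA_iff hj, J.memB_iff hj]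
  generalize J.cl j = v
  revert v
  decide

theorem cl_a1 : J.cl J.a1 = e0 := J.cl_eq (one_mem _) (by simp [al, be, e0])
theorem cl_b2 : J.cl J.b2 = e1 := J.cl_eq (one_mem _) (by simp [al, be, e1])
theorem cl_a2 : J.cl J.a2 = e2 := J.cl_eq (one_mem _) (by simp [al, be, e2])
theorem cl_b1 : J.cl J.b1 = e3 := J.cl_eq (one_mem _) (by simp [al, be, e3])

theorem a1J : J.a1 ∈ J.JJ := J.memA J.a1A
theorem a2J : J.a2 ∈ J.JJ := J.memA J.a2A
theorem b1J : J.b1 ∈ J.JJ := J.memB J.b1A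
theorem b2J : J.b2 ∈ J.JJ := J.memB J.b2A

theorem cl_surj (v : V) : ∃ j ∈ J.JJ, J.cl j = v :=
  ⟨J.al v * J.be v * 1, by simpa using mul_mem (J.memA (J.al_mem v)) (J.memB (J.be_mem v)),
    J.cl_eq (one_mem _) rfl⟩

theorem comm_cl (hj : j ∈ J.JJ) (hk : k ∈ J.JJ) :
    ⁅j, k⁆ = cc (J.al (J.cl j)) (J.be (J.cl k)) * cc (J.al (J.cl k)) (J.be (J.cl j)) := by
  obtain ⟨z, hz, h⟩ := J.cl_spec hj
  obtain ⟨z', hz', h'⟩ := J.cl_spec hk
  rw [← J.comm_eq (J.al_mem _) (J.be_mem _) hz (J.al_mem _) (J.be_mem _) hz', ← h, ← h']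

theorem sq_cl (hj : j ∈ J.JJ) : j * j = cc (J.al (J.cl j)) (J.be (J.cl j)) := by
  obtain ⟨z, hz, h⟩ := J.cl_spec hj
  rw [← J.sq_eq (J.al_mem _) (J.be_mem _) hz, ← h]

theorem comm_mem (hj : j ∈ J.JJ) (hk : k ∈ J.JJ) : ⁅j, k⁆ ∈ J.Z := by
  rw [J.comm_cl hj hk]
  exact mul_mem (J.cc_mem (J.al_mem _) (J.be_mem _)) (J.cc_mem (J.al_mem _) (J.be_mem _))

theorem sq_mem (hj : j ∈ J.JJ) : j * j ∈ J.Z := by
  rw [J.sq_cl hj]
  exact J.cc_mem (J.al_mem _) (J.be_mem _)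

/-- Commutators depend on the classes only. -/
theorem comm_congr {j' k' : G} (hj : j ∈ J.JJ) (hk : k ∈ J.JJ) (hj' : j' ∈ J.JJ) (hk' : k' ∈ J.JJ)
    (h1 : J.cl j = J.cl j') (h2 : J.cl k = J.cl k') : ⁅j, k⁆ = ⁅j', k'⁆ := by
  rw [J.comm_cl hj hk, J.comm_cl hj' hk', h1, h2]

theorem comm_mul_right {k' : G} (hj : j ∈ J.JJ) (hk : k ∈ J.JJ) (hk' : k' ∈ J.JJ) :
    ⁅j, k * k'⁆ = ⁅j, k⁆ * ⁅j, k'⁆ := by
  have := (J.cen (J.comm_mem hj hk') hk).eq
  calc ⁅j, k * k'⁆ = ⁅j, k⁆ * (k * ⁅j, k'⁆) * k⁻¹ := by simp only [commutatorElement_def]; group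
    _ = _ := by rw [← this]; group

theorem cl_conj (hk : k ∈ J.JJ) (hj : j ∈ J.JJ) : J.cl (k * j * k⁻¹) = J.cl j := by
  rw [J.cl_mul (mul_mem hk hj) (inv_mem hk), J.cl_mul hk hj, J.cl_inv hk]
  generalize J.cl k = v, J.cl j = w
  revert v w
  decide +kernel

theorem t_inv : L.t⁻¹ = L.t := inv_of_sq L.tt

theorem norm_of_sq {H : Subgroup G} (hg : g * g = 1) (h : ∀ a ∈ H, g * a * g ∈ H) :
    g ∈ normalizer (H : Set G) := by
  refine mem_normalizer_iff.2 fun a => ?_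
  rw [inv_of_sq hg]
  refine ⟨h a, fun h1 => ?_⟩
  have := h _ h1
  rwa [show g * (g * a * g) * g = (g * g) * a * (g * g) by group, hg, one_mul, mul_one] at this

theorem t_nA : L.t ∈ normalizer (L.A : Set G) := norm_of_sq L.tt L.tA
theorem e_nA : L.e ∈ normalizer (L.A : Set G) := norm_of_sq L.ee L.eA
theorem t_nB : L.t ∈ normalizer (J.A' : Set G) := norm_of_sq L.tt J.tA'

theorem t_nJ : L.t ∈ normalizer (J.JJ : Set G) :=
  norm_of_sq L.tt fun j hj => by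
    obtain ⟨a, ha, b, hb, rfl⟩ := J.dec hj
    have := mul_mem (J.memA (L.tA a ha)) (J.memB (J.tA' b hb))
    rwa [show L.t * a * L.t * (L.t * b * L.t) = L.t * a * (L.t * L.t) * b * L.t by group, L.tt,
      mul_one, mul_assoc L.t a b] at this

theorem J_nA : J.JJ ≤ normalizer (L.A : Set G) := sup_le le_normalizer J.B_norm_A

theorem conj_mem (hg : g ∈ normalizer (J.JJ : Set G)) (hj : j ∈ J.JJ) : g * j * g⁻¹ ∈ J.JJ :=
  (mem_normalizer_iff.1 hg j).1 hj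

theorem nJ_of_nA (hg : g ∈ J.S) (hn : g ∈ normalizer (L.A : Set G)) :
    g ∈ normalizer (J.JJ : Set G) := by
  rcases J.nS g hg hn with h | h
  · exact le_normalizer h
  · exact (mul_mem_cancel_right J.t_nJ).1 (le_normalizer h)

/-- `Z0` is the centre of `J`. -/
theorem memZ_of_cen (hj : j ∈ J.JJ) (h : ∀ k ∈ J.JJ, Commute j k) : j ∈ J.Z := by
  obtain ⟨a, ha, b, hb, rfl⟩ := J.dec hj
  have h1 : ∀ a' ∈ L.A, Commute a' b := fun a' ha' => by
    have := (comm_of_el L.el ha' ha).inv_right.mul_right (h a' (J.memA ha')).symm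
    rwa [inv_mul_cancel_left] at this
  have h2 : ∀ b' ∈ J.A', Commute a b' := fun b' hb' => by
    have := (h b' (J.memB hb')).mul_left (comm_of_el J.el' hb hb').inv_left
    rwa [mul_inv_cancel_right] at this
  have h3 : a ∈ J.A' := by
    by_contra h3
    rcases J.ty with h4 | ⟨h4, h5, h6, h7, -⟩
    · exact h4 a ha h3 _ J.b1A J.nb.1 (h2 _ J.b1A)
    · have key : ∀ a' ∈ L.A, ∀ b' ∈ J.A', a * a' ∈ J.A' → Commute a' b' := fun a' ha' b' hb' h8 => by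
        have := (h2 b' hb').inv_left.mul_left (comm_of_el J.el' h8 hb')
        rwa [inv_mul_cancel_left] at this
      rcases J.decA a ha with h8 | h8 | h8 | h8
      · exact h3 h8
      · exact h6 (key _ J.a1A _ J.b2A h8)
      · exact h7 (key _ J.a2A _ J.b1A h8)
      · have := h4.inv_left.mul_left (key _ (mul_mem J.a1A J.a2A) _ J.b1A h8)
        rw [inv_mul_cancel_left] at this
        exact h7 this
  have h4 : b ∈ L.A := by
    by_contra h3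
    rcases J.ty with h4 | ⟨h4, h5, h6, h7, -⟩
    · exact h4 _ J.a1A J.na.1 b hb h3 (h1 _ J.a1A)
    · have key : ∀ b' ∈ J.A', ∀ a' ∈ L.A, b * b' ∈ L.A → Commute a' b' := fun b' hb' a' ha' h8 => by
        have := (h1 a' ha').inv_right.mul_right (comm_of_el L.el ha' h8)
        rwa [inv_mul_cancel_left] at this
      rcases J.decB b hb with h8 | h8 | h8 | h8
      · exact h3 h8
      · exact h7 (key _ J.b1A _ J.a2A h8)
      · exact h6 (key _ J.b2A _ J.a1A h8)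
      · have := h4.inv_right.mul_right (key _ (mul_mem J.b1A J.b2A) _ J.a1A h8)
        rw [inv_mul_cancel_left] at this
        exact h6 this
  exact ⟨mul_mem ha h4, mul_mem h3 hb⟩

theorem conj_memZ (hg : g ∈ normalizer (J.JJ : Set G)) (hz : z ∈ J.Z) : g * z * g⁻¹ ∈ J.Z := by
  refine J.memZ_of_cen (J.conj_mem hg (J.memZ hz)) fun k hk => ?_
  have := (J.cen hz (J.conj_mem (inv_mem hg) hk)).map (MulAut.conj g)
  simpa [mul_assoc] using this

/-- `g` induces `f` on the classes. -/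
def Pat (g : G) (f : V → V) : Prop := ∀ j ∈ J.JJ, J.cl (g * j * g⁻¹) = f (J.cl j)

variable {J} in
theorem Pat.mul {f f' : V → V} (h1 : J.Pat g f) (h2 : J.Pat h f')
    (hh : h ∈ normalizer (J.JJ : Set G)) : J.Pat (g * h) (f ∘ f') := fun j hj => by
  rw [show g * h * j * (g * h)⁻¹ = g * (h * j * h⁻¹) * g⁻¹ by group, h1 _ (J.conj_mem hh hj),
    h2 j hj]
  rfl

theorem pat_id (hk : k ∈ J.JJ) : J.Pat k id := fun _ hj => J.cl_conj hk hj

variable {J} in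
theorem Pat.uniq {f f' : V → V} (h1 : J.Pat g f) (h2 : J.Pat g f') (v : V) : f v = f' v := by
  obtain ⟨j, hj, rfl⟩ := J.cl_surj v
  rw [← h1 j hj, h2 j hj]

variable {J} in
theorem Pat.congr {f f' : V → V} (h1 : J.Pat g f) (h : ∀ v, f v = f' v) : J.Pat g f' :=
  fun j hj => (h1 j hj).trans (h _)

theorem cl_conj_pw (hg : g ∈ normalizer (J.JJ : Set G)) (hj : j ∈ J.JJ) (n : ZMod 2) :
    J.cl (g * pw j n * g⁻¹) = n • J.cl (g * j * g⁻¹) := by
  rcases z2 n with rfl | rfl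
  · simp [cl_one]
  · simp

/-- The induced map is determined by four classes. -/
theorem pat_gen (hg : g ∈ normalizer (J.JJ : Set G)) :
    J.Pat g fun v => v.1.1 • J.cl (g * J.a1 * g⁻¹) + v.2.1 • J.cl (g * J.a2 * g⁻¹) +
      (v.1.2 • J.cl (g * J.b2 * g⁻¹) + v.2.2 • J.cl (g * J.b1 * g⁻¹)) := by
  intro j hj
  obtain ⟨z, hz, h⟩ := J.cl_spec hj
  generalize J.cl j = v at h
  have m1 := J.conj_mem hg (pw_mem J.a1J v.1.1)
  have m2 := J.conj_mem hg (pw_mem J.a2J v.2.1)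
  have m3 := J.conj_mem hg (pw_mem J.b2J v.1.2)
  have m4 := J.conj_mem hg (pw_mem J.b1J v.2.2)
  have m5 := J.conj_memZ hg hz
  rw [h, ← conj_mul, ← conj_mul, al, be, ← conj_mul, ← conj_mul,
    J.cl_mul (mul_mem (mul_mem m1 m2) (mul_mem m3 m4)) (J.memZ m5), J.cl_Z m5,
    J.cl_mul (mul_mem m1 m2) (mul_mem m3 m4), J.cl_mul m1 m2, J.cl_mul m3 m4, add_zero,
    J.cl_conj_pw hg J.a1J, J.cl_conj_pw hg J.a2J, J.cl_conj_pw hg J.b2J, J.cl_conj_pw hg J.b1J]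

theorem pat_t : J.Pat L.t (act true false false) := by
  have key : ∀ v w : V, v + w = 0 → v = w := by decide +kernel
  have h1 : L.t * J.a1 * L.t⁻¹ * J.a2 ∈ J.Z := by
    rw [t_inv]; exact ⟨mul_mem (L.tA _ J.a1A) J.a2A, J.ta⟩
  have h2 : L.t * J.b1 * L.t⁻¹ * J.b2 ∈ J.Z := by
    rw [t_inv]; exact ⟨J.tb, mul_mem (J.tA' _ J.b1A) J.b2A⟩
  have h3 := J.conj_memZ J.t_nJ h1
  have h4 := J.conj_memZ J.t_nJ h2
  rw [← conj_mul, show ∀ x : G, L.t * (L.t * x * L.t⁻¹) * L.t⁻¹ = (L.t * L.t) * x * (L.t * L.t)⁻¹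
    from fun x => by group, L.tt, one_mul, inv_one, mul_one] at h3 h4
  have k1 := J.cl_Z h1
  have k2 := J.cl_Z h2
  have k3 := J.cl_Z h3
  have k4 := J.cl_Z h4
  rw [J.cl_mul (J.conj_mem J.t_nJ J.a1J) J.a2J, cl_a2] at k1
  rw [J.cl_mul (J.conj_mem J.t_nJ J.b1J) J.b2J, cl_b2] at k2
  rw [J.cl_mul J.a1J (J.conj_mem J.t_nJ J.a2J), cl_a1] at k3
  rw [J.cl_mul J.b1J (J.conj_mem J.t_nJ J.b2J), cl_b1] at k4
  refine (J.pat_gen J.t_nJ).congr ?_
  rw [key _ _ k1, key _ _ k2, ← key _ _ k3, ← key _ _ k4]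
  decide +kernel

theorem nA_of_pat {f : V → V} (hg : g ∈ normalizer (J.JJ : Set G)) (h : J.Pat g f)
    (hf : ∀ v, (v.1.2 = 0 ∧ v.2.2 = 0) ↔ ((f v).1.2 = 0 ∧ (f v).2.2 = 0)) :
    g ∈ normalizer (L.A : Set G) := by
  refine mem_normalizer_iff.2 fun a => ⟨fun ha => ?_, fun ha => ?_⟩
  · rw [J.memA_iff (J.conj_mem hg (J.memA ha)), h a (J.memA ha), ← hf, ← J.memA_iff (J.memA ha)]
    exact ha
  · have hj : a ∈ J.JJ := (mem_normalizer_iff.1 hg a).2 (J.memA ha)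
    rwa [J.memA_iff (J.memA ha), h a hj, ← hf, ← J.memA_iff hj] at ha

theorem pat_of_nA {f : V → V} (hn : g ∈ normalizer (L.A : Set G)) (h : J.Pat g f) :
    (f e0).1.2 = 0 ∧ (f e0).2.2 = 0 := by
  have h1 := (mem_normalizer_iff.1 hn _).1 J.a1A
  rwa [J.memA_iff (J.memA h1), h _ J.a1J, cl_a1] at h1

theorem mem_of_pat (hS : g ∈ J.S) (hg : g ∈ normalizer (J.JJ : Set G)) {f : V → V}
    (h : J.Pat g f) (hf : ∀ v, f v = v) : g ∈ J.JJ := by
  rcases J.nS g hS (J.nA_of_pat hg h fun v => by rw [hf]) with h1 | h1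
  · exact h1
  · have := (h.mul J.pat_t J.t_nJ).uniq (J.pat_id h1) e0
    rw [Function.comp, hf] at this
    exact absurd this (by decide)

theorem cl_comm {f : V → V} (hg : g ∈ normalizer (J.JJ : Set G)) (h : J.Pat g f) (hj : j ∈ J.JJ) :
    ⁅j, g⁆ ∈ J.JJ ∧ J.cl ⁅j, g⁆ = J.cl j + f (J.cl j) := by
  have h1 : ⁅j, g⁆ = j * (g * j⁻¹ * g⁻¹) := by rw [commutatorElement_def]; group
  rw [h1]
  exact ⟨mul_mem hj (J.conj_mem hg (inv_mem hj)), by
    rw [J.cl_mul hj (J.conj_mem hg (inv_mem hj)), h _ (inv_mem hj), J.cl_inv hj]⟩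

/-- The first type. -/
def T1 : Prop := ∀ a ∈ L.A, a ∉ J.A' → ∀ b ∈ J.A', b ∉ L.A → ¬ Commute a b

/-- The second type. -/
def T2 : Prop := Commute J.a1 J.b1 ∧ Commute J.a2 J.b2 ∧ ¬ Commute J.a1 J.b2 ∧
  ¬ Commute J.a2 J.b1 ∧ J.a1 * J.b2 * J.a1 * J.b2 ≠ J.a2 * J.b1 * J.a2 * J.b1

theorem ty' : J.T1 ∨ J.T2 := J.ty

variable {J}

theorem T1.invol (H : J.T1) (hj : j ∈ J.JJ) (h : j * j = 1) : j ∈ L.A ∨ j ∈ J.A' := by
  obtain ⟨a, ha, b, hb, rfl⟩ := J.dec hj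
  by_cases h1 : a ∈ J.A'
  · exact Or.inr (mul_mem h1 hb)
  by_cases h2 : b ∈ L.A
  · exact Or.inl (mul_mem ha h2)
  exact absurd ((J.cc_eq_one ha hb).1 (by rw [cc, mul_assoc (a * b), h])) (H a ha h1 b hb h2)

theorem T1.cenA (H : J.T1) (ha : a ∈ L.A) (hn : a ∉ J.A') (hj : j ∈ J.JJ) (h : Commute a j) :
    j ∈ L.A := by
  obtain ⟨a', ha', b, hb, rfl⟩ := J.dec hj
  refine mul_mem ha' (by_contra fun h2 => H a ha hn b hb h2 ?_)
  have := (comm_of_el L.el ha ha').inv_right.mul_right h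
  rwa [inv_mul_cancel_left] at this

theorem T1.cenB (H : J.T1) (hb : b ∈ J.A') (hn : b ∉ L.A) (hj : j ∈ J.JJ) (h : Commute b j) :
    j ∈ J.A' := by
  obtain ⟨a, ha, b', hb', rfl⟩ := J.dec hj
  refine mul_mem (by_contra fun h2 => H a ha h2 b hb hn ?_) hb'
  have := h.mul_right (comm_of_el J.el' hb hb').inv_right
  rw [mul_inv_cancel_right] at this
  exact this.symm

/-- In the first type an element of `N(J)` maps `A` into `A` or into `A'`. -/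
theorem T1.mapA (H : J.T1) (hg : g ∈ normalizer (J.JJ : Set G)) {X : Subgroup G} (hX : X ≤ J.JJ)
    (hel : ∀ x ∈ X, x * x = 1) {x : G} (hx : x ∈ X) (hxZ : x ∉ J.Z) :
    (∀ y ∈ X, g * y * g⁻¹ ∈ L.A) ∨ ∀ y ∈ X, g * y * g⁻¹ ∈ J.A' := by
  have h1 := J.conj_mem hg (hX hx)
  have h2 : g * x * g⁻¹ ∉ J.Z := fun h => hxZ (by
    simpa [mul_assoc] using J.conj_memZ (inv_mem hg) h)
  have h3 : ∀ y ∈ X, Commute (g * x * g⁻¹) (g * y * g⁻¹) := fun y hy =>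
    (comm_of_el hel hx hy).map (MulAut.conj g)
  rcases H.invol h1 (by rw [conj_mul, hel x hx]; simp) with h | h
  · exact Or.inl fun y hy => H.cenA h (fun h' => h2 ⟨h, h'⟩) (J.conj_mem hg (hX hy)) (h3 y hy)
  · exact Or.inr fun y hy => H.cenB h (fun h' => h2 ⟨h', h⟩) (J.conj_mem hg (hX hy)) (h3 y hy)

variable (J) in
/-- `z1 ^ p z2 ^ q`. -/
def zz (x : ZMod 2 × ZMod 2) : G := pw (cc J.a1 J.b2) x.1 * pw (cc J.a2 J.b1) x.2

variable (J) in
theorem zz_mem (x : ZMod 2 × ZMod 2) : J.zz x ∈ J.Z :=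
  mul_mem (pw_mem (J.cc_mem J.a1A J.b2A) _) (pw_mem (J.cc_mem J.a2A J.b1A) _)

variable (J) in
theorem zz_add (x y : ZMod 2 × ZMod 2) : J.zz (x + y) = J.zz x * J.zz y := by
  have h1 := J.cc_mem J.a1A J.b2A
  have h2 := J.cc_mem J.a2A J.b1A
  simp only [zz, Prod.fst_add, Prod.snd_add, pw_add (J.elZ h1), pw_add (J.elZ h2)]
  exact (J.cen (pw_mem h1 _) (J.memZ (pw_mem h2 _))).mul_mul_mul_comm _ _

variable (J) in
theorem zz_zero : J.zz 0 = 1 := by simp [zz]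

theorem T2.zz_eq_one (H : J.T2) {x : ZMod 2 × ZMod 2} : J.zz x = 1 ↔ x = 0 := by
  refine ⟨fun h => ?_, fun h => h ▸ J.zz_zero⟩
  obtain ⟨p, q⟩ := x
  obtain ⟨-, -, h1, h2, h3⟩ := H
  rcases z2 p with rfl | rfl <;> rcases z2 q with rfl | rfl
  · rfl
  · exact absurd ((J.cc_eq_one J.a2A J.b1A).1 (by simpa [zz] using h)) h2
  · exact absurd ((J.cc_eq_one J.a1A J.b2A).1 (by simpa [zz] using h)) h1
  · simp only [zz, pw_one] at h
    exact absurd ((eq_inv_of_mul_eq_one_left h).trans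
      (inv_of_sq (J.elZ (J.cc_mem J.a2A J.b1A)))) h3

theorem T2.zz_inj (H : J.T2) {x y : ZMod 2 × ZMod 2} (h : J.zz x = J.zz y) : x = y := by
  have := H.zz_eq_one.1 (show J.zz (x + y) = 1 by rw [zz_add, h, J.elZ (J.zz_mem y)])
  clear h
  revert this
  revert x y
  decide

theorem cc_pw (a b : G) (m n : ZMod 2) (ha : a * a = 1) (hb : b * b = 1) :
    cc (pw a m) (pw b n) = pw (cc a b) (m * n) := by
  rcases z2 m with rfl | rfl <;> rcases z2 n with rfl | rfl <;> simp [cc, ha, hb]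

theorem T2.cc_eq (H : J.T2) (v w : V) :
    cc (J.al v) (J.be w) = J.zz (v.1.1 * w.1.2, v.2.1 * w.2.2) := by
  obtain ⟨h1, h2, -⟩ := H
  rw [al, J.cc_mul_left (pw_mem J.a1A _) (pw_mem J.a2A _) (J.be_mem w), be,
    J.cc_mul_right (pw_mem J.a1A _) (pw_mem J.b2A _) (pw_mem J.b1A _),
    J.cc_mul_right (pw_mem J.a2A _) (pw_mem J.b2A _) (pw_mem J.b1A _),
    cc_pw _ _ _ _ (L.el _ J.a1A) (J.el' _ J.b2A), cc_pw _ _ _ _ (L.el _ J.a1A) (J.el' _ J.b1A),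
    cc_pw _ _ _ _ (L.el _ J.a2A) (J.el' _ J.b2A), cc_pw _ _ _ _ (L.el _ J.a2A) (J.el' _ J.b1A),
    (J.cc_eq_one J.a1A J.b1A).2 h1, (J.cc_eq_one J.a2A J.b2A).2 h2]
  simp [zz, pw]

theorem T2.comm (H : J.T2) (hj : j ∈ J.JJ) (hk : k ∈ J.JJ) :
    ⁅j, k⁆ = J.zz (bt (J.cl j) (J.cl k)) := by
  rw [J.comm_cl hj hk, H.cc_eq, H.cc_eq, ← zz_add]
  simp [bt, mul_comm]

theorem T2.sq (H : J.T2) (hj : j ∈ J.JJ) : j * j = J.zz (qq (J.cl j)) := by
  rw [J.sq_cl hj, H.cc_eq]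
  rfl

theorem T2.commute_iff (H : J.T2) (hj : j ∈ J.JJ) (hk : k ∈ J.JJ) :
    Commute j k ↔ bt (J.cl j) (J.cl k) = 0 := by
  rw [← commutatorElement_eq_one_iff_commute, H.comm hj hk, H.zz_eq_one]

theorem T2.sq_iff (H : J.T2) (hj : j ∈ J.JJ) : j * j = 1 ↔ qq (J.cl j) = 0 := by
  rw [H.sq hj, H.zz_eq_one]

def PatP : Prop := ∀ f0 f1 : V, qq f0 = 0 → qq f1 = 0 → bt f0 f1 ≠ 0 → ∀ f2 : V, qq f2 = 0 →
  bt f0 f2 = 0 → bt f2 f1 = 0 → ∀ f3 : V, qq f3 = 0 → bt f0 f3 = 0 → bt f1 f3 = 0 →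
  bt f2 f3 ≠ 0 → ∃ s p q : Bool, ∀ v : V,
    v.1.1 • f0 + v.2.1 • f2 + (v.1.2 • f1 + v.2.2 • f3) = act s p q v

set_option synthInstance.maxSize 2000 in
instance : Decidable PatP := by unfold PatP; infer_instance

theorem patP : PatP := by decide +kernel

/-- In the second type every element of `N(J)` has one of the eight patterns. -/
theorem T2.pat (H : J.T2) (hg : g ∈ normalizer (J.JJ : Set G)) :
    ∃ s p q : Bool, J.Pat g (act s p q) := by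
  have hq : ∀ j ∈ J.JJ, j * j = 1 → qq (J.cl (g * j * g⁻¹)) = 0 := fun j hj h =>
    (H.sq_iff (J.conj_mem hg hj)).1 (by rw [conj_mul, h]; simp)
  have hc : ∀ j ∈ J.JJ, ∀ k ∈ J.JJ, (bt (J.cl (g * j * g⁻¹)) (J.cl (g * k * g⁻¹)) = 0 ↔
      Commute j k) := fun j hj k hk => by
    rw [← H.commute_iff (J.conj_mem hg hj) (J.conj_mem hg hk)]
    exact ⟨fun h => by simpa [mul_assoc] using h.map (MulAut.conj g⁻¹),
      fun h => h.map (MulAut.conj g)⟩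
  obtain ⟨s, p, q, h⟩ := patP _ _ (hq _ J.a1J (L.el _ J.a1A)) (hq _ J.b2J (J.el' _ J.b2A))
    (fun h => H.2.2.1 ((hc _ J.a1J _ J.b2J).1 h)) _ (hq _ J.a2J (L.el _ J.a2A))
    ((hc _ J.a1J _ J.a2J).2 (comm_of_el L.el J.a1A J.a2A)) ((hc _ J.a2J _ J.b2J).2 H.2.1) _
    (hq _ J.b1J (J.el' _ J.b1A)) ((hc _ J.a1J _ J.b1J).2 H.1)
    ((hc _ J.b2J _ J.b1J).2 (comm_of_el J.el' J.b2A J.b1A))
    (fun h => H.2.2.2.1 ((hc _ J.a2J _ J.b1J).1 h))
  exact ⟨s, p, q, (J.pat_gen hg).congr h⟩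

theorem T2.conj_zz (H : J.T2) {f : V → V} (hg : g ∈ normalizer (J.JJ : Set G)) (h : J.Pat g f)
    (v : V) : g * J.zz (qq v) * g⁻¹ = J.zz (qq (f v)) := by
  obtain ⟨j, hj, rfl⟩ := J.cl_surj v
  rw [← H.sq hj, ← h j hj, ← H.sq (J.conj_mem hg hj), conj_mul]

end CL.HL.JD
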