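import Cfsg.Agent.INV.HL.LA1
import Cfsg.Agent.INV.HL.LA2a
import Cfsg.Agent.INV.SylowAux

/-! STUB (S3139, captain h73). Keep the statements verbatim; helper files `INV/HL/LA2a.lean`, ... are
welcome. Notation: `x ^ g = g⁻¹ * x * g`, `~` is conjugacy in `G`. Definitions: `HL/Defs`. -/

set_option autoImplicit false
set_option maxRecDepth 100000
set_option synthInstance.maxSize 2000
open Subgroup

namespace CL.HL.JD

open Jm
open scoped commutatorElement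

variable {G : Type*} [Group G] {L : LA G} {J : JD L} {a b q u w y g j k : G}

def QP : Prop := ∀ q : V, qq q = 0 → ∀ a : V, bt q a = 0 → ∀ b : V, bt q b = 0 → ∀ u : V,
  bt a b = bt q u → bt q u = 0

set_option synthInstance.maxSize 2000 in
instance : Decidable QP := by unfold QP; infer_instance

theorem qP : QP := by decide +kernel

/-- Lemma Q. -/
theorem lemQ (hq : q ∈ J.JJ) (qq1 : q * q = 1) (ha : a ∈ J.JJ) (hb : b ∈ J.JJ) (hu : u ∈ J.JJ)
    (ca : Commute q a) (cb : Commute q b) (h : ⁅a, b⁆ = ⁅q, u⁆) : ⁅q, u⁆ = 1 := by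
  rcases J.ty' with H | H
  · by_cases hz : q ∈ J.Z
    · exact commutatorElement_eq_one_iff_commute.2 (J.cen hz hu)
    rw [← h, commutatorElement_eq_one_iff_commute]
    rcases H.invol hq qq1 with h1 | h1
    · exact comm_of_el L.el (H.cenA h1 (fun h2 => hz ⟨h1, h2⟩) ha ca)
        (H.cenA h1 (fun h2 => hz ⟨h1, h2⟩) hb cb)
    · exact comm_of_el J.el' (H.cenB h1 (fun h2 => hz ⟨h2, h1⟩) ha ca)
        (H.cenB h1 (fun h2 => hz ⟨h2, h1⟩) hb cb)
  · rw [H.comm ha hb, H.comm hq hu] at h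
    rw [H.comm hq hu, H.zz_eq_one]
    exact qP _ ((H.sq_iff hq).1 qq1) _ ((H.commute_iff hq ha).1 ca) _ ((H.commute_iff hq hb).1 cb)
      _ (H.zz_inj h)

variable (J) in
/-- `N_S(J)`. -/
abbrev SJ : Subgroup G := (J.S : Subgroup G) ⊓ normalizer (J.JJ : Set G)

variable (J) in
/-- `K = J ^ y`. -/
def K (y : G) : Subgroup G := J.JJ.comap (MulAut.conj y).toMonoidHom

theorem mem_K : k ∈ J.K y ↔ y * k * y⁻¹ ∈ J.JJ := Iff.rfl

theorem mem_K' (hj : j ∈ J.JJ) : y⁻¹ * j * y ∈ J.K y := by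
  rw [mem_K]
  simpa [mul_assoc] using hj

theorem J_SJ (hj : j ∈ J.JJ) : j ∈ J.SJ := ⟨J.JS hj, le_normalizer hj⟩

theorem t_SJ : L.t ∈ J.SJ := ⟨J.tS, J.t_nJ⟩

theorem lemQK (hq : q ∈ J.K y) (qq1 : q * q = 1) (ha : a ∈ J.K y) (hb : b ∈ J.K y) (hu : u ∈ J.K y)
    (ca : Commute q a) (cb : Commute q b) (h : ⁅a, b⁆ = ⁅q, u⁆) : ⁅q, u⁆ = 1 := by
  have := lemQ (J := J) hq (by rw [← map_mul, qq1, map_one]) ha hb hu (ca.map _) (cb.map _)
    (by rw [← map_commutatorElement, ← map_commutatorElement, h])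
  rw [← map_commutatorElement] at this
  exact (MulAut.conj y).injective (this.trans (map_one _).symm)

theorem K_SJ (hy : y ∈ normalizer (J.SJ : Set G)) (hk : k ∈ J.K y) : k ∈ J.SJ :=
  (mem_normalizer_iff.1 hy k).2 (J_SJ hk)

theorem K_conj (hy : y ∈ normalizer (J.SJ : Set G)) (hg : g ∈ J.SJ) (hk : k ∈ J.K y) :
    g * k * g⁻¹ ∈ J.K y := by
  have := J.conj_mem ((mem_normalizer_iff.1 hy g).1 hg).2 (mem_K.1 hk)
  rw [mem_K]
  convert this using 1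
  group

theorem K_comm (hy : y ∈ normalizer (J.SJ : Set G)) (hg : g ∈ J.SJ) (hk : k ∈ J.K y) :
    ⁅g, k⁆ ∈ J.K y := mul_mem (K_conj hy hg hk) (inv_mem hk)

theorem K_comm' (hy : y ∈ normalizer (J.SJ : Set G)) (hg : g ∈ J.SJ) (hk : k ∈ J.K y) :
    ⁅k, g⁆ ∈ J.K y := by
  rw [← commutatorElement_inv]
  exact inv_mem (K_comm hy hg hk)

theorem comm_Z (hz : q ∈ J.Z) (u : G) : ⁅q, u⁆ = q * (u * q * u⁻¹) := by
  rw [commutatorElement_def, inv_of_sq (J.elZ hz)]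
  group

theorem T1.noT (H : J.T1) (hy : y ∈ normalizer (J.SJ : Set G)) (hu : u ∈ J.K y)
    (hn : u ∈ normalizer (L.A : Set G)) : u ∈ J.JJ := by
  have uS := K_SJ hy hu
  refine (J.nS u uS.1 hn).elim id fun h => False.elim ?_
  have hp : J.Pat u (act true false false) := by
    have := (J.pat_id h).mul J.pat_t J.t_nJ
    rwa [mul_assoc, L.tt, mul_one] at this
  obtain ⟨a0J, a0c⟩ := J.cl_comm uS.2 hp J.a1J
  obtain ⟨b0J, b0c⟩ := J.cl_comm uS.2 hp J.b1J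
  rw [cl_a1] at a0c
  rw [cl_b1] at b0c
  have a0K := K_comm hy (J_SJ J.a1J) hu
  have b0K := K_comm hy (J_SJ J.b1J) hu
  generalize ⁅J.a1, u⁆ = a0 at a0J a0c a0K
  generalize ⁅J.b1, u⁆ = b0 at b0J b0c b0K
  have qZ := J.comm_mem a0J J.b1J
  have key : ⁅a0, b0⁆ = ⁅⁅a0, J.b1⁆, u⁆ := by
    rw [comm_Z qZ, conjugate_commutatorElement,
      J.comm_congr (J.conj_mem uS.2 a0J) (J.conj_mem uS.2 J.b1J) a0J J.b2J
        (by rw [hp _ a0J, a0c]; decide) (by rw [hp _ J.b1J, cl_b1, cl_b2]; decide),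
      ← J.comm_mul_right a0J J.b1J J.b2J]
    exact J.comm_congr a0J b0J a0J (mul_mem J.b1J J.b2J) rfl
      (by rw [b0c, J.cl_mul J.b1J J.b2J, cl_b1, cl_b2]; decide)
  have := lemQK (K_comm' hy (J_SJ J.b1J) a0K) (J.elZ qZ) a0K b0K hu (J.cen qZ a0J) (J.cen qZ b0J) key
  rw [← key, commutatorElement_eq_one_iff_commute] at this
  refine H a0 ?_ ?_ b0 ?_ ?_ this
  · rw [J.memA_iff a0J, a0c]; decide
  · rw [J.memB_iff a0J, a0c]; decide
  · rw [J.memB_iff b0J, b0c]; decide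
  · rw [J.memA_iff b0J, b0c]; decide

variable [Finite G]

theorem T1.swapA (H : J.T1) (hg : g ∈ normalizer (J.JJ : Set G))
    (hn : g ∉ normalizer (L.A : Set G)) : ∀ a ∈ L.A, g * a * g⁻¹ ∈ J.A' :=
  (H.mapA hg le_sup_left L.el J.a1A fun h => J.na.1 h.2).resolve_left
    fun h => hn (mem_normalizer_fintype h)

theorem T1.swapB (H : J.T1) (hg : g ∈ normalizer (J.JJ : Set G))
    (hn : g ∉ normalizer (L.A : Set G)) : ∀ b ∈ J.A', g * b * g⁻¹ ∈ L.A := by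
  refine (H.mapA hg le_sup_right J.el' J.b1A fun h => J.nb.1 h.1).resolve_right fun h => J.na.1 ?_
  obtain ⟨a, ha, b, hb, h1⟩ := J.dec (J.conj_mem (inv_mem hg) J.a1J)
  have := mul_mem (H.swapA hg hn a ha) (h b hb)
  rwa [conj_mul, ← h1, show g * (g⁻¹ * J.a1 * g⁻¹⁻¹) * g⁻¹ = J.a1 by group] at this

theorem T1.le (H : J.T1) (hy : y ∈ normalizer (J.SJ : Set G)) {h : G}
    (hK : ∀ a ∈ L.A, h⁻¹ * a * h ∈ J.K y) (ha : a ∈ L.A) : h⁻¹ * a * h ∈ J.JJ := by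
  by_contra hu
  have un : h⁻¹ * a * h ∉ normalizer (L.A : Set G) := fun h1 => hu (H.noT hy (hK a ha) h1)
  have uJ := (K_SJ hy (hK a ha)).2
  have k1 : ∀ c ∈ L.A, h⁻¹ * c * h ∈ J.JJ → h⁻¹ * c * h ∈ J.Z := by
    intro c hc h1
    have h2 : h⁻¹ * a * h * (h⁻¹ * c * h) * (h⁻¹ * a * h)⁻¹ = h⁻¹ * c * h := by
      rw [show h⁻¹ * a * h * (h⁻¹ * c * h) = h⁻¹ * (a * c) * h by group,
        (comm_of_el L.el ha hc).eq]
      group
    rcases H.invol h1 (by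
      rw [show h⁻¹ * c * h * (h⁻¹ * c * h) = h⁻¹ * (c * c) * h by group, L.el c hc]; simp)
      with h3 | h3
    · exact ⟨h3, h2 ▸ H.swapA uJ un _ h3⟩
    · exact ⟨h2 ▸ H.swapB uJ un _ h3, h3⟩
  have k2 : ∀ c ∈ L.A, h⁻¹ * c * h ∈ J.Z ∨ h⁻¹ * (c * a) * h ∈ J.Z := by
    intro c hc
    by_cases h1 : h⁻¹ * c * h ∈ normalizer (L.A : Set G)
    · exact Or.inl (k1 c hc (H.noT hy (hK c hc) h1))
    refine Or.inr (k1 _ (mul_mem hc ha) (H.noT hy (hK _ (mul_mem hc ha))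
      (mem_normalizer_fintype fun d hd => ?_)))
    have := H.swapB (K_SJ hy (hK c hc)).2 h1 _ (H.swapA uJ un d hd)
    rwa [show h⁻¹ * c * h * (h⁻¹ * a * h * d * (h⁻¹ * a * h)⁻¹) * (h⁻¹ * c * h)⁻¹ =
      h⁻¹ * (c * a) * h * d * (h⁻¹ * (c * a) * h)⁻¹ by group] at this
  classical
  let φ : L.A → J.Z × Bool := fun c =>
    if h1 : h⁻¹ * c * h ∈ J.Z then (⟨_, h1⟩, false) else (⟨_, (k2 c c.2).resolve_left h1⟩, true)
  have hφ : Function.Injective φ := by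
    intro c d hcd
    simp only [φ] at hcd
    split_ifs at hcd with h1 h2 h2
    · exact Subtype.ext (by simpa using hcd)
    · simp at hcd
    · simp at hcd
    · exact Subtype.ext (by simpa using hcd)
  have h1 := Nat.card_le_card_of_injective φ hφ
  rw [Nat.card_prod, Nat.card_eq_fintype_card (α := Bool), Fintype.card_bool, J.card] at h1
  have h2 : 0 < Nat.card J.Z := Nat.card_pos
  change 4 * Nat.card J.Z ≤ _ at h1
  omega

theorem T1.norm (H : J.T1) (hy : y ∈ normalizer (J.SJ : Set G)) :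
    y ∈ normalizer (J.JJ : Set G) := by
  rw [← inv_mem_iff]
  refine mem_normalizer_fintype fun j hj => ?_
  obtain ⟨a, ha, b, hb, rfl⟩ := J.dec hj
  have h1 := H.le hy (h := y) (fun a ha => mem_K' (J.memA ha)) ha
  have h2 := H.le hy (h := J.x * y) (a := J.x * b * J.x⁻¹) (fun a ha => by
    have := mem_K' (y := y) (J.memB ((J.xA a).1 ha))
    convert this using 1
    group) ((J.xA _).2 (by simpa [mul_assoc] using hb))
  have h3 := mul_mem h1 h2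
  rwa [show y⁻¹ * a * y * ((J.x * y)⁻¹ * (J.x * b * J.x⁻¹) * (J.x * y)) = y⁻¹ * (a * b) * y⁻¹⁻¹ by
    group] at h3

omit [Finite G] in
theorem T2.noS (H : J.T2) (hy : y ∈ normalizer (J.SJ : Set G)) (hu : u ∈ J.K y) :
    ∃ p q : Bool, J.Pat u (act false p q) := by
  have uS := K_SJ hy hu
  obtain ⟨s, p, q, hp⟩ := H.pat uS.2
  cases s
  · exact ⟨p, q, hp⟩
  exfalso
  obtain ⟨a0J, a0c⟩ := J.cl_comm uS.2 hp J.a1J
  obtain ⟨b0J, b0c⟩ := J.cl_comm uS.2 hp J.b2J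
  rw [cl_a1] at a0c
  rw [cl_b2] at b0c
  have a0K := K_comm hy (J_SJ J.a1J) hu
  have b0K := K_comm hy (J_SJ J.b2J) hu
  generalize ⁅J.a1, u⁆ = a0 at a0J a0c a0K
  generalize ⁅J.b2, u⁆ = b0 at b0J b0c b0K
  have qZ := J.comm_mem a0J J.b2J
  have h1 : ⁅a0, J.b2⁆ = J.zz (qq (e0 + e1)) := by
    rw [H.comm a0J J.b2J, a0c, cl_b2]
    congr 1
    cases p <;> cases q <;> decide
  have h2 : ⁅⁅a0, J.b2⁆, u⁆ = J.zz (1, 1) := by
    rw [comm_Z qZ, h1, H.conj_zz uS.2 hp, ← zz_add]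
    congr 1
    cases p <;> cases q <;> decide
  have h3 : ⁅a0, b0⁆ = J.zz (1, 1) := by
    rw [H.comm a0J b0J, a0c, b0c]
    congr 1
    cases p <;> cases q <;> decide
  have := lemQK (K_comm' hy (J_SJ J.b2J) a0K) (J.elZ qZ) a0K b0K hu (J.cen qZ a0J) (J.cen qZ b0J)
    (h3.trans h2.symm)
  rw [h2, H.zz_eq_one] at this
  exact absurd this (by decide)

omit [Finite G] in
theorem T2.exists_two (H : J.T2) (hy : y ∈ normalizer (J.SJ : Set G)) (hu : u ∈ J.K y)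
    (hn : u ∉ J.JJ) : ∃ u1 ∈ J.K y, ∃ q, J.Pat u1 (act false true q) ∧
      ∃ u2 ∈ J.K y, ∃ p, J.Pat u2 (act false p true) := by
  obtain ⟨p, q, hp⟩ := H.noS hy hu
  have uS := K_SJ hy hu
  have h1 : J.Pat (L.t * u * L.t⁻¹) (act false q p) := by
    rw [t_inv]
    refine ((J.pat_t.mul hp uS.2).mul J.pat_t J.t_nJ).congr ?_
    cases p <;> cases q <;> decide +kernel
  have h2 := K_conj hy t_SJ hu
  cases p <;> cases q
  · exact absurd (J.mem_of_pat uS.1 uS.2 hp (by decide)) hn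
  · exact ⟨_, h2, _, h1, _, hu, _, hp⟩
  · exact ⟨_, hu, _, hp, _, h2, _, h1⟩
  · exact ⟨_, hu, _, hp, _, hu, _, hp⟩

omit [Finite G] in
theorem inv_comm (hj : j * j = 1) (hw : w * w = 1) : w * ⁅j, w⁆ * w⁻¹ = ⁅j, w⁆⁻¹ := by
  rw [commutatorElement_inv, commutatorElement_def, commutatorElement_def, inv_of_sq hj,
    inv_of_sq hw, mul_assoc, mul_assoc (j * w * j), hw]
  group

omit [Finite G] in
theorem T2.cenK (H : J.T2) (hy : y ∈ normalizer (J.SJ : Set G)) {u1 u2 : G} {p1 q1 : Bool}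
    (h1 : u1 ∈ J.K y) (hp1 : J.Pat u1 (act false true q1)) (h2 : u2 ∈ J.K y)
    (hp2 : J.Pat u2 (act false p1 true)) (hw : y * w * y⁻¹ ∈ J.Z) : w ∈ J.Z := by
  have wK : w ∈ J.K y := J.memZ hw
  have wS := K_SJ hy wK
  have ww : w * w = 1 := by
    have := J.elZ hw
    rwa [conj_mul, conj_eq_one_iff] at this
  have wc : ∀ k ∈ J.K y, Commute w k := fun k hk => by
    simpa [mul_assoc] using (J.cen hw (mem_K.1 hk)).map (MulAut.conj y⁻¹)
  obtain ⟨p, q, hp⟩ := H.noS hy wK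
  have key : ∀ j ∈ J.JJ, j * j = 1 → qq (J.cl j + act false p q (J.cl j)) = 0 := by
    intro j hj jj
    obtain ⟨cJ, cc'⟩ := J.cl_comm wS.2 hp hj
    rw [← cc', ← H.sq_iff cJ, ← eq_inv_iff_mul_eq_one, ← inv_comm jj ww,
      (wc _ (K_comm hy (J_SJ hj) wK)).eq, mul_inv_cancel_right]
  have k1 := key _ J.a1J (L.el _ J.a1A)
  have k2 := key _ J.a2J (L.el _ J.a2A)
  rw [cl_a1] at k1
  rw [cl_a2] at k2
  have wJ : w ∈ J.JJ := J.mem_of_pat wS.1 wS.2 hp (by revert k1 k2; cases p <;> cases q <;> decide)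
  obtain ⟨r1J, r1c⟩ := J.cl_comm (K_SJ hy h1).2 hp1 J.a1J
  obtain ⟨r2J, r2c⟩ := J.cl_comm (K_SJ hy h2).2 hp2 J.a2J
  have k3 := (H.commute_iff wJ r1J).1 (wc _ (K_comm hy (J_SJ J.a1J) h1))
  have k4 := (H.commute_iff wJ r2J).1 (wc _ (K_comm hy (J_SJ J.a2J) h2))
  have k5 := (H.sq_iff wJ).1 ww
  rw [r1c, cl_a1] at k3
  rw [r2c, cl_a2] at k4
  rw [J.memZ_iff wJ]
  revert k3 k4 k5
  generalize J.cl w = v
  revert v
  cases p1 <;> cases q1 <;> decide +kernel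

omit [Finite G] in
/-- An involution swapping both pairs and centralising `Z0` inverts `R`. -/
theorem T2.inverts (H : J.T2) (hu : u ∈ normalizer (J.JJ : Set G)) (uu : u * u = 1)
    (hp : J.Pat u (act false true true)) (hc : ∀ z ∈ J.Z, Commute u z) (hj : j ∈ J.JJ)
    (h : act false true true (J.cl j) + J.cl j = 0) : u * j * u⁻¹ = j⁻¹ := by
  obtain ⟨r1J, r1c⟩ := J.cl_comm hu hp J.a1J
  obtain ⟨r2J, r2c⟩ := J.cl_comm hu hp J.a2J
  have i1 := inv_comm (L.el _ J.a1A) uu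
  have i2 := inv_comm (L.el _ J.a2A) uu
  rw [cl_a1] at r1c
  rw [cl_a2] at r2c
  generalize ⁅J.a1, u⁆ = r1 at r1J r1c i1
  generalize ⁅J.a2, u⁆ = r2 at r2J r2c i2
  have c12 : Commute r1 r2 := (H.commute_iff r1J r2J).2 (by rw [r1c, r2c]; decide)
  have key : ∀ r ∈ J.JJ, u * r * u⁻¹ = r⁻¹ → J.cl j = J.cl r → u * j * u⁻¹ = j⁻¹ := by
    intro r hr h1 h2
    have hz : r⁻¹ * j ∈ J.Z := by
      rw [J.memZ_iff (mul_mem (inv_mem hr) hj), J.cl_mul (inv_mem hr) hj, J.cl_inv hr, h2]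
      generalize J.cl r = v
      revert v
      decide
    rw [show j = r * (r⁻¹ * j) by group, ← conj_mul, h1, (hc _ hz).eq, mul_inv_cancel_right,
      mul_inv_rev r, inv_of_sq (J.elZ hz), (J.cen hz (inv_mem hr)).eq]
  have : J.cl j = 0 ∨ J.cl j = e0 + e1 ∨ J.cl j = e2 + e3 ∨ J.cl j = e0 + e1 + (e2 + e3) := by
    revert h
    generalize J.cl j = v
    revert v
    decide
  rcases this with h1 | h1 | h1 | h1
  · exact key 1 (one_mem _) (by simp) (by rw [h1, cl_one])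
  · exact key r1 r1J i1 (by rw [h1, r1c]; decide)
  · exact key r2 r2J i2 (by rw [h1, r2c]; decide)
  · exact key _ (mul_mem r1J r2J) (by rw [← conj_mul, i1, i2, c12.eq, mul_inv_rev])
      (by rw [h1, J.cl_mul r1J r2J, r1c, r2c]; decide)

theorem T2.exists_both (H : J.T2) (hy : y ∈ normalizer (J.SJ : Set G)) (hu : u ∈ J.K y)
    (hn : u ∉ J.JJ) : ∃ u ∈ J.SJ, u * u = 1 ∧ J.Pat u (act false true true) ∧
      ∀ z ∈ J.Z, Commute u z := by
  obtain ⟨u1, h1, q1, hp1, u2, h2, p1, hp2⟩ := H.exists_two hy hu hn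
  have yZ : y ∈ normalizer (J.Z : Set G) := by
    rw [← inv_mem_iff]
    exact mem_normalizer_fintype fun z hz => H.cenK hy h1 hp1 h2 hp2 (by simpa [mul_assoc] using hz)
  have hZ : ∀ w, w ∈ J.Z ↔ y * w * y⁻¹ ∈ J.Z := mem_normalizer_iff.1 yZ
  have fix : ∀ w ∈ J.K y, w ∈ J.JJ → ∀ u ∈ J.K y, ∀ f, J.Pat u f → J.cl w + f (J.cl w) = 0 := by
    intro w wK wJ u uK f hf
    obtain ⟨cJ, cc'⟩ := J.cl_comm (K_SJ hy uK).2 hf wJ
    rw [← cc', ← J.memZ_iff cJ, hZ, conjugate_commutatorElement]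
    exact J.comm_mem (mem_K.1 wK) (mem_K.1 uK)
  have sqa : ∀ a ∈ L.A, y⁻¹ * a * y * (y⁻¹ * a * y) = 1 := fun a ha => by
    rw [show y⁻¹ * a * y * (y⁻¹ * a * y) = y⁻¹ * (a * a) * y by group, L.el a ha]
    simp
  have key : ∀ a ∈ L.A, a ∉ J.A' → ∀ f, J.Pat (y⁻¹ * a * y) f → ¬ ∀ v, f v = v := by
    intro a ha hn f hf hf'
    have wK := mem_K' (y := y) (J.memA ha)
    have wJ := J.mem_of_pat (K_SJ hy wK).1 (K_SJ hy wK).2 hf hf'
    have k1 := fix _ wK wJ _ h1 _ hp1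
    have k2 := fix _ wK wJ _ h2 _ hp2
    have k3 := (H.sq_iff wJ).1 (sqa a ha)
    have : y⁻¹ * a * y ∈ J.Z := by
      rw [J.memZ_iff wJ]
      revert k1 k2 k3
      generalize J.cl (y⁻¹ * a * y) = v
      revert v
      cases p1 <;> cases q1 <;> decide +kernel
    rw [hZ] at this
    exact hn (by simpa [mul_assoc] using this.2)
  have fin : ∀ a ∈ L.A, J.Pat (y⁻¹ * a * y) (act false true true) → ∃ u ∈ J.SJ, u * u = 1 ∧
      J.Pat u (act false true true) ∧ ∀ z ∈ J.Z, Commute u z := fun a ha hp =>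
    ⟨_, K_SJ hy (mem_K' (J.memA ha)), sqa a ha, hp, fun z hz => by
      simpa [mul_assoc] using (J.cen ((hZ z).1 hz) (J.memA ha)).symm.map (MulAut.conj y⁻¹)⟩
  obtain ⟨p, q, k1⟩ := H.noS hy (mem_K' (y := y) J.a1J)
  obtain ⟨p', q', k2⟩ := H.noS hy (mem_K' (y := y) J.a2J)
  have k3 := k1.mul k2 (K_SJ hy (mem_K' J.a2J)).2
  rw [show y⁻¹ * J.a1 * y * (y⁻¹ * J.a2 * y) = y⁻¹ * (J.a1 * J.a2) * y by group] at k3
  have n1 := key _ J.a1A J.na.1 _ k1
  have n2 := key _ J.a2A J.na.2.1 _ k2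
  have n3 := key _ (mul_mem J.a1A J.a2A) J.na.2.2 _ k3
  have : (p = true ∧ q = true) ∨ (p' = true ∧ q' = true) ∨
      ∀ v, (act false p q ∘ act false p' q') v = act false true true v := by
    revert n1 n2 n3
    cases p <;> cases q <;> cases p' <;> cases q' <;> decide +kernel
  rcases this with ⟨rfl, rfl⟩ | ⟨rfl, rfl⟩ | h
  · exact fin _ J.a1A k1
  · exact fin _ J.a2A k2
  · exact fin _ (mul_mem J.a1A J.a2A) (k3.congr h)

theorem T2.contra (H : J.T2) (uS : u ∈ J.SJ) (uu : u * u = 1)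
    (hp : J.Pat u (act false true true)) (hc : ∀ z ∈ J.Z, Commute u z) : False := by
  have ui := inv_of_sq uu
  have hj : L.t * u * L.t * u ∈ J.JJ := by
    have h1 := mul_mem (mul_mem (mul_mem t_SJ uS) t_SJ) uS
    exact J.mem_of_pat h1.1 h1.2 (((J.pat_t.mul hp uS.2).mul J.pat_t J.t_nJ).mul hp uS.2)
      (by decide +kernel)
  have h1 : L.t * (L.t * u * L.t * u) = u * L.t * u⁻¹ := by
    rw [ui, ← mul_assoc, ← mul_assoc, ← mul_assoc, L.tt, one_mul]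
  obtain ⟨k, hk, h2⟩ := J.fusJ _ hj (isConj_iff.2 ⟨u, h1.symm⟩)
  rw [h1] at h2
  have eS : L.e ∈ J.SJ := ⟨J.eS, J.nJ_of_nA J.eS e_nA⟩
  have p2 : IsPGroup 2 (J.SJ ⊓ centralizer {L.t} : Subgroup G) :=
    J.S.isPGroup'.to_le (inf_le_left.trans inf_le_left)
  have hcen : ∀ g, g ∈ centralizer {L.t} ↔ Commute L.t g := fun g => by
    rw [mem_centralizer_singleton_iff]
    exact ⟨fun h => h.symm, fun h => h.symm⟩
  have hT0 : (L.A ⊓ centralizer {L.t}) ⊔ closure {L.t, L.e} ≤ normalizer (L.A : Set G) :=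
    sup_le (inf_le_left.trans le_normalizer) ((closure_le _).2 (Set.pair_subset t_nA e_nA))
  have hlt : (L.A ⊓ centralizer {L.t}) ⊔ closure {L.t, L.e} < J.SJ ⊓ centralizer {L.t} := by
    refine lt_of_le_not_ge (sup_le (inf_le_inf_right _ fun a ha => J_SJ (J.memA ha))
      ((closure_le _).2 (Set.pair_subset ⟨t_SJ, (hcen _).2 (Commute.refl _)⟩
        ⟨eS, (hcen _).2 L.te⟩))) fun h => ?_
    have h3 : k * u ∈ normalizer (L.A : Set G) := hT0 (h ⟨mul_mem (J_SJ hk) uS, (hcen _).2 (by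
      have : k * u * L.t * (k * u)⁻¹ = L.t := by
        rw [show k * u * L.t * (k * u)⁻¹ = k * (u * L.t * u⁻¹) * k⁻¹ by group, ← h2]
        group
      exact (mul_inv_eq_iff_eq_mul.1 this).symm)⟩)
    exact absurd (J.pat_of_nA h3 ((J.pat_id hk).mul hp uS.2)) (by decide)
  obtain ⟨g, ⟨gS, gc⟩, gn, g1, gA, ge⟩ := L.up _ p2 (fun y hy => (hcen y).1 hy.2) hlt
  replace gc : Commute L.t g := (hcen g).1 gc
  have gZ : g * g ∈ J.Z := ⟨gA, J.z0 _ gA (gc.mul_right gc) ge⟩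
  have gN : g ∉ normalizer (L.A : Set G) := by
    intro h
    obtain ⟨a, ha, ta, h3⟩ := L.memT0 (Y := (J.S : Subgroup G) ⊓ normalizer (L.A : Set G))
      (J.S.isPGroup'.to_le inf_le_left) inf_le_right (le_inf J.AS le_normalizer) ⟨J.tS, t_nA⟩
      ⟨J.eS, e_nA⟩ ⟨gS.1, h⟩ gc
    have m1 : a ∈ (L.A ⊓ centralizer {L.t}) ⊔ closure {L.t, L.e} :=
      mem_sup_left ⟨ha, (hcen a).2 ta⟩
    have m2 : L.t ∈ (L.A ⊓ centralizer {L.t}) ⊔ closure {L.t, L.e} :=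
      mem_sup_right (subset_closure (by simp))
    have m3 : L.e ∈ (L.A ⊓ centralizer {L.t}) ⊔ closure {L.t, L.e} :=
      mem_sup_right (subset_closure (by simp))
    rcases h3 with rfl | rfl | rfl | rfl
    exacts [gn m1, gn (mul_mem m1 m2), gn (mul_mem m1 m3), gn (mul_mem m1 (mul_mem m2 m3))]
  obtain ⟨s, p, q, hg⟩ := H.pat gS.2
  have k1 := (hg.mul J.pat_t J.t_nJ).uniq (gc.eq ▸ J.pat_t.mul hg gS.2)
  have k2 := fun h => gN (J.nA_of_pat gS.2 hg h)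
  obtain ⟨rfl, rfl⟩ : p = true ∧ q = true := by
    revert k1 k2
    cases s <;> cases p <;> cases q <;> decide +kernel
  have fin : ∀ g' ∈ J.SJ, g' * g' = g * g → ¬ J.Pat g' (act false true true) := by
    intro g' hg' h3 h4
    have h5 := mul_mem uS hg'
    have jJ := J.mem_of_pat h5.1 h5.2 (hp.mul h4 hg'.2) (by decide +kernel)
    have h6 : g * g = u * (u * g') * u⁻¹ * (u * g') := by
      rw [← h3, ← mul_assoc u, uu]
      group
    have h7 := J.cl_Z gZ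
    rw [h6, J.cl_mul (J.conj_mem uS.2 jJ) jJ, hp _ jJ] at h7
    rw [H.inverts uS.2 uu hp hc jJ h7, inv_mul_cancel] at h6
    exact g1 h6
  cases s
  · exact fin g gS rfl hg
  · refine fin (g * L.t) (mul_mem gS t_SJ) ?_ ((hg.mul J.pat_t J.t_nJ).congr (by decide +kernel))
    rw [mul_assoc, ← mul_assoc L.t, gc.eq, mul_assoc, L.tt, mul_one]

end CL.HL.JD

namespace CL.HL
variable {G : Type*} [Group G] [Finite G] {L : LA G}

/-- `J = A A'` is normal in `S`.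
Basics: `Z0 = A ⊓ A' = Z(J)`, `J / Z0 = ⟨a1, a2, b1, b2⟩` is elementary of order 16, commutators
and squares lie in `Z0` and depend bilinearly / quadratically on the classes (a four-bit model
and `decide` are convenient), `(a b)² = ⁅a, b⁆`. `SJ = N_S(J) ∋ t, e, x`. Suppose `SJ < S`,
`y ∈ N_S(SJ) \ SJ`, `K = J ^ y ≠ J`, normal in `SJ`, so `⁅K, J⁆ ≤ K ∩ J`.
Lemma Q (in `J`, so in `K`): if `q ∈ J` is an involution, `a, b ∈ J` commute with `q`, `u ∈ J`,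
then `⁅a, b⁆ = ⁅q, u⁆ ≠ 1` is impossible (`C_J(q)` is abelian, or, in the second type with `q` in
one of the four classes `a1, b2, a2, b1`, its commutators are `1` or the other `zi`).
First type (`ty` left): the involutions of `J` lie in `A ∪ A'`, `C_J(a) = A` for `a ∈ A \ Z0`,
so `SJ` permutes `{A, A'}` and `N_S(A) = J ∪ J t` has index `≤ 2` in `SJ`. No `u ∈ K ∩ J t`:
`a0 = ⁅a1, u⁆ ∈ a1 a2 Z0`, `b0 = ⁅b1, u⁆ ∈ b1 b2 Z0`, `q = ⁅a0, b1⁆` lie in `K`,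
`⁅q, u⁆ = ⁅a0, b1⁆ ⁅a0, b2⁆ = ⁅a0, b0⁆ ≠ 1`: Lemma Q in `K`. One of `A ^ y, A' ^ y`, say `A*`,
is not in `J`; `A* ⊓ J = A* ⊓ N(A)` has index 2 in `A*`, lies in `A` or `A'` and is centralised
by `u ∈ A* \ J`, which swaps `A, A'`; so `|A*| ≤ 2 |Z0|`, absurd.
Second type: `z1 = ⁅a1, b2⁆`, `z2 = ⁅a2, b1⁆`. `SJ` permutes the four classes `a1, b2, a2, b1`
(involutions whose centraliser has index 2) keeping the pairs `{a1, b2}`, `{a2, b1}`, and
permutes `{z1, z2}` accordingly; an element fixing the four classes normalises `A`, so is in `J`.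
No `u ∈ K` swaps `z1, z2`: `a0 = ⁅a1, u⁆`, `b0 = ⁅b2, u⁆`, `⁅a0, b0⁆ = z1 z2`,
`q = ⁅a0, b2⁆ = z1 ∈ K`, `⁅q, u⁆ = z1 z2`: Lemma Q. So some `u1 ∈ K` swaps one pair and
`t u1 t ∈ K` the other; `r1 ∈ a1 b2 Z0`, `r2 ∈ a2 b1 Z0` (commutators `⁅ai, ui⁆`) lie in `K`, with
squares `z1, z2`. An involution `w ∈ Z0 ^ y = Z(K)` swapping pair `i` would invert and centralise
`⁅ai, w⁆ ∈ K` (order 4); so `w ∈ J`, it centralises `r1, r2`, so `w ∈ R = ⟨r1, r2⟩ Z0`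
(abelian, involutions in `Z0`); thus `Z0 ^ y = Z0`, `K` centralises `Z0`, `K / Z0` is abelian,
`K ∩ J ≤ R`, `A ^ y ∩ J ≤ Z0`. As `|A ^ y| = 4 |Z0|` all four swap patterns occur in `A ^ y`:
an involution `u ∈ A ^ y` swaps both pairs, centralises `Z0`, inverts `⁅a1, u⁆, ⁅a2, u⁆`, so
inverts `R`. `u` swaps `A, A'`, so `t ^ u ∈ N_S(A) \ J = t J`; `fusJ` gives `k ∈ J` with
`u k⁻¹ ∈ Y = SJ ⊓ C(t)`, `u k⁻¹ ∉ N(A)`. `up` gives `g ∈ Y \ T0` with `1 ≠ g² ∈ Z0` (`z0`);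
`g ∉ N(A)` (`memT0`). `g` commutes with `t`, so `g' = g` or `g t` swaps both pairs; `g'² = g²`,
`g' = u j`, `j ∈ J`; `g'² = j ^ u j ∈ Z0` gives `j ∈ R`, so `g'² = 1`. Contradiction. -/
theorem JD.normal (J : JD L) : (J.S : Subgroup G) ≤ normalizer ((L.A ⊔ J.A' : Subgroup G) : Set G) := by
  by_contra hn
  have hlt : J.SJ < J.S := lt_of_le_not_ge inf_le_left fun h => hn (h.trans inf_le_right)
  obtain ⟨y, hyS, hy, hy'⟩ := CL.SylowAux.exists_mem_normalizer_of_lt J.S.isPGroup' hlt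
  refine hy' (mem_inf.2 ⟨hyS, ?_⟩)
  rcases J.ty' with H | H
  · exact H.norm hy
  · by_contra hyn
    obtain ⟨u, hu, hun⟩ : ∃ u ∈ J.K y, u ∉ J.JJ := by
      by_contra hc
      push Not at hc
      refine hyn (inv_mem_iff.1 (mem_normalizer_fintype fun j hj => ?_))
      rw [inv_inv]
      exact hc _ (JD.mem_K' hj)
    obtain ⟨u, uS, uu, hp, hc⟩ := H.exists_both hy hu hun
    exact H.contra uS uu hp hc

end CL.HL
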