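import Cfsg.Agent.INV.HL.LocC

/-! S3139: basic facts on the frame (the rest is in `LocA`, `LocB`, `LocC`). -/

set_option autoImplicit false
open Subgroup

namespace CL.HL
variable {G : Type*} [Group G] [Finite G]

/-- An odd power of `g` is a 2-element. -/
theorem exists_odd_pow (g : G) : ∃ n k : ℕ, Odd n ∧ (g ^ n) ^ 2 ^ k = 1 := by
  obtain ⟨k, n, hn, h⟩ := Nat.exists_eq_two_pow_mul_odd (orderOf_pos g).ne'
  exact ⟨n, k, hn, by rw [← pow_mul, mul_comm, ← h, pow_orderOf_eq_one]⟩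

omit [Finite G] in
theorem p2_zpowers {g : G} {k : ℕ} (h : g ^ 2 ^ k = 1) : IsPGroup 2 (zpowers g) := by
  rintro ⟨x, n, rfl⟩
  refine ⟨k, Subtype.ext ?_⟩
  show (g ^ n) ^ 2 ^ k = 1
  rw [← zpow_natCast, ← zpow_mul, mul_comm, zpow_mul, zpow_natCast, h, one_zpow]

omit [Finite G] in
theorem pow_cj {g s v : G} (h : g⁻¹ * s * g = s * v) (hv : Commute v g) (n : ℕ) :
    (g ^ n)⁻¹ * s * g ^ n = s * v ^ n := by
  induction n with
  | zero => simp
  | succ n ih =>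
    calc _ = g⁻¹ * ((g ^ n)⁻¹ * s * g ^ n) * g := by group
      _ = _ := by rw [ih, Fr.cj_mul, h, Fr.cj_fix (hv.pow_left n)]; group

/-- Normaliser condition inside a Sylow subgroup. -/
theorem exists_norm {P S : Subgroup G} (hS : IsPGroup 2 S) (h : P < S) :
    ∃ n ∈ S, n ∉ P ∧ n ∈ normalizer (P : Set G) := by
  have hnil : Group.IsNilpotent S := hS.isNilpotent
  have h1 : P.subgroupOf S < ⊤ := by
    rw [lt_top_iff_ne_top, Ne, subgroupOf_eq_top]; exact not_le_of_gt h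
  obtain ⟨n, hn, hn'⟩ := SetLike.exists_of_lt (Group.normalizerCondition_of_isNilpotent _ h1)
  refine ⟨n, n.2, hn', Fr.norm_of fun x hx => ?_⟩
  have := norm_cj hn (show (⟨x, h.le hx⟩ : S) ∈ P.subgroupOf S from hx)
  exact this

namespace Fr
variable (F : Fr G)
open Md

theorem stab0 {g : G} (hn : g ∈ normalizer (F.E : Set G)) (ht : Commute F.t g)
    (hz : Commute F.z g) (hd : Commute F.d g) : Commute F.s g := by
  by_cases hs : F.s = 1
  · rw [hs]; exact Commute.one_left _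
  have sE := F.B_E F.s_B
  have hχ := F.χ_conj ht F.ts
  obtain ⟨v, hv, e⟩ : ∃ v ∈ F.V, g⁻¹ * F.s * g = F.s * v := by
    obtain ⟨b, hb, e | e⟩ := F.mem_E.1 (F.nE_cj hn sE)
    · obtain ⟨v, hv, rfl | rfl⟩ := F.mem_B.1 hb
      · rw [e, F.χ_V hv, F.χ_s hs] at hχ; exact absurd hχ (by decide)
      · exact ⟨v, hv, e⟩
    · rw [e, F.χmul _ _ (Commute.refl _) (F.comm_E F.t_E (F.B_E hb)), F.χt, F.χ_s hs] at hχ
      have := congrArg Prod.fst hχ
      rw [Prod.fst_add, F.χ_B hb] at this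
      exact absurd this (by decide)
  have hv' : Commute v g := by
    rcases F.mem_V.1 hv with rfl | rfl | rfl | rfl
    exacts [Commute.one_left _, hz, hd, hd.mul_left hz]
  obtain ⟨n, k, ⟨m, rfl⟩, hk⟩ := exists_odd_pow g
  have hY : IsPGroup 2 ↥(zpowers (g ^ (2 * m + 1)) ⊔ F.E) :=
    IsPGroup.to_sup_of_normal_right' (p2_zpowers hk) F.p2_E
      (zpowers_le.2 (pow_mem hn _))
  have hm := F.memE hY le_sup_right (mem_sup_left (mem_zpowers _)) (ht.pow_right _)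
    (hz.pow_right _) (hd.pow_right _)
  have h1 := pow_cj e hv' (2 * m + 1)
  rw [cj_fix (F.comm_E sE hm), pow_succ, pow_mul, pow_two, F.el_E (F.B_E (F.V_B hv)), one_pow,
    one_mul] at h1
  rw [← h1] at e
  show F.s * g = g * F.s
  calc _ = g * (g⁻¹ * F.s * g) := by group
    _ = _ := by rw [e]

omit [Finite G] in
theorem comm_of_fix {x g : G} (h : g⁻¹ * x * g = x) : Commute x g := by
  show x * g = g * x
  calc _ = g * (g⁻¹ * x * g) := by group
    _ = _ := by rw [h]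

/-- The stabiliser of `t` in `N(E)` fixes `s` and normalises `V`. -/
theorem stab {g : G} (hn : g ∈ normalizer (F.E : Set G)) (ht : Commute F.t g) :
    Commute F.s g ∧ ∀ v ∈ F.V, g⁻¹ * v * g ∈ F.V := by
  have hV : ∀ g ∈ normalizer (F.E : Set G), Commute F.t g → ∀ v ∈ F.V, g⁻¹ * v * g ∈ F.V := by
    intro g hn ht v hv
    have vE := F.B_E (F.V_B hv)
    have hχ := F.χ_conj ht (F.comm_E F.t_E vE)
    rw [F.χ_V hv] at hχ
    obtain ⟨x, hx, h2, e⟩ := F.mem_E'.1 (F.nE_cj hn vE)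
    rw [← e, F.χ_w hx] at hχ
    refine F.mem_V'.2 ⟨x, hx, ⟨?_, ?_, h2⟩, e⟩
    · cases h : x.τ; rfl; rw [h] at hχ; exact absurd (congrArg Prod.fst hχ) (by simp)
    · cases h : x.a; rfl; rw [h] at hχ; exact absurd (congrArg Prod.snd hχ) (by simp)
  refine ⟨?_, hV g hn ht⟩
  have st1 : ∀ g ∈ normalizer (F.E : Set G), Commute F.t g → Commute F.z g → Commute F.s g := by
    intro g hn ht hz
    rcases F.mem_V.1 (hV g hn ht _ F.d_V) with e | e | e | e
    · exact absurd (cj_eq_one.1 e) F.d1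
    · rw [← cj_fix hz] at e; exact absurd (by simpa using e) F.d_ne_z
    · exact F.stab0 hn ht hz (comm_of_fix e)
    · have := F.stab0 (mul_mem hn F.e_nE) (ht.mul_right F.te) (hz.mul_right F.ze)
        (comm_of_fix (by
          calc _ = F.e⁻¹ * (g⁻¹ * F.d * g) * F.e := by group
            _ = _ := by rw [e]; hl_w))
      simpa using this.mul_right F.se.inv_right
  rcases F.mem_V.1 (hV g hn ht _ F.z_V) with e | e | e | e
  · exact absurd (cj_eq_one.1 e) F.z1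
  · exact st1 g hn ht (comm_of_fix e)
  · have := st1 _ (mul_mem hn (inv_mem F.ρ_nE)) (ht.mul_right F.tρ.inv_right)
      (comm_of_fix (by
        calc _ = F.ρ * (g⁻¹ * F.z * g) * F.ρ⁻¹ := by group
          _ = _ := by rw [e, ← F.zρ']; group))
    simpa using this.mul_right F.sρ
  · have := st1 _ (mul_mem hn F.ρ_nE) (ht.mul_right F.tρ)
      (comm_of_fix (by
        calc _ = F.ρ⁻¹ * (g⁻¹ * F.z * g) * F.ρ := by group
          _ = _ := by rw [e, F.dzρ]))
    simpa using this.mul_right F.sρ.inv_right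

set_option synthInstance.maxSize 4096 in
/-- A 2-subgroup of `C(t)` properly above `T0` is `T0 ⟨c'⟩`. -/
theorem exists_c (Y : Subgroup G) (hY : IsPGroup 2 Y) (ht : ∀ y ∈ Y, Commute F.t y)
    (h : F.T0 < Y) : ∃ c' ∈ Y, F.Cr c' ∧ ∀ y ∈ Y, y ∈ F.T0 ∨ y * c' ∈ F.T0 := by
  obtain ⟨k, h1, h2⟩ := F.syl' hY ht
  have hYT : cjs Y k = F.T := eq_of_le_of_card_ge h2 (by
    have := card_two_mul_le h
    rw [card_T0] at this; rw [card_cjs, card_T]; omega)
  have dY := h.le (F.E_T0 (F.B_E (F.V_B F.d_V)))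
  have sY := h.le (F.E_T0 (F.B_E F.s_B))
  obtain ⟨f1, j1, e1⟩ := F.md_of (h2 (cj_cjs k dY)) (by rw [F.χ_conj h1 F.td, F.χd])
  obtain ⟨f2, j2, e2⟩ := F.md_of (h2 (cj_cjs k (h.le F.e_T0))) (by rw [F.χ_conj h1 F.te, F.χ_e])
  set x1 : Md := ⟨false, false, f1, j1⟩
  set x2 : Md := ⟨false, false, f2, j2⟩
  have o1 : ok F.tw x1 := F.okf _ _
  have o2 : ok F.tw x2 := F.okf _ _
  have key : ∀ (f1 f2 : Bool) (j1 j2 : Fin 8), let x1 : Md := ⟨false, false, f1, j1⟩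
      let x2 : Md := ⟨false, false, f2, j2⟩
      x1 * x1 = 1 → x2 * x2 = 1 → x1 * x2 ≠ x2 * x1 → p0 x1 ∧ p0 x2 ∧ x1 * x2 * (x1 * x2) = mz ∧
      ∃ j : Fin 8, let y : Md := ⟨false, false, false, j⟩
        ¬ p0 y ∧ y * y = x1 * x2 ∧ y⁻¹ * x1 * y = x2 * mz ∧ y⁻¹ * x2 * y = x1 ∧
        ∀ x : Md, x.a = true → x * x = 1 → x1 * x = x * x1 → x2 * x = x * x2 →
          p0 x ∧ y⁻¹ * x * y = x * mz := by decide +kernel
  obtain ⟨p1, p2, hz, j, hy0, r1, r2, r3, r4⟩ := key f1 f2 j1 j2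
    ((F.w_sq o1).1 (by rw [e1]; exact sq_cj F.dd k)) ((F.w_sq o2).1 (by rw [e2]; exact sq_cj F.ee k))
    (fun e => F.not_de (comm_of_cj (g := k) (by rw [← e1, ← e2]; exact (F.w_comm o1 o2).2 e)))
  set y : Md := ⟨false, false, false, j⟩
  have oy : ok F.tw y := F.okf _ _
  have ez : k⁻¹ * F.z * k = F.z := by
    have : F.z = F.d * F.e * (F.d * F.e) := by hl_w
    conv_lhs => rw [this]
    rw [cj_mul, cj_mul, ← e1, ← e2, ← F.w_mul _ o2, ← F.w_mul _ (ok_mul o1 o2), hz, w_z]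
  have hs : F.s ≠ 1 → ∃ x, F.w x = k⁻¹ * F.s * k ∧ p0 x ∧ y⁻¹ * x * y = x * mz := fun hs => by
    obtain ⟨x, hx, -, e⟩ := F.mem_T'.1 (h2 (cj_cjs k sY))
    refine ⟨x, e, r4 x ?_ ((F.w_sq hx).1 (by rw [e]; exact sq_cj F.ss k))
      ((F.w_comm o1 hx).1 (by rw [e, e1]; exact comm_cj F.sd.symm k))
      ((F.w_comm o2 hx).1 (by rw [e, e2]; exact comm_cj F.se.symm k))⟩
    have hχ := F.χ_conj h1 F.ts
    rw [← e, F.χ_w hx, F.χ_s hs] at hχ
    cases h : x.a
    · rw [h] at hχ; exact absurd (congrArg Prod.snd hχ) (by simp)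
    · rfl
  have hk0 : k ∈ normalizer (F.T0 : Set G) := by
    refine norm_of fun x hx => ?_
    induction hx using closure_induction with
    | mem x hx =>
      rcases hx with rfl | rfl | rfl | rfl
      · rw [cj_fix h1]; exact F.E_T0 F.t_E
      · by_cases hs' : F.s = 1
        · rw [hs']; simp
        · obtain ⟨x, e, hp, -⟩ := hs hs'
          exact F.mem_T0'.2 ⟨x, F.ok2 hs' x, hp, e⟩
      · exact F.mem_T0'.2 ⟨x1, o1, p1, e1⟩
      · exact F.mem_T0'.2 ⟨x2, o2, p2, e2⟩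
    | one => simp
    | mul x y _ _ hx hy => rw [cj_mul]; exact mul_mem hx hy
    | inv x _ hx => simpa [mul_assoc] using inv_mem hx
  have inj : ∀ a b : G, k⁻¹ * a * k = k⁻¹ * b * k → a = b := fun a b e => by simpa using e
  have hc : k⁻¹ * (k * F.w y * k⁻¹) * k = F.w y := by group
  have hci : k⁻¹ * (k * F.w y * k⁻¹)⁻¹ * k = (F.w y)⁻¹ := by group
  refine ⟨k * F.w y * k⁻¹, mem_cjs.1 (hYT ▸ F.mem_T'.2 ⟨y, oy, trivial, rfl⟩), ⟨?_, ?_, ?_, ?_, ?_, ?_⟩,
    fun g hg => ?_⟩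
  · exact (h1.mul_right (F.t_w y)).mul_right h1.inv_right
  · apply inj
    rw [cj_mul, cj_mul k F.d, hc, ← e1, ← e2, ← F.w_mul _ oy, ← F.w_mul _ o2, r1]
  · apply inj
    rw [cj_mul, cj_mul, cj_mul k F.e, hc, hci, ez, ← e1, ← e2, F.w_conj _ o1 oy, r2, ← w_z,
      F.wm _ _ rfl]
  · apply inj
    rw [cj_mul, cj_mul, hc, hci, ← e1, ← e2, F.w_conj _ o2 oy, r3]
  · apply comm_of_cj (g := k)
    rw [ez, hc, ← w_z, F.w_comm (F.oka mz) oy]
    exact (by decide : ∀ j : Fin 8, mz * ⟨false, false, false, j⟩ = ⟨false, false, false, j⟩ * mz) j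
  · intro hs'
    obtain ⟨x, e, -, r⟩ := hs hs'
    apply inj
    rw [cj_mul, cj_mul, cj_mul k F.s, hc, hci, ez, ← e, F.w_conj _ (F.ok2 hs' x) oy, r, ← w_z,
      F.wm _ _ rfl]
  · obtain ⟨x, hx, -, e⟩ := F.mem_T'.1 (h2 (cj_cjs k hg))
    have back : ∀ a, k⁻¹ * a * k ∈ F.T0 → a ∈ F.T0 := fun a ha => by
      simpa [mul_assoc] using norm_cj (inv_mem hk0) ha
    by_cases hp : p0 x
    · exact Or.inl (back _ (F.mem_T0'.2 ⟨x, hx, hp, e⟩))
    · refine Or.inr (back _ ?_)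
      rw [cj_mul, hc, ← e, ← F.w_mul _ oy]
      exact F.mem_T0'.2 ⟨_, ok_mul hx oy, (by decide +kernel : ∀ (x : Md) (j : Fin 8), ¬ p0 x →
        ¬ p0 ⟨false, false, false, j⟩ → p0 (x * ⟨false, false, false, j⟩)) x j hp hy0, rfl⟩

omit [Finite G] in
theorem cen_T {g : G} (hg : g ∈ F.T) (hd : Commute F.d g) (hc : Commute F.c g) :
    g = 1 ∨ g = F.z ∨ g = F.t ∨ g = F.t * F.z := by
  obtain ⟨x, hx, -, rfl⟩ := F.mem_T'.1 hg
  rw [← w_d, F.w_comm (F.oka md) hx] at hd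
  rw [← w_c, F.w_comm (F.oka mc) hx] at hc
  rcases (by decide : ∀ x : Md, md * x = x * md → mc * x = x * mc →
    x = 1 ∨ x = mz ∨ x = mtt ∨ x = mtt * mz) x hd hc with rfl | rfl | rfl | rfl
  · exact Or.inl F.w_one
  · exact Or.inr (Or.inl F.w_z)
  · exact Or.inr (Or.inr (Or.inl F.w_t))
  · exact Or.inr (Or.inr (Or.inr (by rw [← F.wm _ _ rfl, w_t, w_z])))

theorem big_c {X Y : Subgroup G} (hX : ∀ x ∈ X, x * x = 1) (hc : Nat.card X = 8) (hm : F.t ∈ X)
    (hY : IsPGroup 2 Y) (ht : ∀ y ∈ Y, ∀ x ∈ X, Commute x y) :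
    Nat.card Y < 32 ∨ ∃ k, cjs Y k ≤ F.T0 := by
  have hn : Y ≤ normalizer (X : Set G) := fun y hy => norm_of_comm (ht y hy)
  have hY' : IsPGroup 2 ↥(Y ⊔ X) := IsPGroup.to_sup_of_normal_right' hY (p2_of_el hX) hn
  obtain ⟨k, h1, h2⟩ := F.syl' hY' (comm_sup (fun y hy => ht y hy _ hm)
    fun x hx => comm_of_el hX hm hx)
  have hw : ∀ g ∈ Y ⊔ X, ∃ x, ok F.tw x ∧ F.w x = k⁻¹ * g * k := fun g hg => by
    obtain ⟨x, hx, -, e⟩ := F.mem_T'.1 (h2 (cj_cjs k hg))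
    exact ⟨x, hx, e⟩
  by_cases h : ∀ g ∈ X, ∃ x : Md, (x.a = false ∧ x.f = false ∧ pE x) ∧ F.w x = k⁻¹ * g * k
  · have := F.card_le_of k h
    rw [hc] at this
    exact absurd this (by decide)
  · push Not at h
    obtain ⟨g, hg, h⟩ := h
    obtain ⟨x, hx, e⟩ := hw g (mem_sup_right hg)
    have hxx : x * x = 1 := (F.w_sq hx).1 (by rw [e]; exact sq_cj (hX g hg) k)
    have hw' : ∀ y ∈ Y, ∃ x', (ok F.tw x' ∧ x * x' = x' * x) ∧ F.w x' = k⁻¹ * y * k := by
      intro y hy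
      obtain ⟨x', hx', e'⟩ := hw y (mem_sup_left hy)
      exact ⟨x', ⟨hx', (F.w_comm hx hx').1 (by rw [e, e']; exact comm_cj (ht y hy g hg) k)⟩, e'⟩
    have key : ∀ (b : Bool) (x : Md), x * x = 1 → ¬ (x.a = false ∧ x.f = false ∧ pE x) →
        (Finset.univ.filter fun x' => ok b x' ∧ x * x' = x' * x).card < 32 ∨
          ∀ x', x * x' = x' * x → p0 x' := by decide +kernel
    rcases key F.tw x hxx (fun hp => h x hp e) with h3 | h3
    · exact Or.inl ((F.card_le_of k hw').trans_lt h3)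
    · refine Or.inr ⟨k, cjs_ind fun y hy => ?_⟩
      obtain ⟨x', ⟨o, hx'⟩, e'⟩ := hw' y hy
      exact F.mem_T0'.2 ⟨x', o, h3 x' hx', e'⟩

theorem lc0 : Lc F.t := by
  have hB : Nat.card F.B ≤ 8 := by rcases F.card_B' with h | h <;> omega
  refine ⟨F.nsq, fun Y hY h => (F.bT0 Y hY h).trans (by omega), fun X hX h => ?_,
    fun X Y hX hc hm hY ht hn => ?_, fun X Y hX hc hm hY ht => ?_, fun X Y hX hc hm hY ht => ?_,
    fun X Y hX hc hm hY ht h32 a ha b hb a1 b1 => ?_⟩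
  · by_contra hlt
    obtain ⟨k, -, e⟩ := F.conjE' X hX h (by omega)
    have := card_cjs X k
    rw [e, card_E] at this; omega
  · obtain ⟨k, h1, e⟩ := F.conjE' X hX (fun x hx => comm_of_el hX hm hx) (by omega)
    rw [← card_cjs Y k]
    refine (F.sylT0 _ (p2_cjs hY k) (cjs_ind fun y hy => ?_) (cjs_ind fun y hy => ?_)).trans
      (by omega)
    · have := comm_cj (ht y hy) k
      rwa [cj_fix h1] at this
    · rw [← e]; exact norm_cjs (hn hy) k
  · obtain ⟨k, h1, e⟩ := F.conjE' X hX (fun x hx => comm_of_el hX hm hx) (by omega)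
    rw [← card_cjs Y k]
    have hcc : ∀ y ∈ cjs Y k, ∀ x ∈ F.E, Commute x y := by
      rw [← e]
      exact cjs_ind (p := fun y => ∀ x ∈ cjs X k, Commute x y) fun y hy =>
        cjs_ind (p := fun x => Commute x (k⁻¹ * y * k)) fun x hx => comm_cj (ht y hy x hx) k
    have hY' : IsPGroup 2 ↥(cjs Y k ⊔ F.E) := IsPGroup.to_sup_of_normal_right' (p2_cjs hY k) F.p2_E
      fun y hy => norm_of_comm (hcc y hy)
    have hle : cjs Y k ≤ F.E := fun y hy => F.memE hY' le_sup_right (mem_sup_left hy)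
      (hcc y hy _ F.t_E) (hcc y hy _ (F.B_E (F.V_B F.z_V))) (hcc y hy _ (F.B_E (F.V_B F.d_V)))
    have := card_le_of_le hle
    rw [card_E] at this; omega
  · rcases F.big_c hX hc hm hY ht with h | ⟨k, h⟩
    · omega
    · have := card_le_of_le h
      rw [card_cjs, card_T0] at this; omega
  · rcases F.big_c hX hc hm hY ht with h | ⟨k, h⟩
    · omega
    · have key : ∀ g ∈ Y, g * g ≠ 1 → k⁻¹ * (g * g) * k = F.z := fun g hg g1 => by
        obtain ⟨x, hx, hp, e⟩ := F.mem_T0'.1 (h (cj_cjs k hg))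
        rcases (by decide : ∀ x : Md, p0 x → x * x = 1 ∨ x * x = mz) x hp with h1 | h1
        · exact absurd (cj_eq_one.1 (by rw [cj_mul, ← e]; exact (F.w_sq hx).2 h1)) g1
        · rw [cj_mul, ← e, ← F.w_mul _ hx, h1, w_z]
      have := (key a ha a1).trans (key b hb b1).symm
      simpa using this

theorem lc {u : G} (hu : IsConj F.t u) : Lc u := F.lc0.conj hu

/-- If `t` is not conjugate to `t z`, then `T` is a Sylow 2-subgroup of `G`. -/
theorem small (h : ¬ IsConj F.t (F.t * F.z)) : ¬ 2 ^ 7 ∣ Nat.card G := by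
  obtain ⟨S, hS⟩ := F.p2_T.exists_le_sylow
  have hB : Nat.card F.B ≤ 8 := by rcases F.card_B' with h | h <;> omega
  have hT : F.T = S := by
    by_contra hne
    obtain ⟨n, hn, hnT, hN⟩ := exists_norm S.isPGroup' (lt_of_le_of_ne hS hne)
    have tT := F.T0_T (F.E_T0 F.t_E)
    have hc : ∀ x ∈ F.T, Commute x (n⁻¹ * F.t * n) := fun x hx => by
      have := comm_cj (F.t_T (norm_cj (inv_mem hN) hx)).symm n
      simpa [mul_assoc] using this
    have hj : IsConj F.t (n⁻¹ * F.t * n) := icj n rfl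
    rcases F.cen_T (norm_cj hN tT) (hc _ (F.T0_T (F.E_T0 (F.B_E (F.V_B F.d_V))))) (hc _ F.c_T)
      with e | e | e | e
    · rw [e] at hj; exact F.nc_V (one_mem _) hj
    · rw [e] at hj; exact F.nc_z hj
    · have hle : F.T ≤ (S : Subgroup G) ⊓ centralizer {F.t} := fun x hx =>
        ⟨hS hx, mem_centralizer_singleton_iff.2 (F.t_T hx).symm.eq⟩
      have := F.bT0 ((S : Subgroup G) ⊓ centralizer {F.t}) (S.isPGroup'.to_le inf_le_left) fun y hy =>
        (show Commute y F.t from mem_centralizer_singleton_iff.1 hy.2).symm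
      rw [eq_of_le_of_card_ge hle (by rwa [card_T])] at hnT
      exact hnT ⟨hn, mem_centralizer_singleton_iff.2 (comm_of_fix e).symm.eq⟩
    · rw [e] at hj; exact h hj
  intro hd
  have h1 : 2 ^ 7 ∣ Nat.card S := by
    rw [S.card_eq_multiplicity]
    exact pow_dvd_pow 2 ((Nat.prime_two.pow_dvd_iff_le_factorization Nat.card_pos.ne').1 hd)
  have h2 : Nat.card S = 8 * Nat.card F.B := by rw [← F.card_T, hT]
  have := Nat.le_of_dvd Nat.card_pos h1
  omega

end Fr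
end CL.HL
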