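import Cfsg.Agent.INV.HL.Defs

/-! S3139: the model of `T` and the relations of the frame. -/

set_option autoImplicit false
open Subgroup

namespace CL.HL

/-- `t ^ τ s ^ a d ^ f c ^ j`. -/
structure Md where
  τ : Bool
  a : Bool
  f : Bool
  j : Fin 8
  deriving DecidableEq, Fintype

namespace Md
def k (x : Md) : Fin 8 := (bif x.a then 5 else 1) * (bif x.f then 3 else 1)
instance : Mul Md := ⟨fun x y => ⟨xor x.τ y.τ, xor x.a y.a, xor x.f y.f, x.j * y.k + y.j⟩⟩
instance : One Md := ⟨⟨false, false, false, 0⟩⟩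
instance : Inv Md := ⟨fun x => ⟨x.τ, x.a, x.f, -(x.j * x.k)⟩⟩
theorem mul_def (x y : Md) :
    x * y = ⟨xor x.τ y.τ, xor x.a y.a, xor x.f y.f, x.j * y.k + y.j⟩ := rfl
theorem mul_inv_self : ∀ x : Md, x * x⁻¹ = 1 := by decide
theorem eq_of_mul_inv : ∀ x y : Md, x * y⁻¹ = 1 → x = y := by decide +kernel
/-- allowed in the frame with flag `b` -/
def ok (b : Bool) (x : Md) : Prop := x.a = true → b = true
instance (b : Bool) (x : Md) : Decidable (ok b x) := by unfold ok; infer_instance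
theorem ok_mul {b : Bool} {x y : Md} (hx : ok b x) (hy : ok b y) : ok b (x * y) := by
  intro h
  cases hxa : x.a
  · apply hy; simpa [mul_def, hxa] using h
  · exact hx hxa
theorem ok_inv {b : Bool} {x : Md} (hx : ok b x) : ok b x⁻¹ := hx
theorem ok_one (b : Bool) : ok b 1 := fun h => by cases h
def mtt : Md := ⟨true, false, false, 0⟩
def ms : Md := ⟨false, true, false, 0⟩
def md : Md := ⟨false, false, true, 0⟩
def mc : Md := ⟨false, false, false, 1⟩
def mz : Md := ⟨false, false, false, 4⟩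
def me : Md := ⟨false, false, true, 2⟩
end Md

variable {G : Type*} [Group G]

namespace Fr
variable (F : Fr G)
open Md

open Classical in
/-- `true` in the frame H2. -/
noncomputable def tw : Bool := decide (F.s ≠ 1)
theorem tw_iff : F.tw = true ↔ F.s ≠ 1 := by simp [tw]

def cp (j : Fin 8) : G := F.c ^ j.val
theorem cp_nat (n : ℕ) : F.cp (Fin.ofNat 8 n) = F.c ^ n := by
  show F.c ^ (n % 8) = _
  exact (pow_eq_pow_mod n F.c8).symm
theorem cp_add (i j : Fin 8) : F.cp (i + j) = F.cp i * F.cp j := by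
  rw [cp, cp, cp, ← pow_add, Fin.val_add]; exact (pow_eq_pow_mod _ F.c8).symm
theorem cp_mul (i j : Fin 8) : F.cp (i * j) = F.c ^ (j.val * i.val) := by
  rw [cp, Fin.val_mul, mul_comm]; exact (pow_eq_pow_mod _ F.c8).symm

theorem pow_inv_mul {u : G} (hu : u * u = 1) {n : ℕ} (h : u * F.c * u = F.c ^ n) (j : ℕ) :
    F.c ^ j * u = u * F.c ^ (n * j) := by
  have hi : u⁻¹ = u := inv_eq_of_mul_eq_one_right hu
  have : u * F.c ^ j * u⁻¹ = F.c ^ (n * j) := by
    rw [← conj_pow, hi, h, ← pow_mul]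
  rw [← this, hi, ← mul_assoc, ← mul_assoc, hu, one_mul]

theorem cp_d (j : Fin 8) : F.cp j * F.d = F.d * F.cp (j * 3) := by
  rw [cp_mul, cp]; exact F.pow_inv_mul F.dd F.dc _
theorem cp_s (h : F.s ≠ 1) (j : Fin 8) : F.cp j * F.s = F.s * F.cp (j * 5) := by
  rw [cp_mul, cp]; exact F.pow_inv_mul F.ss (F.sc.resolve_left h).1 _
theorem cp_t (j : Fin 8) : F.cp j * F.t = F.t * F.cp j := (F.tc.pow_right _).eq.symm

def bp (b : Bool) (x : G) : G := bif b then x else 1
theorem bp_xor {x : G} (h : x * x = 1) (a b : Bool) : bp (xor a b) x = bp a x * bp b x := by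
  cases a <;> cases b <;> simp [bp, h]
theorem bp_comm {x y : G} (h : Commute x y) (a b : Bool) : bp a x * bp b y = bp b y * bp a x := by
  cases a <;> cases b <;> simp [bp, h.eq]

def w (x : Md) : G := bp x.τ F.t * (bp x.a F.s * (bp x.f F.d * F.cp x.j))

theorem w_mul (x : Md) {y : Md} (hy : ok F.tw y) : F.w (x * y) = F.w x * F.w y := by
  have h1 : ∀ j, F.cp j * bp y.τ F.t = bp y.τ F.t * F.cp j := by
    intro j; cases y.τ <;> simp [bp, F.cp_t]
  have h2 : ∀ j, F.cp j * (bp y.a F.s * bp y.f F.d) =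
      bp y.a F.s * bp y.f F.d * F.cp (j * y.k) := by
    intro j
    have hs : F.cp j * bp y.a F.s = bp y.a F.s * F.cp (j * (bif y.a then 5 else 1)) := by
      cases ha : y.a
      · simp [bp]
      · simpa [bp] using F.cp_s (F.tw_iff.1 (hy ha)) j
    have hd : ∀ i, F.cp i * bp y.f F.d = bp y.f F.d * F.cp (i * (bif y.f then 3 else 1)) := by
      intro i; cases y.f
      · simp [bp]
      · simpa [bp] using F.cp_d i
    rw [← mul_assoc, hs, mul_assoc, hd, ← mul_assoc, k, mul_assoc j]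
  have e1 := bp_comm F.td y.τ x.f
  have e2 := bp_comm F.ts y.τ x.a
  have e3 := bp_comm F.sd y.a x.f
  simp only [w, mul_def, bp_xor F.tt, bp_xor F.ss, bp_xor F.dd, cp_add]
  calc _ = bp x.τ F.t * ((bp y.τ F.t * bp x.a F.s) * ((bp y.a F.s * bp x.f F.d) * bp y.f F.d *
        F.cp (x.j * y.k)) * F.cp y.j) := by group
    _ = bp x.τ F.t * (bp x.a F.s * ((bp y.τ F.t * bp x.f F.d) * (bp y.a F.s * bp y.f F.d *
        F.cp (x.j * y.k))) * F.cp y.j) := by rw [e2, e3]; group
    _ = bp x.τ F.t * (bp x.a F.s * (bp x.f F.d * (bp y.τ F.t * F.cp x.j) *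
        (bp y.a F.s * bp y.f F.d)) * F.cp y.j) := by rw [e1, ← h2]; group
    _ = _ := by rw [← h1]; group

theorem w_one : F.w 1 = 1 := by
  show F.w ⟨false, false, false, 0⟩ = 1
  simp [w, bp, cp]
theorem w_inv {x : Md} (hx : ok F.tw x) : F.w x⁻¹ = (F.w x)⁻¹ := by
  apply eq_inv_of_mul_eq_one_right
  rw [← F.w_mul x (ok_inv hx), mul_inv_self, w_one]
theorem w_t : F.w mtt = F.t := by simp [w, bp, cp, mtt]
theorem w_s : F.w ms = F.s := by simp [w, bp, cp, ms]
theorem w_d : F.w md = F.d := by simp [w, bp, cp, md]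
theorem w_c : F.w mc = F.c := by simp [w, bp, cp, mc]
theorem w_z : F.w mz = F.z := by simp [w, bp, cp, mz, z]
theorem w_e : F.w me = F.e := by simp [w, bp, cp, me, e]

theorem t_w (x : Md) : Commute F.t (F.w x) := by
  have : ∀ (b : Bool) (y : G), Commute F.t y → Commute F.t (bp b y) := by
    intro b y h; cases b
    · simp [bp]
    · simpa [bp] using h
  exact (this _ _ (Commute.refl _)).mul_right ((this _ _ F.ts).mul_right
    ((this _ _ F.td).mul_right (F.tc.pow_right _)))

theorem χ_one : F.χ 1 = 0 := by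
  have := F.χmul 1 1 (Commute.one_right _) (Commute.one_right _)
  rw [mul_one] at this
  exact left_eq_add.1 this
theorem χ_inv {x : G} (hx : Commute F.t x) : F.χ x⁻¹ = -F.χ x := by
  have := F.χmul x⁻¹ x hx.inv_right hx
  rw [inv_mul_cancel, χ_one] at this
  exact eq_neg_of_add_eq_zero_left this.symm
theorem χ_conj {g x : G} (hg : Commute F.t g) (hx : Commute F.t x) :
    F.χ (g⁻¹ * x * g) = F.χ x := by
  rw [F.χmul _ _ (hg.inv_right.mul_right hx) hg, F.χmul _ _ hg.inv_right hx, F.χ_inv hg]; abel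
theorem χ_s (h : F.s ≠ 1) : F.χ F.s = (0, 1) := (F.sc.resolve_left h).2
theorem χ_cpow (n : ℕ) : F.χ (F.c ^ n) = 0 := by
  induction n with
  | zero => simpa using F.χ_one
  | succ n ih => rw [pow_succ, F.χmul _ _ (F.tc.pow_right n) F.tc, ih, F.χc, add_zero]

theorem χ_w {x : Md} (hx : ok F.tw x) :
    F.χ (F.w x) = (bif x.τ then 1 else 0, bif x.a then 1 else 0) := by
  have hb : ∀ (b : Bool) (y : G), Commute F.t y → Commute F.t (bp b y) := by
    intro b y h; cases b
    · simp [bp]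
    · simpa [bp] using h
  have hc : Commute F.t (F.cp x.j) := F.tc.pow_right _
  have h3 : F.χ (bp x.f F.d) = 0 := by cases x.f <;> simp [bp, F.χ_one, F.χd]
  have h1 : F.χ (bp x.τ F.t) = (bif x.τ then 1 else 0, 0) := by
    cases x.τ
    · simp [bp, F.χ_one]; rfl
    · simp [bp, F.χt]
  have h2 : F.χ (bp x.a F.s) = (0, bif x.a then 1 else 0) := by
    cases ha : x.a
    · simp [bp, F.χ_one]; rfl
    · simp [bp, F.χ_s (F.tw_iff.1 (hx ha))]
  rw [w, F.χmul _ _ (hb _ _ (Commute.refl _)) ((hb _ _ F.ts).mul_right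
    ((hb _ _ F.td).mul_right hc)), F.χmul _ _ (hb _ _ F.ts) ((hb _ _ F.td).mul_right hc),
    F.χmul _ _ (hb _ _ F.td) hc, h1, h2, h3, cp, χ_cpow]
  simp

theorem cp_eq_one {j : Fin 8} (h : F.cp j = 1) : j = 0 := by
  by_contra hj
  apply F.c4
  have : ∀ j : Fin 8, j ≠ 0 → ∃ i : Fin 8, j * i = 4 := by decide
  obtain ⟨i, hi⟩ := this j hj
  have h4 : F.cp 4 = 1 := by rw [← hi, cp_mul, mul_comm, pow_mul]; exact (congrArg (· ^ _) h).trans (one_pow _)
  exact h4

theorem w_eq_one {x : Md} (hx : ok F.tw x) (h : F.w x = 1) : x = 1 := by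
  have hχ := F.χ_w hx
  rw [h, χ_one] at hχ
  obtain ⟨τ, a, f, j⟩ := x
  have hτ : τ = false := by cases τ; rfl; exact absurd (congrArg Prod.fst hχ) (by simp)
  have ha : a = false := by cases a; rfl; exact absurd (congrArg Prod.snd hχ) (by simp)
  subst hτ ha
  cases f
  · have : j = 0 := F.cp_eq_one (by simpa [w, bp] using h)
    subst this; rfl
  · exfalso
    have hd : F.d * F.cp j = 1 := by simpa [w, bp] using h
    have hd' : F.d = (F.cp j)⁻¹ := eq_inv_of_mul_eq_one_left hd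
    have hc : Commute F.d (F.cp 1) := by rw [hd']; exact (Commute.pow_pow_self _ _ _).inv_left
    have h2 := F.cp_d 1
    rw [← hc.eq, mul_left_cancel_iff] at h2
    have : F.cp 2 = 1 := by
      have h3 : F.cp (1 * 3) = F.cp 1 * F.cp 2 := by rw [← cp_add]; rfl
      rw [h3] at h2; exact (mul_eq_left.1 h2.symm)
    exact absurd (F.cp_eq_one this) (by decide)

theorem w_inj {x y : Md} (hx : ok F.tw x) (hy : ok F.tw y) (h : F.w x = F.w y) : x = y := by
  apply eq_of_mul_inv
  apply F.w_eq_one (ok_mul hx (ok_inv hy))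
  rw [F.w_mul _ (ok_inv hy), F.w_inv hy, h, mul_inv_cancel]

theorem w_comm {x y : Md} (hx : ok F.tw x) (hy : ok F.tw y) :
    Commute (F.w x) (F.w y) ↔ x * y = y * x := by
  rw [commute_iff_eq, ← F.w_mul _ hy, ← F.w_mul _ hx]
  exact ⟨F.w_inj (ok_mul hx hy) (ok_mul hy hx), fun h => by rw [h]⟩

theorem w_sq {x : Md} (hx : ok F.tw x) : F.w x * F.w x = 1 ↔ x * x = 1 := by
  rw [← F.w_mul _ hx]
  exact ⟨F.w_eq_one (ok_mul hx hx), fun h => by rw [h, w_one]⟩

theorem w_conj (x : Md) {y : Md} (hx : ok F.tw x) (hy : ok F.tw y) :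
    (F.w y)⁻¹ * F.w x * F.w y = F.w (y⁻¹ * x * y) := by
  rw [F.w_mul _ hy, F.w_mul _ hx, F.w_inv hy]

/-- The subgroup of `T` cut out by a predicate. -/
def sub (p : Md → Prop) (h1 : p 1) (hm : ∀ x y, p x → p y → p (x * y)) (hi : ∀ x, p x → p x⁻¹) :
    Subgroup G where
  carrier := {g | ∃ x, ok F.tw x ∧ p x ∧ F.w x = g}
  one_mem' := ⟨1, ok_one _, h1, F.w_one⟩
  mul_mem' := by
    rintro _ _ ⟨x, hx, px, rfl⟩ ⟨y, hy, py, rfl⟩
    exact ⟨x * y, ok_mul hx hy, hm _ _ px py, F.w_mul _ hy⟩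
  inv_mem' := by
    rintro _ ⟨x, hx, px, rfl⟩
    exact ⟨x⁻¹, ok_inv hx, hi _ px, F.w_inv hx⟩

theorem s_sub {p : Md → Prop} {h1 hm hi} (hs : p ms) : F.s ∈ F.sub p h1 hm hi := by
  by_cases h : F.s = 1
  · rw [h]; exact one_mem _
  · exact ⟨ms, fun _ => F.tw_iff.2 h, hs, F.w_s⟩

theorem w_mem {H : Subgroup G} {x : Md} (ht : x.τ = true → F.t ∈ H) (hs : x.a = true → F.s ∈ H)
    (hd : F.w ⟨false, false, x.f, x.j⟩ ∈ H) : F.w x ∈ H := by
  have hb : ∀ (b : Bool) (y : G), (b = true → y ∈ H) → bp b y ∈ H := by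
    intro b y h; cases b
    · exact one_mem _
    · exact h rfl
  refine mul_mem (hb _ _ ht) (mul_mem (hb _ _ hs) ?_)
  simpa [w, bp] using hd

theorem okf (f : Bool) (j : Fin 8) : ok F.tw ⟨false, false, f, j⟩ := fun h => by cases h

def pE (x : Md) : Prop := x.j = 0 ∨ x.j = 4
instance (x : Md) : Decidable (pE x) := by unfold pE; infer_instance
def p0 (x : Md) : Prop := x.j = 0 ∨ x.j = 2 ∨ x.j = 4 ∨ x.j = 6
instance (x : Md) : Decidable (p0 x) := by unfold p0; infer_instance

theorem zd_mem {H : Subgroup G} (hz : F.z ∈ H) (hd : F.d ∈ H) {x : Md} (h : pE x) :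
    F.w ⟨false, false, x.f, x.j⟩ ∈ H := by
  obtain ⟨τ, a, f, j⟩ := x
  have hz' : F.cp 4 ∈ H := hz
  rcases h with h | h <;> simp only at h <;> subst h <;> cases f <;>
    simp [w, bp, hd, cp] <;> first | exact hz' | exact mul_mem hd hz'

theorem mem_V' {g : G} :
    g ∈ F.V ↔ ∃ x, ok F.tw x ∧ (x.τ = false ∧ x.a = false ∧ pE x) ∧ F.w x = g := by
  have : F.V = F.sub (fun x => x.τ = false ∧ x.a = false ∧ pE x) (by decide) (by decide +kernel)
      (by decide) := by
    apply le_antisymm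
    · rw [V, closure_le]
      rintro x (rfl | rfl)
      · exact ⟨mz, F.okf _ _, by decide, F.w_z⟩
      · exact ⟨md, F.okf _ _, by decide, F.w_d⟩
    · rintro _ ⟨x, -, ⟨h1, h2, h3⟩, rfl⟩
      exact F.w_mem (by simp [h1]) (by simp [h2])
        (F.zd_mem (subset_closure (by simp)) (subset_closure (by simp)) h3)
  rw [this]; rfl

theorem mem_B' {g : G} : g ∈ F.B ↔ ∃ x, ok F.tw x ∧ (x.τ = false ∧ pE x) ∧ F.w x = g := by
  have : F.B = F.sub (fun x => x.τ = false ∧ pE x) (by decide) (by decide +kernel)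
      (by decide) := by
    apply le_antisymm
    · rw [B, closure_le]
      rintro x (rfl | rfl | rfl)
      · exact F.s_sub (by decide)
      · exact ⟨mz, F.okf _ _, by decide, F.w_z⟩
      · exact ⟨md, F.okf _ _, by decide, F.w_d⟩
    · rintro _ ⟨x, -, ⟨h1, h3⟩, rfl⟩
      exact F.w_mem (by simp [h1]) (fun _ => subset_closure (by simp))
        (F.zd_mem (subset_closure (by simp)) (subset_closure (by simp)) h3)
  rw [this]; rfl

theorem okt : ok F.tw mtt := fun h => by cases h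

theorem mem_E' {g : G} : g ∈ F.E ↔ ∃ x, ok F.tw x ∧ pE x ∧ F.w x = g := by
  have : F.E = F.sub pE (by decide) (by decide +kernel) (by decide) := by
    apply le_antisymm
    · rw [E, closure_le]
      rintro x (rfl | rfl | rfl | rfl)
      · exact ⟨mtt, F.okt, by decide, F.w_t⟩
      · exact F.s_sub (by decide)
      · exact ⟨mz, F.okf _ _, by decide, F.w_z⟩
      · exact ⟨md, F.okf _ _, by decide, F.w_d⟩
    · rintro _ ⟨x, -, h3, rfl⟩
      exact F.w_mem (fun _ => subset_closure (by simp)) (fun _ => subset_closure (by simp))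
        (F.zd_mem (subset_closure (by simp)) (subset_closure (by simp)) h3)
  rw [this]; rfl

theorem mem_T0' {g : G} : g ∈ F.T0 ↔ ∃ x, ok F.tw x ∧ p0 x ∧ F.w x = g := by
  have : F.T0 = F.sub p0 (by decide) (by decide +kernel) (by decide) := by
    apply le_antisymm
    · rw [T0, closure_le]
      rintro x (rfl | rfl | rfl | rfl)
      · exact ⟨mtt, F.okt, by decide, F.w_t⟩
      · exact F.s_sub (by decide)
      · exact ⟨md, F.okf _ _, by decide, F.w_d⟩
      · exact ⟨me, F.okf _ _, by decide, F.w_e⟩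
    · rintro _ ⟨x, -, h3, rfl⟩
      have hd : F.d ∈ F.T0 := subset_closure (by simp)
      have he : F.e ∈ F.T0 := subset_closure (by simp)
      have h2 : F.c ^ 2 ∈ F.T0 := by
        have := mul_mem hd he
        rwa [e, ← mul_assoc, F.dd, one_mul] at this
      refine F.w_mem (fun _ => subset_closure (by simp)) (fun _ => subset_closure (by simp)) ?_
      have hj : F.cp x.j ∈ F.T0 := by
        rcases h3 with h | h | h | h <;> rw [h]
        · simp [cp]
        · exact h2
        · have := pow_mem h2 2; rwa [← pow_mul] at this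
        · have := pow_mem h2 3; rwa [← pow_mul] at this
      cases x.f
      · simpa [w, bp] using hj
      · simpa [w, bp] using mul_mem hd hj
  rw [this]; rfl

theorem mem_T' {g : G} : g ∈ F.T ↔ ∃ x, ok F.tw x ∧ True ∧ F.w x = g := by
  have : F.T = F.sub (fun _ => True) trivial (fun _ _ _ _ => trivial) (fun _ _ => trivial) := by
    apply le_antisymm
    · rw [T, closure_le]
      rintro x (rfl | rfl | rfl | rfl)
      · exact ⟨mtt, F.okt, trivial, F.w_t⟩
      · exact F.s_sub trivial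
      · exact ⟨md, F.okf _ _, trivial, F.w_d⟩
      · exact ⟨mc, F.okf _ _, trivial, F.w_c⟩
    · rintro _ ⟨x, -, -, rfl⟩
      have hd : F.d ∈ F.T := subset_closure (by simp)
      have hc : F.c ∈ F.T := subset_closure (by simp)
      refine F.w_mem (fun _ => subset_closure (by simp)) (fun _ => subset_closure (by simp)) ?_
      have hj : F.cp x.j ∈ F.T := pow_mem hc _
      cases x.f
      · simpa [w, bp] using hj
      · simpa [w, bp] using mul_mem hd hj
  rw [this]; rfl

theorem card_of {H : Subgroup G} {p : Md → Prop} [DecidablePred p]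
    (h : ∀ g, g ∈ H ↔ ∃ x, ok F.tw x ∧ p x ∧ F.w x = g) :
    Nat.card H = (Finset.univ.filter fun x => ok F.tw x ∧ p x).card := by
  rw [← Fintype.card_subtype, ← Nat.card_eq_fintype_card]
  symm
  refine Nat.card_congr (Equiv.ofBijective
    (fun x => ⟨F.w x.1, (h _).2 ⟨x.1, x.2.1, x.2.2, rfl⟩⟩) ⟨?_, ?_⟩)
  · intro x y hxy
    exact Subtype.ext (F.w_inj x.2.1 y.2.1 (congrArg Subtype.val hxy))
  · rintro ⟨g, hg⟩
    obtain ⟨x, h1, h2, rfl⟩ := (h g).1 hg
    exact ⟨⟨x, h1, h2⟩, rfl⟩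

theorem card_le_of {H : Subgroup G} (k : G) {p : Md → Prop} [DecidablePred p]
    (h : ∀ g ∈ H, ∃ x, p x ∧ F.w x = k⁻¹ * g * k) :
    Nat.card H ≤ (Finset.univ.filter p).card := by
  rw [← Fintype.card_subtype, ← Nat.card_eq_fintype_card]
  choose f hf hw using h
  refine Nat.card_le_card_of_injective (fun g : H => (⟨f g.1 g.2, hf _ _⟩ : {x // p x})) ?_
  intro a b hab
  have h1 : f a.1 a.2 = f b.1 b.2 := congrArg Subtype.val hab
  have h2 := hw a.1 a.2
  rw [h1, hw] at h2
  exact Subtype.ext (by simpa using h2.symm)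

/-- `|B|` as a function of the flag. -/
def nb (b : Bool) : ℕ := bif b then 8 else 4
theorem card_B0 : Nat.card F.B = nb F.tw := by
  rw [F.card_of fun _ => F.mem_B']; generalize F.tw = b; revert b; decide
theorem card_V : Nat.card F.V = 4 := by
  rw [F.card_of fun _ => F.mem_V']; generalize F.tw = b; revert b; decide
theorem card_E : Nat.card F.E = 2 * Nat.card F.B := by
  rw [F.card_of fun _ => F.mem_E', card_B0]; generalize F.tw = b; revert b; decide
theorem card_T0 : Nat.card F.T0 = 4 * Nat.card F.B := by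
  rw [F.card_of fun _ => F.mem_T0', card_B0]; generalize F.tw = b; revert b; decide
theorem card_T : Nat.card F.T = 8 * Nat.card F.B := by
  rw [F.card_of fun _ => F.mem_T', card_B0]; generalize F.tw = b; revert b; decide
theorem card_B (h : F.s ≠ 1) : Nat.card F.B = 8 := by rw [card_B0, F.tw_iff.2 h]; rfl
theorem card_B' : Nat.card F.B = 4 ∨ Nat.card F.B = 8 := by
  rw [card_B0]; cases F.tw <;> simp [nb]

end Fr
end CL.HL
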