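import Cfsg.Agent.INV.HL.LocA

/-! S3139: element-level facts on the frame. -/

set_option autoImplicit false
open Subgroup

namespace CL.HL.Fr
variable {G : Type*} [Group G] (F : Fr G)
open Md

theorem wm (x y : Md) (hy : y.a = false) : F.w x * F.w y = F.w (x * y) :=
  (F.w_mul x fun h => by rw [hy] at h; cases h).symm
theorem wi (y : Md) (hy : y.a = false) : (F.w y)⁻¹ = F.w y⁻¹ :=
  (F.w_inv fun h => by rw [hy] at h; cases h).symm
theorem oka (x : Md) (hx : x.a = false := by decide) : ok F.tw x := fun h => by rw [hx] at h; cases h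
theorem ok2 (h : F.s ≠ 1) (x : Md) : ok F.tw x := fun _ => F.tw_iff.2 h
theorem wm2 (h : F.s ≠ 1) (x y : Md) : F.w x * F.w y = F.w (x * y) := (F.w_mul x (F.ok2 h y)).symm
theorem wi2 (h : F.s ≠ 1) (y : Md) : (F.w y)⁻¹ = F.w y⁻¹ := (F.w_inv (F.ok2 h y)).symm

/-- identities between words in `t, d, c, z, e` -/
macro "hl_w" : tactic => `(tactic| (
  simp (disch := decide) only [← CL.HL.Fr.w_t, ← CL.HL.Fr.w_d, ← CL.HL.Fr.w_c, ← CL.HL.Fr.w_z,
    ← CL.HL.Fr.w_e, CL.HL.Fr.wm, CL.HL.Fr.wi]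
  exact congrArg _ (by decide)))

/-- identities between words in `t, s, d, c, z, e`, given `s ≠ 1` -/
macro "hl_w2 " h:term : tactic => `(tactic| (
  simp only [← CL.HL.Fr.w_t, ← CL.HL.Fr.w_d, ← CL.HL.Fr.w_c, ← CL.HL.Fr.w_z,
    ← CL.HL.Fr.w_e, ← CL.HL.Fr.w_s, CL.HL.Fr.wm2 _ $h, CL.HL.Fr.wi2 _ $h]
  exact congrArg _ (by decide)))

theorem zz : F.z * F.z = 1 := by rw [z, ← pow_add]; exact F.c8
theorem z1 : F.z ≠ 1 := F.c4
theorem ee : F.e * F.e = 1 := by rw [← F.w_one]; hl_w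
theorem tz : Commute F.t F.z := F.tc.pow_right _
theorem te : Commute F.t F.e := F.td.mul_right (F.tc.pow_right _)
theorem sz : Commute F.s F.z := by
  by_cases h : F.s = 1
  · rw [h]; exact Commute.one_left _
  · show _ = _; hl_w2 h
theorem se : Commute F.s F.e := by
  by_cases h : F.s = 1
  · rw [h]; exact Commute.one_left _
  · show _ = _; hl_w2 h
theorem zd : Commute F.z F.d := by show _ = _; hl_w
theorem ze : Commute F.z F.e := by show _ = _; hl_w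
theorem ede : F.e * F.d * F.e = F.d * F.z := by hl_w
theorem ded : F.d * F.e * F.d = F.e * F.z := by hl_w
theorem zρ' : F.ρ⁻¹ * F.z * F.ρ = F.d := F.zρ
theorem dρ' : F.ρ⁻¹ * F.d * F.ρ = F.d * F.z := F.dρ
theorem Rr.dzρ {F : Fr G} {ρ' : G} (h : F.Rr ρ') : ρ'⁻¹ * (F.d * F.z) * ρ' = F.z := by
  calc _ = (ρ'⁻¹ * F.d * ρ') * (ρ'⁻¹ * F.z * ρ') := by group
    _ = F.z := by rw [h.zρ, h.dρ]; hl_w
theorem dzρ : F.ρ⁻¹ * (F.d * F.z) * F.ρ = F.z := F.rr.dzρ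
theorem cr : F.Cr F.c where
  tc := F.tc
  cc := by hl_w
  dc := by hl_w
  ec := by hl_w
  zc := by show _ = _; hl_w
  sc := fun h => by hl_w2 h

theorem z_V : F.z ∈ F.V := subset_closure (by simp)
theorem d_V : F.d ∈ F.V := subset_closure (by simp)
theorem s_B : F.s ∈ F.B := subset_closure (by simp)
theorem t_E : F.t ∈ F.E := subset_closure (by simp)
theorem e_T0 : F.e ∈ F.T0 := subset_closure (by simp)
theorem c_T : F.c ∈ F.T := subset_closure (by simp)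
theorem V_B : F.V ≤ F.B := closure_mono (by intro x hx; simp at hx ⊢; tauto)
theorem B_E : F.B ≤ F.E := closure_mono (by intro x hx; simp at hx ⊢; tauto)
theorem E_T0 : F.E ≤ F.T0 := fun g hg => by
  obtain ⟨x, h1, h2, rfl⟩ := F.mem_E'.1 hg
  exact F.mem_T0'.2 ⟨x, h1, (by decide : ∀ x : Md, pE x → p0 x) x h2, rfl⟩
theorem T0_T : F.T0 ≤ F.T := fun g hg => by
  obtain ⟨x, h1, -, rfl⟩ := F.mem_T0'.1 hg
  exact F.mem_T'.2 ⟨x, h1, trivial, rfl⟩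

theorem mem_V {x : G} : x ∈ F.V ↔ x = 1 ∨ x = F.z ∨ x = F.d ∨ x = F.d * F.z := by
  constructor
  · intro h
    obtain ⟨y, -, h2, rfl⟩ := F.mem_V'.1 h
    have : y = 1 ∨ y = mz ∨ y = md ∨ y = md * mz := by clear h; revert h2; revert y; decide
    rcases this with rfl | rfl | rfl | rfl
    · exact Or.inl F.w_one
    · exact Or.inr (Or.inl F.w_z)
    · exact Or.inr (Or.inr (Or.inl F.w_d))
    · exact Or.inr (Or.inr (Or.inr (by rw [← F.wm _ _ rfl, w_d, w_z])))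
  · rintro (rfl | rfl | rfl | rfl)
    exacts [one_mem _, F.z_V, F.d_V, mul_mem F.d_V F.z_V]

theorem mem_B {x : G} : x ∈ F.B ↔ ∃ v ∈ F.V, x = v ∨ x = F.s * v := by
  constructor
  · intro h
    obtain ⟨y, h1, h2, rfl⟩ := F.mem_B'.1 h
    obtain ⟨τ, a, f, j⟩ := y
    refine ⟨F.w ⟨false, false, f, j⟩, F.mem_V'.2 ⟨_, F.okf _ _, ⟨rfl, rfl, h2.2⟩, rfl⟩, ?_⟩
    obtain ⟨rfl, -⟩ : τ = false ∧ _ := h2
    cases a
    · exact Or.inl rfl
    · right; simp [w, bp]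
  · rintro ⟨v, hv, rfl | rfl⟩
    exacts [F.V_B hv, mul_mem F.s_B (F.V_B hv)]

theorem mem_E {x : G} : x ∈ F.E ↔ ∃ b ∈ F.B, x = b ∨ x = F.t * b := by
  constructor
  · intro h
    obtain ⟨y, h1, h2, rfl⟩ := F.mem_E'.1 h
    obtain ⟨τ, a, f, j⟩ := y
    refine ⟨F.w ⟨false, a, f, j⟩, F.mem_B'.2 ⟨⟨false, a, f, j⟩, h1, ⟨rfl, h2⟩, rfl⟩, ?_⟩
    cases τ
    · exact Or.inl rfl
    · right; simp [w, bp]
  · rintro ⟨v, hv, rfl | rfl⟩
    exacts [F.B_E hv, mul_mem F.t_E (F.B_E hv)]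

theorem mem_T0 {x : G} : x ∈ F.T0 ↔ ∃ y ∈ F.E, x = y ∨ x = y * F.e := by
  constructor
  · intro h
    obtain ⟨y, h1, h2, rfl⟩ := F.mem_T0'.1 h
    by_cases hy : pE y
    · exact ⟨_, F.mem_E'.2 ⟨y, h1, hy, rfl⟩, Or.inl rfl⟩
    · refine ⟨F.w (y * me), F.mem_E'.2 ⟨_, ok_mul h1 (F.oka me), ?_, rfl⟩, Or.inr ?_⟩
      · clear h h1; revert hy h2; revert y; decide
      · rw [← F.wm _ _ rfl, w_e, mul_assoc, ee, mul_one]
  · rintro ⟨v, hv, rfl | rfl⟩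
    exacts [F.E_T0 hv, mul_mem (F.E_T0 hv) F.e_T0]

theorem mem_T {x : G} : x ∈ F.T ↔ ∃ y ∈ F.T0, x = y ∨ x = y * F.c := by
  constructor
  · intro h
    obtain ⟨y, h1, -, rfl⟩ := F.mem_T'.1 h
    by_cases hy : p0 y
    · exact ⟨_, F.mem_T0'.2 ⟨y, h1, hy, rfl⟩, Or.inl rfl⟩
    · refine ⟨F.w (y * mc⁻¹), F.mem_T0'.2 ⟨_, ok_mul h1 (F.oka mc⁻¹), ?_, rfl⟩, Or.inr ?_⟩
      · clear h h1; revert hy; revert y; decide
      · rw [← F.wm _ _ rfl, ← F.wi _ rfl, w_c]; group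
  · rintro ⟨v, hv, rfl | rfl⟩
    exacts [F.T0_T hv, mul_mem (F.T0_T hv) F.c_T]

theorem el_E {x : G} (hx : x ∈ F.E) : x * x = 1 := by
  obtain ⟨y, h1, h2, rfl⟩ := F.mem_E'.1 hx
  exact (F.w_sq h1).2 ((by decide : ∀ y : Md, pE y → y * y = 1) y h2)
theorem comm_E {x y : G} (hx : x ∈ F.E) (hy : y ∈ F.E) : Commute x y := by
  obtain ⟨a, h1, h2, rfl⟩ := F.mem_E'.1 hx
  obtain ⟨b, h3, h4, rfl⟩ := F.mem_E'.1 hy
  have : ∀ a b : Md, pE a → pE b → a * b = b * a := by decide +kernel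
  exact (F.w_comm h1 h3).2 (this _ _ h2 h4)
theorem t_T {x : G} (hx : x ∈ F.T) : Commute F.t x := by
  obtain ⟨a, -, -, rfl⟩ := F.mem_T'.1 hx
  exact F.t_w a

theorem e_inv : F.e⁻¹ = F.e := inv_eq_of_mul_eq_one_right F.ee
theorem cj_mul (g x y : G) : g⁻¹ * (x * y) * g = (g⁻¹ * x * g) * (g⁻¹ * y * g) := by group
theorem cj_fix {g x : G} (h : Commute x g) : g⁻¹ * x * g = x := by
  rw [mul_assoc, h.eq, inv_mul_cancel_left]

theorem e_nV {b : G} (hb : b ∈ F.V) : F.e * b * F.e ∈ F.V := by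
  rcases F.mem_V.1 hb with rfl | rfl | rfl | rfl
  · rw [mul_one, ee]; exact one_mem _
  · rw [← F.ze.eq, mul_assoc, ee, mul_one]; exact F.z_V
  · rw [ede]; exact mul_mem F.d_V F.z_V
  · have : F.e * (F.d * F.z) * F.e = F.d := by hl_w
    rw [this]; exact F.d_V
theorem Rr.nV {F : Fr G} {ρ' : G} (h : F.Rr ρ') {b : G} (hb : b ∈ F.V) :
    ρ'⁻¹ * b * ρ' ∈ F.V := by
  rcases F.mem_V.1 hb with rfl | rfl | rfl | rfl
  · simp
  · rw [h.zρ]; exact F.d_V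
  · rw [h.dρ]; exact mul_mem F.d_V F.z_V
  · rw [h.dzρ]; exact F.z_V
theorem ρ_nV {b : G} (hb : b ∈ F.V) : F.ρ⁻¹ * b * F.ρ ∈ F.V := F.rr.nV hb
theorem nB_of {g : G} (hs : Commute F.s g) (h : ∀ v ∈ F.V, g⁻¹ * v * g ∈ F.V) {b : G}
    (hb : b ∈ F.B) : g⁻¹ * b * g ∈ F.B := by
  obtain ⟨v, hv, rfl | rfl⟩ := F.mem_B.1 hb
  · exact F.V_B (h _ hv)
  · rw [cj_mul, cj_fix hs]; exact mul_mem F.s_B (F.V_B (h _ hv))
theorem e_nB {b : G} (hb : b ∈ F.B) : F.e * b * F.e ∈ F.B := by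
  have := F.nB_of F.se (fun v hv => by rw [e_inv]; exact F.e_nV hv) hb
  rwa [e_inv] at this
theorem ρ_nB {b : G} (hb : b ∈ F.B) : F.ρ⁻¹ * b * F.ρ ∈ F.B :=
  F.nB_of F.sρ (fun _ hv => F.ρ_nV hv) hb

theorem finite_T : Finite F.T := by
  apply Nat.finite_of_card_ne_zero
  rw [card_T]; rcases F.card_B' with h | h <;> rw [h] <;> norm_num
theorem finite_E : Finite F.E := by
  apply Nat.finite_of_card_ne_zero
  rw [card_E]; rcases F.card_B' with h | h <;> rw [h] <;> norm_num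
theorem finite_T0 : Finite F.T0 := by
  apply Nat.finite_of_card_ne_zero
  rw [card_T0]; rcases F.card_B' with h | h <;> rw [h] <;> norm_num

theorem norm_of {H : Subgroup G} [Finite H] {g : G} (h : ∀ x ∈ H, g⁻¹ * x * g ∈ H) :
    g ∈ normalizer (H : Set G) := by
  rw [← inv_mem_iff]
  exact mem_normalizer_fintype fun x hx => by simpa using h x hx

theorem nE_of {g : G} (ht : Commute F.t g) (h : ∀ b ∈ F.B, g⁻¹ * b * g ∈ F.B) :
    g ∈ normalizer (F.E : Set G) := by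
  have := F.finite_E
  refine norm_of fun x hx => ?_
  obtain ⟨v, hv, rfl | rfl⟩ := F.mem_E.1 hx
  · exact F.B_E (h _ hv)
  · rw [cj_mul, cj_fix ht]; exact mul_mem F.t_E (F.B_E (h _ hv))
theorem e_nE : F.e ∈ normalizer (F.E : Set G) :=
  F.nE_of F.te fun b hb => by rw [e_inv]; exact F.e_nB hb
theorem ρ_nE : F.ρ ∈ normalizer (F.E : Set G) := F.nE_of F.tρ fun _ hb => F.ρ_nB hb
theorem nE_cj {g x : G} (hg : g ∈ normalizer (F.E : Set G)) (hx : x ∈ F.E) :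
    g⁻¹ * x * g ∈ F.E := by
  have := (mem_normalizer_iff.1 (inv_mem hg) x).1 hx
  simpa using this

theorem χ_V {v : G} (hv : v ∈ F.V) : F.χ v = 0 := by
  obtain ⟨y, h1, ⟨h2, h3, -⟩, rfl⟩ := F.mem_V'.1 hv
  rw [F.χ_w h1, h2, h3]; rfl
theorem χ_B {b : G} (hb : b ∈ F.B) : (F.χ b).1 = 0 := by
  obtain ⟨y, h1, ⟨h2, -⟩, rfl⟩ := F.mem_B'.1 hb
  rw [F.χ_w h1, h2]; rfl
theorem χ_e : F.χ F.e = 0 := by rw [← w_e, F.χ_w (F.oka me)]; rfl
theorem ne_of {x y : Md} (hx : x.a = false) (hy : y.a = false) (h : x ≠ y) : F.w x ≠ F.w y :=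
  fun e => h (F.w_inj (fun h => by rw [hx] at h; cases h) (fun h => by rw [hy] at h; cases h) e)
theorem d1 : F.d ≠ 1 := by rw [← w_d, ← F.w_one]; exact F.ne_of rfl rfl (by decide)
theorem d_ne_z : F.d ≠ F.z := by rw [← w_d, ← w_z]; exact F.ne_of rfl rfl (by decide)
theorem t_nB : F.t ∉ F.B := fun h => by
  have := F.χ_B h
  rw [F.χt] at this; exact absurd this (by decide)
theorem s_nV (h : F.s ≠ 1) : F.s ∉ F.V := fun h' => by
  have := F.χ_V h'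
  rw [F.χ_s h] at this; exact absurd this (by decide)
theorem not_de : ¬ Commute F.d F.e := by
  rw [← w_d, ← w_e, F.w_comm (F.oka md) (F.oka me)]; decide
theorem e_notE : F.e ∉ F.E := fun h => F.not_de (F.comm_E (F.B_E (F.V_B F.d_V)) h)
theorem B_eq (h : F.s = 1) : F.B = F.V := by
  refine le_antisymm (fun x hx => ?_) F.V_B
  obtain ⟨v, hv, rfl | rfl⟩ := F.mem_B.1 hx
  · exact hv
  · rw [h, one_mul]; exact hv

theorem w_W0 {x : Md} (hx : ok F.tw x) (h : x = 1 ∨ x = mz ∨ x = ms ∨ x = ms * mz) :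
    F.w x = 1 ∨ F.w x = F.z ∨ F.w x = F.s ∨ F.w x = F.s * F.z := by
  rcases h with rfl | rfl | rfl | rfl
  · exact Or.inl F.w_one
  · exact Or.inr (Or.inl F.w_z)
  · exact Or.inr (Or.inr (Or.inl F.w_s))
  · exact Or.inr (Or.inr (Or.inr (by rw [← F.wm _ _ rfl, w_s, w_z])))

/-- `C_B(e) = ⟨s, z⟩`. -/
theorem fix_e {b : G} (hb : b ∈ F.B) (h : Commute F.e b) :
    b = 1 ∨ b = F.z ∨ b = F.s ∨ b = F.s * F.z := by
  obtain ⟨y, h1, h2, rfl⟩ := F.mem_B'.1 hb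
  rw [← w_e, F.w_comm (F.oka me) h1] at h
  exact F.w_W0 h1 (by clear hb h1; revert h h2; revert y; decide)

/-- `C_B(ρ') = ⟨s⟩`. -/
theorem fix_ρ {ρ' : G} (hr : F.Rr ρ') {b : G} (hb : b ∈ F.B) (h : Commute ρ' b) :
    b = 1 ∨ b = F.s := by
  have key : ∀ v ∈ F.V, Commute ρ' v → v = 1 := by
    intro v hv hc
    have h1 := cj_fix hc.symm
    rcases F.mem_V.1 hv with rfl | rfl | rfl | rfl
    · rfl
    · rw [hr.zρ] at h1; exact absurd h1 F.d_ne_z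
    · rw [hr.dρ] at h1; exact absurd (mul_eq_left.1 h1) F.z1
    · rw [hr.dzρ] at h1; exact absurd (mul_eq_right.1 h1.symm) F.d1
  obtain ⟨v, hv, rfl | rfl⟩ := F.mem_B.1 hb
  · exact Or.inl (key _ hv h)
  · right
    have : Commute ρ' v := by
      have h2 := hr.sρ.symm.mul_right h
      rwa [← mul_assoc, F.ss, one_mul] at h2
    rw [key _ hv this, mul_one]

/-- `Z(T0) = ⟨t, s, z⟩`. -/
theorem cen_T0 {g : G} (hg : g ∈ F.T0) (hd : Commute F.d g) (he : Commute F.e g) :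
    ∃ b, (b = 1 ∨ b = F.z ∨ b = F.s ∨ b = F.s * F.z) ∧ (g = b ∨ g = F.t * b) := by
  obtain ⟨y, h1, h2, rfl⟩ := F.mem_T0'.1 hg
  rw [← w_e, F.w_comm (F.oka me) h1] at he
  rw [← w_d, F.w_comm (F.oka md) h1] at hd
  obtain ⟨τ, a, f, j⟩ := y
  refine ⟨F.w ⟨false, a, f, j⟩, F.w_W0 h1 ?_, ?_⟩
  · clear h1 hg; revert τ a f j; decide
  · cases τ
    · exact Or.inl rfl
    · right; simp [w, bp]

theorem p2_T : IsPGroup 2 F.T := by
  rcases F.card_B' with h | h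
  · exact IsPGroup.of_card (n := 5) (by rw [card_T, h]; norm_num)
  · exact IsPGroup.of_card (n := 6) (by rw [card_T, h]; norm_num)
theorem p2_T0 : IsPGroup 2 F.T0 := F.p2_T.to_le F.T0_T
theorem p2_E : IsPGroup 2 F.E := F.p2_T0.to_le F.E_T0

theorem icj (g : G) {x y : G} (h : g⁻¹ * x * g = y) : IsConj x y :=
  isConj_iff.2 ⟨g⁻¹, by rw [inv_inv, h]⟩

theorem cjV {u : G} (hu : Commute u F.ρ) {v : G} (hv : v ∈ F.V) (h1 : v ≠ 1) :
    IsConj (u * F.z) (u * v) := by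
  have a1 : IsConj (u * F.z) (u * F.d) := icj F.ρ (by rw [cj_mul, cj_fix hu, zρ'])
  rcases F.mem_V.1 hv with rfl | rfl | rfl | rfl
  · exact absurd rfl h1
  · rfl
  · exact a1
  · exact a1.trans (icj F.ρ (by rw [cj_mul, cj_fix hu, dρ']))
theorem cj_V {v : G} (hv : v ∈ F.V) (h1 : v ≠ 1) : IsConj F.z v := by
  simpa using F.cjV (Commute.one_left _) hv h1
theorem cj_tV {v : G} (hv : v ∈ F.V) (h1 : v ≠ 1) : IsConj (F.t * F.z) (F.t * v) :=
  F.cjV F.tρ hv h1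
theorem cj_sV {v : G} (h : F.s ≠ 1) (hv : v ∈ F.V) : IsConj F.s (F.s * v) := by
  by_cases h1 : v = 1
  · rw [h1, mul_one]
  · exact (icj F.c (F.cr.sc h)).trans (F.cjV F.sρ hv h1)
theorem cj_tsV {v : G} (h : F.s ≠ 1) (hv : v ∈ F.V) :
    IsConj (F.t * F.s) (F.t * (F.s * v)) := by
  by_cases h1 : v = 1
  · rw [h1, mul_one]
  · rw [← mul_assoc]
    exact (icj F.c (by hl_w2 h)).trans (F.cjV (F.tρ.mul_left F.sρ) hv h1)
theorem cj_e : IsConj F.z F.e := (F.cj_V F.d_V F.d1).trans (icj F.c F.cr.ec).symm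
theorem cj_te : IsConj (F.t * F.z) (F.t * F.e) :=
  (F.cj_tV F.d_V F.d1).trans (icj F.c (by hl_w)).symm
theorem cj_es (h : F.s ≠ 1) : IsConj F.s (F.e * F.s) :=
  (F.cj_sV h (mul_mem F.d_V F.z_V)).trans (icj F.c (by hl_w2 h)).symm
theorem cj_esz (h : F.s ≠ 1) : IsConj F.s (F.e * (F.s * F.z)) :=
  (F.cj_sV h F.d_V).trans (icj F.c (by hl_w2 h)).symm
theorem cj_tes (h : F.s ≠ 1) : IsConj (F.t * F.s) (F.t * F.e * F.s) :=
  (F.cj_tsV h (mul_mem F.d_V F.z_V)).trans (icj F.c (by hl_w2 h)).symm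
theorem cj_tesz (h : F.s ≠ 1) : IsConj (F.t * F.s) (F.t * F.e * (F.s * F.z)) :=
  (F.cj_tsV h F.d_V).trans (icj F.c (by hl_w2 h)).symm

theorem Cr.cd {F : Fr G} {c' : G} (h : F.Cr c') : c' * F.d * (c' * F.d) = F.z := by
  calc _ = (c' * c') * (c'⁻¹ * F.d * c') * F.d := by group
    _ = F.z := by rw [h.cc, h.dc]; hl_w
theorem Cr.not_nE {F : Fr G} {c' : G} (h : F.Cr c') : c' ∉ normalizer (F.E : Set G) := fun hn => by
  have := F.nE_cj hn (F.B_E (F.V_B F.d_V))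
  rw [h.dc] at this
  exact F.e_notE ((mul_mem_cancel_right (F.B_E (F.V_B F.z_V))).1 this)
theorem Cr.nT0 {F : Fr G} {c' : G} (h : F.Cr c') : c' ∈ normalizer (F.T0 : Set G) := by
  have := F.finite_T0
  have hz : F.z ∈ F.T0 := F.E_T0 (F.B_E (F.V_B F.z_V))
  refine norm_of fun x hx => ?_
  induction hx using closure_induction with
  | mem x hx =>
    rcases hx with rfl | rfl | rfl | rfl
    · rw [cj_fix h.tc]; exact F.E_T0 F.t_E
    · by_cases hs : F.s = 1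
      · rw [hs]; simp
      · rw [h.sc hs]; exact mul_mem (F.E_T0 (F.B_E F.s_B)) hz
    · rw [h.dc]; exact mul_mem F.e_T0 hz
    · rw [h.ec]; exact F.E_T0 (F.B_E (F.V_B F.d_V))
  | one => simp
  | mul x y _ _ hx hy => rw [cj_mul]; exact mul_mem hx hy
  | inv x _ hx => simpa [mul_assoc] using inv_mem hx

end CL.HL.Fr
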