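import Cfsg.Agent.INV.HL.LocB

/-! S3139: the 2-subgroups of `C(t)`. -/

set_option autoImplicit false
open Subgroup

namespace CL.HL
variable {G : Type*} [Group G]

/-- `Y ^ g`. -/
def cjs (Y : Subgroup G) (g : G) : Subgroup G := Y.map (MulAut.conj g⁻¹).toMonoidHom
theorem mem_cjs {Y : Subgroup G} {g x : G} : x ∈ cjs Y g ↔ g * x * g⁻¹ ∈ Y := by
  constructor
  · rintro ⟨y, hy, rfl⟩; simpa [mul_assoc] using hy
  · intro h; exact ⟨_, h, by simp [mul_assoc]⟩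
theorem cj_cjs {Y : Subgroup G} (g : G) {x : G} (h : x ∈ Y) : g⁻¹ * x * g ∈ cjs Y g :=
  mem_cjs.2 (by simpa [mul_assoc] using h)
theorem cjs_ind {Y : Subgroup G} {g : G} {p : G → Prop} (h : ∀ y ∈ Y, p (g⁻¹ * y * g)) :
    ∀ x ∈ cjs Y g, p x := fun x hx => by simpa [mul_assoc] using h _ (mem_cjs.1 hx)
theorem card_cjs (Y : Subgroup G) (g : G) : Nat.card (cjs Y g) = Nat.card Y :=
  card_map_of_injective (MulAut.conj g⁻¹).injective
theorem p2_cjs {Y : Subgroup G} (h : IsPGroup 2 Y) (g : G) : IsPGroup 2 (cjs Y g) := h.map _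
theorem comm_cj {x y : G} (h : Commute x y) (g : G) : Commute (g⁻¹ * x * g) (g⁻¹ * y * g) := by
  have := h.map (MulAut.conj g⁻¹)
  simpa using this
theorem comm_of_cj {x y g : G} (h : Commute (g⁻¹ * x * g) (g⁻¹ * y * g)) : Commute x y := by
  simpa [mul_assoc] using comm_cj h g⁻¹
theorem sq_cj {x : G} (h : x * x = 1) (g : G) : g⁻¹ * x * g * (g⁻¹ * x * g) = 1 := by
  rw [← Fr.cj_mul, h]; group
theorem cj_eq_one {g x : G} : g⁻¹ * x * g = 1 ↔ x = 1 := by
  constructor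
  · intro h; calc x = g * (g⁻¹ * x * g) * g⁻¹ := by group
      _ = 1 := by rw [h]; group
  · rintro rfl; group
theorem norm_cj {H : Subgroup G} {g x : G} (hg : g ∈ normalizer (H : Set G)) (hx : x ∈ H) :
    g⁻¹ * x * g ∈ H := by
  have := (mem_normalizer_iff.1 (inv_mem hg) x).1 hx
  simpa using this
theorem norm_cjs {X : Subgroup G} {y : G} (hy : y ∈ normalizer (X : Set G)) (g : G) :
    g⁻¹ * y * g ∈ normalizer (cjs X g : Set G) := by
  rw [mem_normalizer_iff]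
  intro x
  show x ∈ cjs X g ↔ _ ∈ cjs X g
  rw [mem_cjs, mem_cjs, mem_normalizer_iff.1 hy]
  constructor <;> intro h <;> simpa [mul_assoc] using h
theorem p2_of_el {X : Subgroup G} (h : ∀ x ∈ X, x * x = 1) : IsPGroup 2 X := fun x =>
  ⟨1, Subtype.ext (by simpa [pow_two] using h x x.2)⟩
theorem comm_of_el {X : Subgroup G} (h : ∀ x ∈ X, x * x = 1) {x y : G} (hx : x ∈ X) (hy : y ∈ X) :
    Commute x y := by
  have h1 := h _ (mul_mem hx hy)
  have hx' := inv_eq_of_mul_eq_one_right (h x hx)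
  have hy' := inv_eq_of_mul_eq_one_right (h y hy)
  have := inv_eq_of_mul_eq_one_right h1
  rw [mul_inv_rev, hx', hy'] at this
  exact this.symm
theorem comm_sup {u : G} {X Y : Subgroup G} (hX : ∀ x ∈ X, Commute u x)
    (hY : ∀ x ∈ Y, Commute u x) : ∀ x ∈ X ⊔ Y, Commute u x := by
  have : X ⊔ Y ≤ centralizer {u} := sup_le
    (fun x hx => mem_centralizer_singleton_iff.2 (hX x hx).symm.eq)
    (fun x hx => mem_centralizer_singleton_iff.2 (hY x hx).symm.eq)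
  exact fun x hx => (show Commute x u from mem_centralizer_singleton_iff.1 (this hx)).symm
theorem norm_of_comm {X : Subgroup G} {y : G} (h : ∀ x ∈ X, Commute x y) :
    y ∈ normalizer (X : Set G) :=
  centralizer_le_normalizer _ (mem_centralizer_iff.2 fun x hx => (h x hx).eq)

variable [Finite G]

theorem card_two_mul_le {X Y : Subgroup G} (h : X < Y) : 2 * Nat.card X ≤ Nat.card Y := by
  obtain ⟨k, hk⟩ := card_dvd_of_le h.le
  have h0 : 0 < Nat.card Y := Nat.card_pos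
  have h1 : k ≠ 1 := by
    rintro rfl
    exact h.ne (eq_of_le_of_card_ge h.le (by omega))
  rcases k with _ | _ | k
  · omega
  · exact absurd rfl h1
  · rw [hk]; nlinarith

theorem Lc.conj {t u : G} (h : Lc t) (hu : IsConj t u) : Lc u := by
  obtain ⟨g, rfl⟩ := isConj_iff.1 hu
  have ct : ∀ y, Commute (g * t * g⁻¹) y → Commute t (g⁻¹ * y * g) := fun y hy => by
    simpa [mul_assoc] using comm_cj hy g
  have mt : ∀ X : Subgroup G, g * t * g⁻¹ ∈ X → t ∈ cjs X g := fun X hX => mem_cjs.2 hX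
  have el : ∀ X : Subgroup G, (∀ x ∈ X, x * x = 1) → ∀ x ∈ cjs X g, x * x = 1 := fun X hX =>
    cjs_ind (p := fun x => x * x = 1) fun x hx => sq_cj (hX x hx) g
  have cc : ∀ X Y : Subgroup G, (∀ y ∈ Y, ∀ x ∈ X, Commute x y) →
      ∀ y ∈ cjs Y g, ∀ x ∈ cjs X g, Commute x y := fun X Y hXY =>
    cjs_ind (p := fun y => ∀ x ∈ cjs X g, Commute x y) fun y hy =>
      cjs_ind (p := fun x => Commute x (g⁻¹ * y * g)) fun x hx => comm_cj (hXY y hy x hx) g
  refine ⟨fun a ha => h.nsq (g⁻¹ * a * g) ?_, fun Y hY hc => ?_, fun X hX hc => ?_,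
    fun X Y hX hc hm hY ht hn => ?_, fun X Y hX hc hm hY ht => ?_, fun X Y hX hc hm hY ht => ?_,
    fun X Y hX hc hm hY ht h32 a ha b hb a1 b1 => ?_⟩
  · rw [← Fr.cj_mul, ha]; group
  · rw [← card_cjs Y g]; exact h.b64 _ (p2_cjs hY g) (cjs_ind fun y hy => ct y (hc y hy))
  · rw [← card_cjs X g]; exact h.rk _ (el X hX) (cjs_ind fun y hy => ct y (hc y hy))
  · rw [← card_cjs Y g]
    exact h.n16 (cjs X g) _ (el X hX) (by rwa [card_cjs]) (mt X hm) (p2_cjs hY g)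
      (cjs_ind fun y hy => ct y (ht y hy)) (cjs_ind fun y hy => norm_cjs (hn hy) g)
  · rw [← card_cjs Y g]
    exact h.c16 (cjs X g) _ (el X hX) (by rwa [card_cjs]) (mt X hm) (p2_cjs hY g) (cc X Y ht)
  · rw [← card_cjs Y g]
    exact h.c8 (cjs X g) _ (el X hX) (by rwa [card_cjs]) (mt X hm) (p2_cjs hY g) (cc X Y ht)
  · have := h.sq8 (cjs X g) _ (el X hX) (by rwa [card_cjs]) (mt X hm) (p2_cjs hY g) (cc X Y ht)
      (by rwa [card_cjs]) _ (cj_cjs g ha) _ (cj_cjs g hb)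
      (by rw [← Fr.cj_mul]; exact fun e => a1 (cj_eq_one.1 e))
      (by rw [← Fr.cj_mul]; exact fun e => b1 (cj_eq_one.1 e))
    rw [← Fr.cj_mul, ← Fr.cj_mul] at this
    simpa using this

namespace Fr
variable (F : Fr G)
open Md

omit [Finite G] in
theorem syl' {Y : Subgroup G} (hY : IsPGroup 2 Y) (ht : ∀ y ∈ Y, Commute F.t y) :
    ∃ h, Commute F.t h ∧ cjs Y h ≤ F.T := by
  obtain ⟨h, h1, h2⟩ := F.syl Y hY ht
  exact ⟨h, h1, cjs_ind h2⟩

theorem bT0 (Y : Subgroup G) (hY : IsPGroup 2 Y) (h : ∀ y ∈ Y, Commute F.t y) :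
    Nat.card Y ≤ 8 * Nat.card F.B := by
  obtain ⟨k, -, hk⟩ := F.syl' hY h
  rw [← card_T, ← card_cjs Y k]; exact card_le_of_le hk

theorem bT {u : G} (hu : IsConj F.t u) (Y : Subgroup G) (hY : IsPGroup 2 Y)
    (h : ∀ y ∈ Y, Commute u y) : Nat.card Y ≤ 8 * Nat.card F.B := by
  obtain ⟨g, rfl⟩ := isConj_iff.1 hu
  rw [← card_cjs Y g]
  exact F.bT0 _ (p2_cjs hY g) (cjs_ind fun y hy => by simpa [mul_assoc] using comm_cj (h y hy) g)

omit [Finite G] in
theorem nsq (g : G) : g * g ≠ F.t := fun h => by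
  have hc : Commute F.t g := by rw [← h]; exact (Commute.refl g).mul_left (Commute.refl g)
  have := F.χmul g g hc hc
  rw [h, F.χt] at this
  have h2 : ∀ a : ZMod 2 × ZMod 2, (1, 0) ≠ a + a := by decide
  exact h2 _ this
omit [Finite G] in
/-- no conjugate of `t` is a square. -/
theorem nc_sq' (g : G) : ¬ IsConj F.t (g * g) := fun h => by
  obtain ⟨k, hk⟩ := isConj_iff.1 h
  exact F.nsq (k⁻¹ * g * k) (by rw [← cj_mul, ← hk]; group)
theorem nc_sq (g : G) : ¬ IsConj F.t (g * g) := F.nc_sq' g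
theorem nc_z : ¬ IsConj F.t F.z := by rw [← F.cr.cd]; exact F.nc_sq _
theorem nc_V {v : G} (hv : v ∈ F.V) : ¬ IsConj F.t v := by
  by_cases h1 : v = 1
  · rw [h1, ← mul_one (1 : G)]; exact F.nc_sq _
  · exact fun h => F.nc_z (h.trans (F.cj_V hv h1).symm)

omit [Finite G] in
/-- an element of `T` on which `χ` vanishes -/
theorem md_of {g : G} (hg : g ∈ F.T) (h : F.χ g = 0) :
    ∃ f j, F.w ⟨false, false, f, j⟩ = g := by
  obtain ⟨⟨τ, a, f, j⟩, h1, -, rfl⟩ := F.mem_T'.1 hg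
  rw [F.χ_w h1] at h
  have hτ : τ = false := by cases τ; rfl; exact absurd (congrArg Prod.fst h) (by simp)
  have ha : a = false := by cases a; rfl; exact absurd (congrArg Prod.snd h) (by simp)
  subst hτ ha
  exact ⟨f, j, rfl⟩

theorem sylE (Y : Subgroup G) (hY : IsPGroup 2 Y) (ht : ∀ y ∈ Y, Commute F.t y)
    (hz : F.z ∈ Y) (hd : F.d ∈ Y) (hz' : ∀ y ∈ Y, Commute F.z y) (hd' : ∀ y ∈ Y, Commute F.d y) :
    Nat.card Y ≤ 2 * Nat.card F.B := by
  obtain ⟨h, h1, h2⟩ := F.syl' hY ht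
  obtain ⟨f1, j1, e1⟩ := F.md_of (h2 (cj_cjs h hz)) (by rw [F.χ_conj h1 F.tz, F.χ_V F.z_V])
  obtain ⟨f2, j2, e2⟩ := F.md_of (h2 (cj_cjs h hd)) (by rw [F.χ_conj h1 F.td, F.χd])
  set x1 : Md := ⟨false, false, f1, j1⟩
  set x2 : Md := ⟨false, false, f2, j2⟩
  have o1 : ok F.tw x1 := F.okf _ _
  have o2 : ok F.tw x2 := F.okf _ _
  have key : ∀ (b f1 f2 : Bool) (j1 j2 : Fin 8), let x1 : Md := ⟨false, false, f1, j1⟩
      let x2 : Md := ⟨false, false, f2, j2⟩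
      x1 * x1 = 1 → x2 * x2 = 1 → x1 ≠ 1 → x2 ≠ 1 → x1 ≠ x2 →
      (Finset.univ.filter fun x => ok b x ∧ x1 * x = x * x1 ∧ x2 * x = x * x2).card ≤ 2 * nb b := by
    decide +kernel
  refine (F.card_le_of h (p := fun x => ok F.tw x ∧ x1 * x = x * x1 ∧ x2 * x = x * x2) ?_).trans ?_
  · intro y hy
    obtain ⟨x, hx, -, e⟩ := F.mem_T'.1 (h2 (cj_cjs h hy))
    refine ⟨x, ⟨hx, (F.w_comm o1 hx).1 ?_, (F.w_comm o2 hx).1 ?_⟩, e⟩
    · rw [e1, e]; exact comm_cj (hz' y hy) h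
    · rw [e2, e]; exact comm_cj (hd' y hy) h
  · rw [card_B0]
    refine key _ _ _ _ _ ((F.w_sq o1).1 ?_) ((F.w_sq o2).1 ?_) ?_ ?_ ?_
    · rw [e1]; exact sq_cj F.zz h
    · rw [e2]; exact sq_cj F.dd h
    · intro e; have := e1; rw [show x1 = 1 from e, w_one] at this
      exact F.z1 (cj_eq_one.1 this.symm)
    · intro e; have := e2; rw [show x2 = 1 from e, w_one] at this
      exact F.d1 (cj_eq_one.1 this.symm)
    · intro e; have := e1; rw [show x1 = x2 from e, e2] at this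
      exact F.d_ne_z (by simpa using this)

/-- `E` is a Sylow 2-subgroup of `C(t, V)`. -/
theorem memE {Y : Subgroup G} (hY : IsPGroup 2 Y) (hE : F.E ≤ Y) {y : G} (hy : y ∈ Y)
    (ht : Commute F.t y) (hz : Commute F.z y) (hd : Commute F.d y) : y ∈ F.E := by
  have zE := F.B_E (F.V_B F.z_V)
  have dE := F.B_E (F.V_B F.d_V)
  let Y' := Y ⊓ centralizer {F.t, F.z, F.d}
  have hm : ∀ g, g ∈ Y' ↔ g ∈ Y ∧ Commute F.t g ∧ Commute F.z g ∧ Commute F.d g := by
    intro g; simp [Y', mem_centralizer_iff, commute_iff_eq]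
  have hle : F.E ≤ Y' := fun x hx =>
    (hm x).2 ⟨hE hx, F.comm_E F.t_E hx, F.comm_E zE hx, F.comm_E dE hx⟩
  have := F.sylE Y' (hY.to_le inf_le_left) (fun g hg => ((hm g).1 hg).2.1) (hle zE) (hle dE)
    (fun g hg => ((hm g).1 hg).2.2.1) (fun g hg => ((hm g).1 hg).2.2.2)
  rw [eq_of_le_of_card_ge hle (by rwa [card_E])]
  exact (hm y).2 ⟨hy, ht, hz, hd⟩

theorem conjE0 {X : Subgroup G} (hT : X ≤ F.T) (hX : ∀ x ∈ X, x * x = 1)
    (hc : 2 * Nat.card F.B ≤ Nat.card X) : X = F.E ∨ cjs X F.c = F.E := by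
  have hw : ∀ g ∈ X, ∃ x, ok F.tw x ∧ x * x = 1 ∧ F.w x = g := fun g hg => by
    obtain ⟨x, hx, -, rfl⟩ := F.mem_T'.1 (hT hg)
    exact ⟨x, hx, (F.w_sq hx).1 (hX _ hg), rfl⟩
  rw [card_B0] at hc
  by_cases h : ∃ y, ok F.tw y ∧ y.f = true ∧ F.w y ∈ X
  · obtain ⟨y, hy, hf, hyX⟩ := h
    have hyy := (F.w_sq hy).1 (hX _ hyX)
    have hw' : ∀ g ∈ X, ∃ x, (ok F.tw x ∧ x * x = 1 ∧ y * x = x * y) ∧ F.w x = g := fun g hg => by
      obtain ⟨x, hx, h2, rfl⟩ := hw g hg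
      exact ⟨x, ⟨hx, h2, (F.w_comm hy hx).1 (comm_of_el hX hyX hg)⟩, rfl⟩
    have key : ∀ (b : Bool) (y : Md), ok b y → y.f = true → y * y = 1 →
        (Finset.univ.filter fun x => ok b x ∧ x * x = 1 ∧ y * x = x * y).card < 2 * nb b ∨
        (∀ x : Md, x * x = 1 → y * x = x * y → pE x) ∨
        (∀ x : Md, x * x = 1 → y * x = x * y → pE (mc⁻¹ * x * mc)) := by decide +kernel
    rcases key _ y hy hf hyy with h | h | h
    · have := F.card_le_of (H := X) 1 (p := fun x => ok F.tw x ∧ x * x = 1 ∧ y * x = x * y)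
        (by simpa using hw')
      omega
    · left
      refine eq_of_le_of_card_ge (fun g hg => ?_) (by rwa [card_E, card_B0])
      obtain ⟨x, ⟨h1, h2, h3⟩, rfl⟩ := hw' g hg
      exact F.mem_E'.2 ⟨x, h1, h x h2 h3, rfl⟩
    · right
      refine eq_of_le_of_card_ge (cjs_ind fun g hg => ?_) (by rwa [card_E, card_B0, card_cjs])
      obtain ⟨x, ⟨h1, h2, h3⟩, rfl⟩ := hw' g hg
      rw [← w_c, F.w_conj x h1 (F.oka mc)]
      exact F.mem_E'.2 ⟨_, ok_mul (ok_mul (F.oka mc⁻¹) h1) (F.oka mc), h x h2 h3, rfl⟩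
  · exfalso
    have key : ∀ b : Bool,
        (Finset.univ.filter fun x : Md => ok b x ∧ x * x = 1 ∧ x.f = false).card < 2 * nb b := by
      decide +kernel
    have := F.card_le_of (H := X) 1 (p := fun x => ok F.tw x ∧ x * x = 1 ∧ x.f = false) (by
      intro g hg
      obtain ⟨x, hx, h2, rfl⟩ := hw g hg
      refine ⟨x, ⟨hx, h2, ?_⟩, by simp⟩
      by_contra hf
      exact h ⟨x, hx, by simpa using hf, hg⟩)
    have := key F.tw
    omega

theorem conjE' (X : Subgroup G) (hX : ∀ x ∈ X, x * x = 1) (ht : ∀ x ∈ X, Commute F.t x)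
    (hc : 2 * Nat.card F.B ≤ Nat.card X) : ∃ h, Commute F.t h ∧ cjs X h = F.E := by
  obtain ⟨h, h1, h2⟩ := F.syl' (p2_of_el hX) ht
  rcases F.conjE0 h2 (cjs_ind (p := fun x => x * x = 1) fun x hx => sq_cj (hX x hx) h)
    (by rwa [card_cjs]) with e | e
  · exact ⟨h, h1, e⟩
  · refine ⟨h * F.c, h1.mul_right F.tc, ?_⟩
    rw [← e]; ext x; simp [mem_cjs, mul_assoc]

/-- All elementary abelian subgroups of `C(t)` of the largest order are conjugate to `E`. -/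
theorem conjE (X : Subgroup G) (hX : ∀ x ∈ X, x * x = 1) (ht : ∀ x ∈ X, Commute F.t x)
    (hc : 2 * Nat.card F.B ≤ Nat.card X) :
    ∃ h, Commute F.t h ∧ ∀ x, x ∈ X ↔ h⁻¹ * x * h ∈ F.E := by
  obtain ⟨h, h1, h2⟩ := F.conjE' X hX ht hc
  exact ⟨h, h1, fun x => by rw [← h2, mem_cjs]; simp [mul_assoc]⟩

omit [Finite G] in
theorem cjs_norm {X : Subgroup G} {g : G} (h : g ∈ normalizer (X : Set G)) : cjs X g = X := by
  ext x; rw [mem_cjs]; exact (mem_normalizer_iff.1 h x).symm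

/-- `T0` is a Sylow 2-subgroup of `C(t) ∩ N(E)`. -/
theorem sylT0 (Y : Subgroup G) (hY : IsPGroup 2 Y) (ht : ∀ y ∈ Y, Commute F.t y)
    (hn : Y ≤ normalizer (F.E : Set G)) : Nat.card Y ≤ 4 * Nat.card F.B := by
  have hY' : IsPGroup 2 ↥(Y ⊔ F.E) := IsPGroup.to_sup_of_normal_right' hY F.p2_E hn
  have ht' := comm_sup ht fun x hx => F.comm_E F.t_E hx
  have hn' : Y ⊔ F.E ≤ normalizer (F.E : Set G) := sup_le hn le_normalizer
  obtain ⟨h, h1, h2⟩ := F.syl' hY' ht'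
  refine (card_le_of_le (le_sup_left : Y ≤ Y ⊔ F.E)).trans ?_
  rw [← card_cjs _ h]
  rcases h2.lt_or_eq with hlt | heq
  · have := card_two_mul_le hlt
    rw [card_T] at this; omega
  · exfalso
    have hc : F.c ∈ normalizer (cjs F.E h : Set G) := by
      have : F.c ∈ cjs (Y ⊔ F.E) h := heq ▸ F.c_T
      revert this
      exact cjs_ind (p := fun x => x ∈ normalizer (cjs F.E h : Set G))
        (fun y hy => norm_cjs (hn' hy) h) _
    have hle : cjs F.E h ≤ F.T := cjs_ind fun y hy => h2 (cj_cjs h (mem_sup_right hy))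
    have hE : cjs F.E h = F.E := by
      rcases F.conjE0 hle (cjs_ind (p := fun x => x * x = 1) fun x hx => sq_cj (F.el_E hx) h)
        (by rw [card_cjs, card_E]) with e | e
      · exact e
      · rwa [cjs_norm hc] at e
    rw [hE] at hc
    exact F.cr.not_nE hc

theorem T0_nE : F.T0 ≤ normalizer (F.E : Set G) := fun x hx => by
  obtain ⟨y, hy, rfl | rfl⟩ := F.mem_T0.1 hx
  exacts [le_normalizer hy, mul_mem (le_normalizer hy) F.e_nE]

theorem memT0 {Y : Subgroup G} (hY : IsPGroup 2 Y) (hE : F.T0 ≤ Y) {y : G} (hy : y ∈ Y)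
    (ht : Commute F.t y) (hn : y ∈ normalizer (F.E : Set G)) : y ∈ F.T0 := by
  let Y' := Y ⊓ centralizer {F.t} ⊓ normalizer (F.E : Set G)
  have hm : ∀ g, g ∈ Y' ↔ (g ∈ Y ∧ Commute F.t g) ∧ g ∈ normalizer (F.E : Set G) := by
    intro g; simp [Y', mem_centralizer_iff, commute_iff_eq]
  have hle : F.T0 ≤ Y' := fun x hx => (hm x).2 ⟨⟨hE hx, F.t_T (F.T0_T hx)⟩, F.T0_nE hx⟩
  have := F.sylT0 Y' (hY.to_le (inf_le_left.trans inf_le_left)) (fun g hg => ((hm g).1 hg).1.2)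
    inf_le_right
  rw [eq_of_le_of_card_ge hle (by rwa [card_T0])]
  exact (hm y).2 ⟨⟨hy, ht⟩, hn⟩

/-- `N(E)` controls the fusion of `t` in `E`. -/
theorem ctrl {x : G} (hx : x ∈ F.E) (h : IsConj F.t x) :
    ∃ n ∈ normalizer (F.E : Set G), n⁻¹ * F.t * n = x := by
  obtain ⟨g, rfl⟩ := isConj_iff.1 h
  have hel : ∀ x ∈ cjs F.E g, x * x = 1 :=
    cjs_ind (p := fun x => x * x = 1) fun x hx => sq_cj (F.el_E hx) g
  obtain ⟨k, h1, h2⟩ := F.conjE' (cjs F.E g) hel (fun y hy => comm_of_el hel (mem_cjs.2 hx) hy)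
    (by rw [card_cjs, card_E])
  have := F.finite_E
  refine ⟨(g * k)⁻¹, inv_mem (norm_of fun y hy => ?_), ?_⟩
  · rw [← h2]
    have := cj_cjs k (cj_cjs g hy)
    simpa [mul_assoc] using this
  · calc _ = g * (k * F.t * k⁻¹) * g⁻¹ := by group
      _ = _ := by rw [← h1.eq, mul_inv_cancel_right]

/-- `N(T0)` permutes `E` and `E ^ c`. -/
theorem nT0_cases {g : G} (hg : g ∈ normalizer (F.T0 : Set G)) :
    g ∈ normalizer (F.E : Set G) ∨ g * F.c ∈ normalizer (F.E : Set G) := by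
  have hle : cjs F.E g ≤ F.T := cjs_ind fun y hy => F.T0_T (norm_cj hg (F.E_T0 hy))
  rcases F.conjE0 hle (cjs_ind (p := fun x => x * x = 1) fun x hx => sq_cj (F.el_E hx) g)
    (by rw [card_cjs, card_E]) with e | e
  · exact Or.inl (norm_of fun y hy => e ▸ cj_cjs g hy)
  · refine Or.inr (norm_of fun y hy => ?_)
    have := cj_cjs F.c (cj_cjs g hy)
    rw [e] at this
    simpa [mul_assoc] using this

end Fr
end CL.HL
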