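import Cfsg.Agent.INV.HL.N8fa

/-! S3139: the bound in the case `N8`. Notation: `x ^ g = g⁻¹ * x * g`, `~` is conjugacy in `G`. API: `HL/Defs`, `HL/Loc`, `HL/Odd`. -/

set_option autoImplicit false
set_option synthInstance.maxSize 4096
open Subgroup

namespace CL.HL
variable {G : Type*} [Group G] [Finite G] {F : Fr G}

namespace N8x
variable {R : NR F}

theorem one {Y : Subgroup G} (hY : IsPGroup 2 Y) (hle : Y1 R ≤ Y) {g : G} (hg : g ∈ Y) (hs : Commute F.s g)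
    (h : In R (g⁻¹ * F.t * g) vt) : g ∈ Y1 R := by
  obtain ⟨k, hk, e⟩ := in_t.move (by decide) h
  have h0 : F.T0 ≤ Y1 R := (closure_le _).2 (by rintro _ (rfl | rfl | rfl | rfl); exacts [tY, sY, dY, eY])
  refine (mul_mem_cancel_right (inv_mem hk)).1 (h0 (by_contra fun hn => ?_))
  have h1 : Commute F.t (g * k⁻¹) := Fr.comm_of_fix (by
    rw [show (g * k⁻¹)⁻¹ * F.t * (g * k⁻¹) = k * (g⁻¹ * F.t * g) * k⁻¹ by group, ← e]; group)
  obtain ⟨c, hc, cr, -⟩ := F.exists_c (Y ⊓ (centralizer {F.t} ⊓ centralizer {F.s})) hY.to_inf_left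
    (fun y hy => (mem_centralizer_singleton_iff.1 hy.2.1).symm) (lt_of_le_of_ne (fun x hx => ⟨hle (h0 hx),
      mem_centralizer_singleton_iff.2 (F.t_T (F.T0_T hx)).symm, mem_centralizer_singleton_iff.2 (Y_s (h0 hx)).symm⟩)
      fun e' => hn (e' ▸ mem_inf.2 ⟨mul_mem hg (inv_mem (hle hk)), mem_inf.2 ⟨mem_centralizer_singleton_iff.2
        h1.symm, mem_centralizer_singleton_iff.2 (hs.mul_right (Y_s hk).inv_right).symm⟩⟩))
  have := cr.sc R.two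
  rw [Fr.cj_fix (mem_centralizer_singleton_iff.1 hc.2.2).symm, left_eq_mul] at this
  exact F.z1 this

theorem card_c {Y : Subgroup G} (hY : IsPGroup 2 Y) (hle : Y1 R ≤ Y) (hs : ∀ y ∈ Y, Commute F.s y)
    (hz : ∀ y ∈ Y, Commute F.z y) : Nat.card Y ≤ 256 := by
  set Y3 := Y ⊓ normalizer (Y1 R : Set G) with hY3
  have ex := fun g (hg : g ∈ Y3) => exists_f hg.2 (hs g hg.1) (hz g hg.1)
  have two : ∀ a ∈ Y3, ∀ b ∈ Y3, a ∉ Y1 R → b ∉ Y1 R → a * b ∈ Y1 R := fun a ha b hb a1 b1 => by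
    obtain ⟨f, f1, -, -, -, -, -, f2⟩ := ex a ha
    obtain ⟨g, g1, g2, -, g3, g4, -, g5⟩ := ex b hb
    have f3 := f2.resolve_left fun e => a1 (one hY hle ha.1 (hs a ha.1) (e ▸ f1 _ _ in_t))
    have g6 := g5.resolve_left fun e => b1 (one hY hle hb.1 (hs b hb.1) (e ▸ g1 _ _ in_t))
    have := g1 _ _ (f1 _ _ in_t)
    rw [f3, g2, g2, g3, g4, g6, show vt + vm + vn + vm + vn = vt by decide] at this
    exact one hY hle (mul_mem ha.1 hb.1) (hs _ (mul_mem ha.1 hb.1)) (by simpa [mul_assoc] using this)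
  have c3 : Nat.card Y3 ≤ 2 * Nat.card (Y1 R) := by
    by_cases h : ∃ a ∈ Y3, a ∉ Y1 R
    · obtain ⟨a, ha, a1⟩ := h
      exact R3.card_le_two a fun y hy => or_iff_not_imp_left.2 (two a ha y hy a1)
    · exact R3.card_le_two 1 fun y hy => Or.inl (by_contra fun k => h ⟨y, hy, k⟩)
  have e3 : Y3 = Y := by_contra fun hne => by
    obtain ⟨h, hh, h3, hn⟩ := exists_norm hY (lt_of_le_of_ne inf_le_left hne)
    obtain ⟨x0, hx0, g1⟩ : ∃ x ∈ Y1 R, h⁻¹ * x * h ∉ Y1 R := by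
      by_contra! k
      exact h3 ⟨hh, Fr.norm_of k⟩
    have l3 : Y1 R ≤ Y3 := le_inf hle le_normalizer
    have g3 := norm_cj hn (l3 hx0)
    obtain ⟨f, f1, f2, f3, -, -, f4, f5⟩ := ex _ g3
    have fx : ∀ x v, In R x v → h * x * h⁻¹ ∈ Y1 R → f v = v := fun x v hx k => by
      obtain ⟨v', h1⟩ := mem_Y.1 k
      obtain ⟨v0, h0⟩ := mem_Y.1 hx0
      refine (f1 _ _ hx).uniq ?_
      have e : (h⁻¹ * x0 * h)⁻¹ * x * (h⁻¹ * x0 * h) = x * (h⁻¹ * cz F (B v' v0) * h) := by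
        calc _ = h⁻¹ * x0⁻¹ * (h * x * h⁻¹ * x0) * h := by group
          _ = _ := by rw [h1.comm h0]; group
      rw [e, Fr.cj_fix (cz_comm (hs h hh) (hz h hh) _)]
      exact hx.cz _
    have ft := f5.resolve_left fun e => g1 (one hY hle g3.1 (hs _ g3.1) (e ▸ f1 _ _ in_t))
    have key : ∀ x v, In R x v → f v = v ∨ f v + f vt = v + vt := fun x v hx => by
      refine or_iff_not_imp_left.2 fun k => (f2 _ _).symm.trans (fx _ _ (hx.mul in_t) ?_)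
      rw [← conj_mul]
      exact two _ ((mem_normalizer_iff.1 hn _).1 (l3 hx.mem)) _ ((mem_normalizer_iff.1 hn _).1 (l3 tY))
        (fun k' => k (fx _ _ hx k')) fun k' => absurd (ft.symm.trans (fx _ _ in_t k')) (by decide)
    have h1 := key _ _ in_d
    have h2 := key _ _ in_e
    rw [f2, f2] at f4
    rw [ft] at h1 h2 f4
    exact (by decide +kernel : ∀ a b : V, a = vd ∨ a + (vt + vm + vn) = vd + vt → b = ve ∨ b + (vt + vm + vn) = ve + vt →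
      β a a = β vd vd → β b b = β ve ve → vt + vm + vn + a + b ≠ vt + vd + ve) _ _ h1 h2 (f3 _) (f3 _) f4
  have := card_Y (R := R)
  rw [← e3]
  omega

def W0 (R : NR F) : Subgroup G where
  carrier := {g | In R g 0}
  mul_mem' ha hb := by simpa using In.mul ha hb
  one_mem' := in0.2 ⟨0, cz0.symm⟩
  inv_mem' := In.inv

theorem sW : F.s ∈ W0 R := in0.2 ⟨_, czs.symm⟩
theorem zW : F.z ∈ W0 R := in0.2 ⟨_, czz.symm⟩
theorem mem_W {g : G} (h : g ∈ W0 R) : g = 1 ∨ g = F.s ∨ g = F.s * F.z ∨ g = F.z := by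
  obtain ⟨a, rfl⟩ := in0.1 h
  exact (cz_cases a).imp And.left (Or.imp And.left (Or.imp And.left And.left))
theorem nW {x : G} (h1 : x⁻¹ * F.s * x ∈ W0 R) (h2 : x⁻¹ * F.z * x ∈ W0 R) : x ∈ normalizer (W0 R : Set G) :=
  Fr.norm_of fun g hg => by
    rcases mem_W hg with rfl | rfl | rfl | rfl
    exacts [by simp, h1, Fr.cj_mul x _ _ ▸ mul_mem h1 h2, h2]

end N8x

open N8x CL.MSS

/-- Proof. `W0 = {1, s, z, s z}` is central in `Y1 = closure {t, d, e, m, m'}`; every element is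
`t ^ τ e ^ ε d ^ δ m ^ μ m' ^ ν w`, `w ∈ W0`, exponents `0, 1` (a model and `decide` are
convenient; injective because the commutator form below has trivial radical). With `s1 = s`,
`s2 = s z` the square is `s1 ^ (μ (1 + τ + ε) + δ ε) s2 ^ (ν (1 + τ + δ) + δ ε)`. Modulo `W0`,
`m'` spans the elements with all commutators in `⟨s2⟩`, `m` those with commutators in `⟨s1⟩`,
`t d e` (square `z`) those with commutators in `⟨z⟩`.
(1) If `Y ≥ Y1` is a 2-group centralising `W0` and `g ∈ Y`, `t ^ g ∈ t W0`, then `g ∈ Y1`: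
`m, m'` move `t` over `t W0`, and `C_Y(t) ≥ T0` has order `≤ 32` (`(F.lc _).c8`,
`X = closure {t, s, z}`).
(2) If `g` normalises `Y1` and centralises `W0`, it fixes the cosets of `m, m', t d e`; `t ^ g`
is an involution with the same commutators with `m, m', t d e` as `t`, so lies in `t W0`,
`t m W0`, `t m' W0` or `t m m' W0`; `t m W0` and `t m' W0` are single classes,
`(t m) ^ c' = t m' ≁ t`. So `t ^ g ∈ t W0 ∪ t m m' W0`, and `|N_Y(Y1) : Y1| ≤ 2`.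
(3) Let `Y3 = N_Y(Y1)`, `h ∈ N_Y(Y3)`, `Y1 ^ h ≠ Y1`. Take `g ∈ Y1 ^ h \ Y1`;
`Y2 = Y1 ⊓ Y1 ^ h` has index 2 in `Y1` and `g` fixes its elements modulo `W0`;
`t ^ g ∈ t m m' W0`, so `t ∉ Y2` and `x ^ g ∈ x W0 ∪ x m m' W0` for `x ∈ Y1`. `d m m'`, `e m m'`
are not involutions modulo the formula, so `d ^ g ∈ d W0`, `e ^ g ∈ e W0`,
`(t d e) ^ g ∈ t d e m m' W0`, against (2). So `N_Y(Y3) = Y3 = Y`, `|Y| ≤ 256`.
(4) Let `P ≥ Y1 ⊔ ⟨c'⟩` be Sylow in `N(W0)`, `Y = C_P(W0)` of index `≤ 2`, `|P| ≤ 512`.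
`C_P(t) ≥ T0 ∪ T0 c'` has order `≤ 64` (`bT`), so an involution `ζ ∈ Z(P)` lies in `T0`
(`Cr.not_nE`), in `⟨t, s, z⟩` (`cen_T0`), commutes with `c'` and `m`: `ζ = z`. Let `S ≥ P` be
Sylow in `G`, `x ∈ N_S(P)`, `X = W0 ^ x` a normal four-subgroup of `P`: `⁅P, X⁆ ≤ ⟨z⟩`. For
`f ∈ X`: `m ^ f ∈ m ⟨z⟩` so `f` fixes `m² = s`, `f ∈ Y`, `f ∈ Y1` by (1), all commutators of the
involution `f` lie in `⟨z⟩`, so `f ∈ W0`. Thus `x ∈ N(W0)`, `x ∈ P`, `S = P`. -/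
theorem NR.bound (R : NR F) : ¬ 2 ^ 10 ∣ Nat.card G := by
  intro h10
  have cs := R.cr.sc R.two
  obtain ⟨P, hP, hle⟩ := exists_sylIn_ge (H := normalizer (W0 R : Set G)) R.p2 (sup_le
    (fun y (hy : y ∈ Y1 R) => nW ((Fr.cj_fix (Y_s hy)).symm ▸ sW) ((Fr.cj_fix (Y_z hy)).symm ▸ zW))
    (zpowers_le.2 (nW (cs ▸ mul_mem sW zW) ((Fr.cj_fix R.cr.zc).symm ▸ zW))))
  have hY : Y1 R ≤ P := le_sup_left.trans hle
  have cP : R.c' ∈ P := hle (mem_sup_right (mem_zpowers _))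
  have cen : ∀ ζ ∈ P, (∀ p ∈ P, Commute ζ p) → ζ ≠ 1 → ζ = F.z := fun ζ h hc h1 => by
    obtain ⟨v, hv⟩ := mem_Y.1 (one hP.pgroup hY h (hc _ (hY sY)).symm ((Fr.cj_fix (hc _ (hY tY)).symm).symm ▸ in_t))
    obtain rfl : v = 0 := nondeg _ _ fun x => (hv.B_eq (v := x) (a := 0) ⟨0, rfl⟩ (by
      rw [cz0, mul_one]; exact hc _ (hY (In.mem ⟨0, rfl⟩)))).trans (by revert x; decide)
    have h2 := Fr.cj_fix (hc _ cP)
    rcases mem_W (R := R) hv with e | rfl | rfl | e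
    · exact (h1 e).elim
    · exact (F.z1 (left_eq_mul.1 (h2.symm.trans cs))).elim
    · rw [Fr.cj_mul, cs, Fr.cj_fix R.cr.zc, mul_eq_left] at h2
      exact (F.z1 h2).elim
    · exact e
  have zP : ∀ p ∈ P, Commute F.z p := by
    have : Nontrivial P := ⟨⟨⟨_, hY zY⟩, 1, fun e => F.z1 (congrArg Subtype.val e)⟩⟩
    obtain ⟨⟨ζ, hζ⟩, h1⟩ := @exists_ne _ hP.pgroup.center_nontrivial 1
    have hc : ∀ p ∈ P, Commute (ζ : G) p := fun p hp => congrArg Subtype.val (mem_center_iff.1 hζ ⟨p, hp⟩).symm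
    exact cen ζ ζ.2 hc (fun e => h1 (Subtype.ext (Subtype.ext e))) ▸ hc
  have sP : ∀ p ∈ P, p⁻¹ * F.s * p = F.s ∨ p⁻¹ * F.s * p = F.s * F.z := fun p hp => by
    rcases mem_W (norm_cj (hP.le hp) sW) with e | e | e | e
    · exact (R.two (cj_eq_one.1 e)).elim
    · exact Or.inl e
    · exact Or.inr e
    · have : F.s = F.z := mul_left_cancel (mul_right_cancel (e.trans (Fr.cj_fix (zP p hp)).symm))
      exact (F.s_nV R.two (this ▸ F.z_V)).elim
  have c9 : Nat.card P ≤ 512 := by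
    have h1 := card_c (R := R) (Y := P ⊓ centralizer {F.s}) hP.pgroup.to_inf_left
      (fun y hy => ⟨hY hy, mem_centralizer_singleton_iff.2 (Y_s hy).symm⟩)
      (fun y hy => (mem_centralizer_singleton_iff.1 hy.2).symm) fun y hy => zP y hy.1
    have h2 := R3.card_le_two (X := P ⊓ centralizer {F.s}) (Y := P) R.c' fun p hp => (sP p hp).imp
      (fun e => ⟨hp, mem_centralizer_singleton_iff.2 (Fr.comm_of_fix e).symm⟩) fun e => mem_inf.2 ⟨mul_mem cP hp,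
        mem_centralizer_singleton_iff.2 (Fr.comm_of_fix (by
          rw [show (R.c' * p)⁻¹ * F.s * (R.c' * p) = p⁻¹ * (R.c'⁻¹ * F.s * R.c') * p by group, cs, Fr.cj_mul, e,
            Fr.cj_fix (zP p hp), mul_assoc, F.zz, mul_one])).symm⟩
    omega
  obtain ⟨S, hS⟩ := hP.pgroup.exists_le_sylow
  obtain ⟨x, xS, xP, hn⟩ := exists_norm S.isPGroup' (lt_of_le_of_ne hS fun e => by
    have := Nat.le_of_dvd Nat.card_pos (S.pow_dvd_card_of_pow_dvd_card h10)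
    rw [← e] at this
    omega)
  have bk : ∀ p ∈ P, x * p * x⁻¹ ∈ P := fun p => (mem_normalizer_iff.1 hn p).1
  have zx : x⁻¹ * F.z * x = F.z := cen _ (norm_cj hn (hY zY))
    (fun p hp => by simpa [mul_assoc] using comm_cj (zP _ (bk p hp)) x) fun e => F.z1 (cj_eq_one.1 e)
  obtain ⟨f, hf⟩ : ∃ f, f = x⁻¹ * F.s * x := ⟨_, rfl⟩
  have fP : f ∈ P := hf ▸ norm_cj hn (hY sY)
  have f1 : ∀ p ∈ P, f * p = p * f ∨ f * p = p * f * F.z := fun p hp => by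
    have e0 : f * p = p * (x⁻¹ * ((x * p * x⁻¹)⁻¹ * F.s * (x * p * x⁻¹)) * x) := by rw [hf]; group
    exact (sP _ (bk p hp)).imp (fun e => by rw [e0, e, hf]) fun e => by rw [e0, e, Fr.cj_mul, zx, hf, mul_assoc p]
  have f2 : ∀ p ∈ P, f⁻¹ * p * f = p ∨ f⁻¹ * p * f = p * F.z := fun p hp => (f1 p hp).imp
    (fun e => by rw [mul_assoc, ← e, inv_mul_cancel_left]) fun e => by
      rw [mul_assoc, inv_mul_eq_iff_eq_mul, ← mul_assoc, e, mul_assoc _ F.z, F.zz, mul_one]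
  have sf : Commute F.s f := Fr.comm_of_fix (by
    rw [← R.mm, Fr.cj_mul]
    rcases f2 _ (hY mY) with e | e <;> rw [e]
    rw [mul_assoc, ← mul_assoc F.z, R.zm.eq, mul_assoc, F.zz, mul_one])
  obtain ⟨v, hv⟩ := mem_Y.1 (one hP.pgroup hY fP sf (by
    rcases f2 _ (hY tY) with e | e <;> rw [e]
    exacts [in_t, czz (F := F) ▸ in_t.cz _]))
  obtain rfl : v = 0 := (by decide : ∀ v : V, β v v = 0 → (∀ y, B v y = 0 ∨ B v y = (1, 1)) → v = 0) v
    (cz_inj R (hv.sq.symm.trans (hf ▸ (sq_cj F.ss x).trans cz0.symm))) fun y =>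
      (f1 _ (hY (In.mem (u := y) ⟨0, rfl⟩))).imp (fun e => hv.B_eq ⟨0, rfl⟩ (by rw [cz0, mul_one, e]))
        fun e => hv.B_eq ⟨0, rfl⟩ (by rw [czz, e])
  exact xP (hP.max (P ⊔ zpowers x) (S.isPGroup'.to_le (sup_le hS (zpowers_le.2 xS))) le_sup_left
    (sup_le hP.le (zpowers_le.2 (nW (hf ▸ hv) (zx.symm ▸ zW)))) ▸ mem_sup_right (mem_zpowers x))

end CL.HL
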