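import Cfsg.Agent.INV.HL.Defs

/-! S3139: the relations found in the case `N8`. -/

set_option autoImplicit false
open Subgroup

namespace CL.HL
variable {G : Type*} [Group G]

/-- `Y1 = ⟨t, d, e, m, m'⟩` has order 128, centre `W0 = ⟨s, z⟩` and `Y1 / W0 ≅ 2⁵`. -/
structure NR (F : Fr G) where
  m : G
  m' : G
  c' : G
  two : F.s ≠ 1
  nB : ∀ b ∈ F.B, ¬ IsConj F.t b
  mm : m * m = F.s
  mm' : m' * m' = F.s * F.z
  cm : Commute m m'
  tm : m⁻¹ * F.t * m = F.t * F.s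
  tm' : m'⁻¹ * F.t * m' = F.t * (F.s * F.z)
  em : m⁻¹ * F.e * m = F.e * F.s
  em' : Commute F.e m'
  dm : Commute F.d m
  dm' : m'⁻¹ * F.d * m' = F.d * (F.s * F.z)
  zm : Commute F.z m
  zm' : Commute F.z m'
  cr : F.Cr c'
  mc : c'⁻¹ * m * c' = m'
  cY : c' ∈ normalizer ((closure {F.t, F.d, F.e, m, m'} : Subgroup G) : Set G)
  p2 : IsPGroup 2 ↥(closure {F.t, F.d, F.e, m, m'} ⊔ zpowers c')
  nc : ¬ IsConj F.t (F.t * m')

end CL.HL
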