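import Cfsg.Agent.INV.HL.Orba
import Cfsg.Agent.INV.JR.Count
import Cfsg.Agent.INV.HL.NR

/-! S3139: the structure of `U` in the case `N8`. Notation: `x ^ g = g⁻¹ * x * g`, `~` is
conjugacy in `G`. -/

set_option autoImplicit false
set_option linter.style.haveILetI false
set_option linter.unusedSectionVars false
open Subgroup CL.MSS CL.HL.Od CL.HL.Ob

namespace CL.HL
variable {G : Type*} [Group G] [Finite G] {F : Fr G}

namespace Ns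

theorem W0_of {g a b : G} (hs : Commute F.s g) (hz : Commute F.z g) (hd : g⁻¹ * F.d * g = F.d * a) (a1 : a ≠ 1)
    (hb : b ∈ F.B) (h : g⁻¹ * b * g = b) : b = 1 ∨ b = F.z ∨ b = F.s ∨ b = F.s * F.z := by
  obtain ⟨v, hv, rfl | rfl⟩ := F.mem_B.1 hb <;> rcases F.mem_V.1 hv with rfl | rfl | rfl | rfl
  · exact Or.inl rfl
  · exact Or.inr (Or.inl rfl)
  · rw [hd] at h; exact absurd (by simpa using h) a1
  · rw [cm, hd, fx hz] at h; exact absurd (by simpa using h) a1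
  · exact Or.inr (Or.inr (Or.inl (mul_one _)))
  · exact Or.inr (Or.inr (Or.inr rfl))
  · rw [cm, hd, fx hs] at h; exact absurd (by simpa using h) a1
  · rw [cm, cm, hd, fx hz, fx hs] at h; exact absurd (by simpa using h) a1

variable (D : N8 F)

theorem hv {u : G} (hu : u ∈ D.U) : ∃ b ∈ F.B, u⁻¹ * F.t * u = F.t * b := by
  obtain ⟨b, hb, e | e⟩ := F.mem_E.1 (cj' (D.UN hu) F.t_E)
  exacts [absurd (e ▸ icj u F.t) (D.nB b hb), ⟨b, hb, e⟩]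

theorem nB {u b : G} (hu : u ∈ D.U) (hb : b ∈ F.B) : u⁻¹ * b * u ∈ F.B := by
  rcases D.act u hu b hb with e | e <;> rw [e]
  exacts [hb, mul_mem hb F.s_B]

theorem eqE {u w : G} (hu : u ∈ D.U) (hw : w ∈ D.U) (h : u⁻¹ * F.t * u = w⁻¹ * F.t * w) : ∃ x ∈ F.E, u = w * x :=
  ⟨_, cj' (D.UN hw) (D.cU _ (mul_mem hu (inv_mem hw)) (xf (by rw [cc, h]; group))), by group⟩

theorem sqB {u : G} (hu : u ∈ D.U) : u * u ∈ F.B := by
  obtain ⟨b, hb, k | k⟩ := F.mem_E.1 (D.sqE u hu)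
  · exact k ▸ hb
  · obtain ⟨w, hw, e⟩ := D.tr b hb
    have := F.el_E (D.cU _ (cj (le_normalizer hw) hu) (xf (by
      rw [cc, cc, e, ← k, show u⁻¹ * (u * u) * u = u * u by group, k, bk e])))
    rw [show w * u * w⁻¹ * (w * u * w⁻¹) = w * (u * u) * w⁻¹ by group] at this
    rw [show u * u = 1 by simpa using this]; exact one_mem _

theorem cmB {u w : G} (hu : u ∈ D.U) (hw : w ∈ D.U) : (u * w)⁻¹ * (w * u) ∈ F.B := by
  have := mul_mem (mul_mem (inv_mem (sqB D (mul_mem hu hw))) (sqB D hu)) (nB D hu (sqB D hw))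
  rwa [show (u * w * (u * w))⁻¹ * (u * u) * (u⁻¹ * (w * w) * u) = (u * w)⁻¹ * (w * u) by group] at this

theorem c3 {u : G} (hu : u ∈ D.U) : F.ρ⁻¹ * (F.ρ⁻¹ * (F.ρ⁻¹ * u * F.ρ) * F.ρ) * F.ρ = u := by
  have := fx (F.odd_cent D.p2 D.EU D.cU F.rr.cube (pow_mem D.ρU 3) u hu).symm
  rwa [pow_three', cc, cc] at this
theorem c2 {u : G} (hu : u ∈ D.U) :
    F.e⁻¹ * (F.ρ⁻¹ * u * F.ρ) * F.e = F.ρ⁻¹ * (F.ρ⁻¹ * (F.e⁻¹ * u * F.e) * F.ρ) * F.ρ := by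
  have := fx (F.odd_cent D.p2 D.EU D.cU F.rr.sq (pow_mem (mul_mem D.eU D.ρU) 2) _ (cj' D.eU hu)).symm
  rw [sq, cc, cc, cc, ← cc F.e F.e u, F.ee, inv_one, one_mul, mul_one] at this
  rw [← this, c3 D (cj' D.eU (cj' D.ρU hu))]

theorem σc {u x y : G} (h : u⁻¹ * x * u = y) :
    (F.ρ⁻¹ * u * F.ρ)⁻¹ * (F.ρ⁻¹ * x * F.ρ) * (F.ρ⁻¹ * u * F.ρ) = F.ρ⁻¹ * y * F.ρ := by rw [← h]; group

theorem exists_y : ∃ y ∈ D.U, y⁻¹ * F.t * y = F.t * F.z * F.s ∧ Commute F.z y ∧ y⁻¹ * F.d * y = F.d * F.s ∧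
    y * (F.ρ⁻¹ * y * F.ρ) * (F.ρ⁻¹ * (F.ρ⁻¹ * y * F.ρ) * F.ρ) ∈ F.B ∧ ∃ b ∈ F.B, F.e⁻¹ * y * F.e = y * b := by
  obtain ⟨w, hw, wt, wz, wd⟩ := D.ey
  have t1 := σc (F := F) wt
  have d1 := σc (F := F) wd
  have z1 := σc (F := F) (fx wz)
  rw [cm F.ρ _ F.s, cm F.ρ F.t, fx F.tρ, fx F.sρ, F.zρ'] at t1
  rw [cm F.ρ _ F.s, fx F.sρ, F.dρ'] at d1
  rw [F.zρ'] at z1
  have t2 := σc (F := F) t1
  have z2 := σc (F := F) z1
  have d2 := σc (F := F) d1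
  rw [cm F.ρ _ F.s, cm F.ρ F.t, fx F.tρ, fx F.sρ, F.dρ'] at t2
  rw [cm F.ρ _ F.s, fx F.sρ, F.dzρ] at d2
  rw [F.dρ'] at z2
  have w3 := c3 D hw
  have e1 := c2 D hw
  have e2 := c2 D (cj' D.ρU hw)
  rw [e1, c3 D (cj' D.ρU (cj' D.eU hw))] at e2
  obtain ⟨x, hx, ex⟩ := eqE D (cj' D.eU hw) hw (by
    rw [cc, cc, fx F.te.inv_right, wt, fx ((F.te.mul_left F.ze).mul_left F.se)])
  rw [ex, cm F.ρ w x] at e1 e2
  rw [cm F.ρ (F.ρ⁻¹ * w * F.ρ)] at e1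
  have h1 := cj' D.ρU hw
  have h2 := cj' D.ρU h1
  set w1 := F.ρ⁻¹ * w * F.ρ
  set w2 := F.ρ⁻¹ * w1 * F.ρ
  have yt : (w1 * w2)⁻¹ * F.t * (w1 * w2) = F.t * F.z * F.s := by
    rw [cm w2, d2] at z2
    rw [cc, t1, cm w2, cm w2, t2, fx (D.cs _ h2), eq_mul_inv_of_mul_eq z2]; hl_w2 D.two
  obtain ⟨a, ha, ea⟩ := eqE D (mul_mem h1 h2) hw (yt.trans wt.symm)
  refine ⟨w1 * w2, mul_mem h1 h2, yt, ?_, ?_, ?_, (w1 * w2)⁻¹ * (F.e⁻¹ * (w1 * w2) * F.e), ?_, by group⟩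
  · exact ea ▸ wz.mul_right (F.comm_E (F.B_E (z_B F)) ha)
  · rw [ea, cc, wd, fx (F.comm_E (F.B_E (mul_mem (d_B F) F.s_B)) ha)]
  · rw [cm F.ρ w1 w2, w3, cm F.ρ _ w, w3]
    change w1 * w2 * (w2 * w) * (w * w1) ∈ _
    rw [show w1 * w2 * (w2 * w) * (w * w1) = w1 * w1 * (w1⁻¹ * (w2 * w2 * (w * w)) * w1) by group]
    exact mul_mem (sqB D h1) (nB D h1 (mul_mem (sqB D h2) (sqB D hw)))
  · rw [cm F.e w1 w2, e1, e2, show ∀ u v, (w1 * w2)⁻¹ * (w2 * u * (w1 * v)) =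
      (w1 * w2)⁻¹ * (w2 * w1) * (w1⁻¹ * u * w1 * v) from fun u v => by group]
    refine mul_mem (cmB D h1 h2) ?_
    obtain ⟨b, hb, rfl | rfl⟩ := F.mem_E.1 hx <;> have b1 := F.ρ_nB hb <;> have b2 := nB D h1 (F.ρ_nB b1)
    · exact mul_mem b2 b1
    · rw [cm F.ρ F.t, fx F.tρ, cm F.ρ F.t, fx F.tρ, cm w1 F.t, t1, mul_assoc F.t, mul_assoc F.t, ← mul_assoc _ F.t,
        ← (F.comm_E F.t_E (mul_mem F.t_E (F.B_E (mul_mem (mul_mem (d_B F) F.s_B) b2)))).eq, ← mul_assoc F.t, F.tt,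
        one_mul]
      exact mul_mem (mul_mem (mul_mem (d_B F) F.s_B) b2) b1

theorem tB_ne {a b c : G} (ha : a ∈ F.B) (hb : b ∈ F.B) (hc : c ∈ F.B) : F.t * a * (F.t * b) * (F.t * c) ≠ 1 := fun e => by
  rw [mul_assoc F.t a, ← mul_assoc a, ← (F.comm_E F.t_E (F.B_E ha)).eq, mul_assoc F.t a b, ← mul_assoc F.t F.t, F.tt,
    one_mul, ← mul_assoc] at e
  exact F.t_nB ((F.B.mul_mem_cancel_left (mul_mem ha hb)).1 ((F.B.mul_mem_cancel_right hc).1 (e ▸ one_mem _)))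

theorem exists_m0 : ∃ m ∈ D.U, m⁻¹ * F.t * m = F.t * F.s ∧ (∀ b ∈ F.B, Commute b m) ∧ F.ρ⁻¹ * m * F.ρ = m := by
  obtain ⟨m, hm, mt, mz, md⟩ := D.em
  have t1 := σc (F := F) mt
  rw [fx F.tρ, fx (F.tρ.mul_left F.sρ)] at t1
  obtain ⟨x, hx, ex⟩ := eqE D (cj' D.ρU hm) hm (t1.trans mt.symm)
  have k := c3 D hm
  rw [ex, cm F.ρ m x, ex, cm F.ρ (m * x), cm F.ρ m x, ex, mul_assoc m, mul_assoc m] at k
  have k := mul_eq_left.1 k
  obtain ⟨b, hb, rfl | rfl⟩ := F.mem_E.1 hx <;> have b1 := F.ρ_nB hb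
  · refine ⟨m * (F.ρ⁻¹ * x * F.ρ), mul_mem hm (D.EU (F.B_E b1)), ?_,
      fun b hb => (cB_of F (D.cs m hm) mz md b hb).mul_right (cBB F hb b1), ?_⟩
    · rw [cc, mt, fx (F.comm_E (mul_mem F.t_E (F.B_E F.s_B)) (F.B_E b1))]
    · rw [cm F.ρ m, ex, mul_assoc m, ← inv_eq_of_mul_eq_one_right k, inv_eq_of_mul_eq_one_right (F.el_E
        (F.B_E (mul_mem hb b1))), ← mul_assoc x, F.el_E hx, one_mul]
  · rw [cm F.ρ F.t, fx F.tρ, cm F.ρ F.t, fx F.tρ] at k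
    exact absurd k (tB_ne hb b1 (F.ρ_nB b1))

theorem m_e {m : G} (hm : m ∈ D.U) (mt : m⁻¹ * F.t * m = F.t * F.s) (mB : ∀ b ∈ F.B, Commute b m)
    (mρ : F.ρ⁻¹ * m * F.ρ = m) :
    (m * m = 1 ∨ m * m = F.s) ∧ (F.e⁻¹ * m * F.e = m ∨ F.e⁻¹ * m * F.e = m * F.s) := by
  have q := F.fix_ρ F.rr (sqB D hm) (xf (by rw [cm, mρ])).symm
  refine ⟨q, ?_⟩
  obtain ⟨x, hx, ex⟩ := eqE D (cj' D.eU hm) hm (by rw [cc, cc, fx F.te.inv_right, mt, fx (F.te.mul_left F.se)])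
  have k := c2 D hm
  have k2 := c3 D (cj' D.eU hm)
  rw [mρ] at k
  rw [← k, ex, cm, mρ] at k2
  have k3 := mul_left_cancel k2
  obtain ⟨b, hb, rfl | rfl⟩ := F.mem_E.1 hx
  · rcases F.fix_ρ F.rr hb (xf k3).symm with e | e <;> rw [e] at ex
    exacts [Or.inl (by rw [ex, mul_one]), Or.inr ex]
  · have : F.e⁻¹ * (m * m) * F.e = m * m := by
      rcases q with e | e <;> rw [e]
      exacts [by simp, fx F.se]
    rw [cm, ex, show m * (F.t * b) * (m * (F.t * b)) = m * m * (m⁻¹ * (F.t * b) * m * (F.t * b)) by group,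
      cm, mt, fx (mB b hb), mul_assoc _ b, ← mul_assoc b, ← (F.comm_E F.t_E (F.B_E hb)).eq, mul_assoc F.t b,
      F.el_E (F.B_E hb), mul_one, F.ts.eq, mul_assoc F.s, F.tt, mul_one] at this
    exact absurd (mul_eq_left.1 this) D.two

theorem exists_m {y b : G} (hy : y ∈ D.U) (yt : y⁻¹ * F.t * y = F.t * F.z * F.s)
    (hN : y * (F.ρ⁻¹ * y * F.ρ) * (F.ρ⁻¹ * (F.ρ⁻¹ * y * F.ρ) * F.ρ) ∈ F.B) (hb : b ∈ F.B)
    (ey : F.e⁻¹ * y * F.e = y * b) : ∃ m ∈ D.U, m⁻¹ * F.t * m = F.t * F.s ∧ (∀ b ∈ F.B, Commute b m) ∧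
      F.ρ⁻¹ * m * F.ρ = m ∧ Commute m y := by
  obtain ⟨m, hm, mt, mB, mρ, k⟩ : ∃ m ∈ D.U, m⁻¹ * F.t * m = F.t * F.s ∧ (∀ b ∈ F.B, Commute b m) ∧
      F.ρ⁻¹ * m * F.ρ = m ∧ (y⁻¹ * m * y = m ∨ y⁻¹ * m * y = m * F.s) := by
    obtain ⟨m, hm, mt, mB, mρ⟩ := exists_m0 D
    obtain ⟨k, hk, ek⟩ : ∃ k ∈ F.B, y⁻¹ * m * y = m * k := ⟨_, cmB D hy hm, by group⟩
    have ke : F.e⁻¹ * k * F.e = k := by
      have : (F.e⁻¹ * y * F.e)⁻¹ * (F.e⁻¹ * m * F.e) * (F.e⁻¹ * y * F.e) = F.e⁻¹ * m * F.e * (F.e⁻¹ * k * F.e) := by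
        rw [← cm, ← ek]; group
      rw [ey, cc] at this
      rcases (m_e D hm mt mB mρ).2 with e | e <;> rw [e] at this
      · rw [ek, fx ((mB b hb).symm.mul_left (cBB F hk hb))] at this
        exact (mul_left_cancel this).symm
      · rw [cm y, ek, fx (D.cs y hy), fx (((mB b hb).symm.mul_left (cBB F hk hb)).mul_left (cBB F F.s_B hb)),
          mul_assoc, (cBB F hk F.s_B).eq, ← mul_assoc] at this
        exact (mul_left_cancel this).symm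
    have mt' : ∀ {k}, y⁻¹ * m * y = m * k → (k * (F.t * F.z * F.s) = F.t ∨ k * (F.t * F.z * F.s) = F.t * F.s) →
        ∃ m ∈ D.U, m⁻¹ * F.t * m = F.t * F.s ∧ (∀ b ∈ F.B, Commute b m) ∧
        F.ρ⁻¹ * m * F.ρ = m ∧ (y⁻¹ * m * y = m ∨ y⁻¹ * m * y = m * F.s) := fun e h =>
      ⟨m * F.t, mul_mem hm (D.EU F.t_E), by rw [cc, mt, fx ((Commute.refl _).mul_left F.ts.symm)],
        fun b hb => (mB b hb).mul_right (F.comm_E (F.B_E hb) F.t_E), by rw [cm, mρ, fx F.tρ], by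
          rw [cm, e, yt, mul_assoc m, mul_assoc m]; exact h.imp (congrArg _) (congrArg _)⟩
    rcases F.fix_e hk (xf ke).symm with rfl | rfl | rfl | rfl
    exacts [⟨m, hm, mt, mB, mρ, Or.inl (by rw [ek, mul_one])⟩, mt' ek (Or.inr (by hl_w2 D.two)),
      ⟨m, hm, mt, mB, mρ, Or.inr ek⟩, mt' ek (Or.inl (by hl_w2 D.two))]
  refine ⟨m, hm, mt, mB, mρ, xf (k.resolve_right fun k => D.two ?_)⟩
  have k2 := σc (F := F) k
  rw [cm F.ρ m, mρ, fx F.sρ] at k2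
  have k3 := σc (F := F) k2
  rw [cm F.ρ m, mρ, fx F.sρ] at k3
  have := fx (mB _ hN).symm
  rw [cc (y * _), cc y, k, cm _ m, k2, fx (D.cs _ (cj' D.ρU hy)), mul_assoc m, F.ss, mul_one, k3] at this
  exact mul_eq_left.1 this

theorem sq_y {y : G} (hy : y ∈ D.U) (yz : Commute F.z y) (yd : y⁻¹ * F.d * y = F.d * F.s)
    (hN : y * (F.ρ⁻¹ * y * F.ρ) * (F.ρ⁻¹ * (F.ρ⁻¹ * y * F.ρ) * F.ρ) ∈ F.B) : y * y = 1 ∨ y * y = F.s := by
  have q := W0_of (D.cs y hy) yz yd D.two (sqB D hy) (by group)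
  by_contra hne
  obtain ⟨a, ha, q1⟩ : ∃ a, (a = 1 ∨ a = F.s) ∧ y * y = a * F.z := by
    rcases q with e | e | e | e
    exacts [absurd (Or.inl e) hne, ⟨1, Or.inl rfl, by rw [e, one_mul]⟩, absurd (Or.inr e) hne, ⟨_, Or.inr rfl, e⟩]
  have aρ : F.ρ⁻¹ * a * F.ρ = a := by rcases ha with rfl | rfl; exacts [by simp, fx F.sρ]
  have h2 := cj' D.ρU hy
  have h3 := cj' D.ρU h2
  have q2 := (cm F.ρ y y).symm
  have q3 := (cm F.ρ (F.ρ⁻¹ * y * F.ρ) (F.ρ⁻¹ * y * F.ρ)).symm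
  rw [q1, cm F.ρ a, aρ, F.zρ'] at q2
  rw [q2, cm F.ρ a, aρ, F.dρ'] at q3
  generalize F.ρ⁻¹ * (F.ρ⁻¹ * y * F.ρ) * F.ρ = y3 at *
  generalize F.ρ⁻¹ * y * F.ρ = y2 at *
  have k : y2⁻¹ * (y2⁻¹ * (y⁻¹ * y2 * y)) * y2 = (y2 * y2)⁻¹ * (y * y)⁻¹ *
      (y * y2 * y3 * (y3⁻¹ * (y * y2 * y3) * y3)) * (y3 * y3)⁻¹ := by group
  have k2 : y2⁻¹ * (y2⁻¹ * (y⁻¹ * y2 * y)) * y2 = 1 ∨ y2⁻¹ * (y2⁻¹ * (y⁻¹ * y2 * y)) * y2 = F.s := by
    rw [k, q1, q2, q3]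
    rcases D.act y3 h3 _ hN with e | e <;> rw [e] <;> [skip; rw [← mul_assoc (y * y2 * y3)]] <;>
      rw [F.el_E (F.B_E hN)] <;> rcases ha with rfl | rfl <;> simp only [one_mul, mul_one]
    exacts [Or.inl (by rw [← F.w_one]; hl_w), Or.inr (by hl_w2 D.two), Or.inr (by hl_w2 D.two),
      Or.inl (by rw [← F.w_one]; hl_w2 D.two)]
  have k3 : y⁻¹ * (y2 * y2) * y = y2 * y2 := by
    rw [cm]
    rcases k2 with e | e
    · rw [← inv_mul_eq_one.1 (cj_eq_one.1 e)]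
    · rw [inv_mul_eq_iff_eq_mul.1 (inj (e.trans (fx (D.cs _ h2)).symm)), mul_assoc, ← mul_assoc F.s,
        (D.cs _ h2).eq, mul_assoc, F.ss, mul_one]
  rw [q2, cm, yd] at k3
  rcases ha with rfl | rfl
  · exact D.two (by simpa using k3)
  · rw [fx (D.cs y hy)] at k3; exact D.two (by simpa using k3)

end Ns
open Ns

/-- Structure of `U` in the case `N8`.
Proof. For `u ∈ U`, `t ^ u ∈ t B`; the stabiliser of `t` is `E`, `|U| = 128`. `U` normalises `B`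
(`act`), `s` is central. `u² ∈ B`: if `u² = t b`, then `u` fixes `t b`; `t b = t ^ k`, `k ∈ U`,
so `k u k⁻¹ ∈ E`, `u ∈ E`, `u² = 1`. So `U / B` is elementary abelian, `B / ⟨s⟩` is central in
`U / ⟨s⟩`. `ρ ^ 3`, `(e ρ)²` centralise `U` (`odd_cent`). With `y0` from `ey` put
`y1 = y0 ^ ρ * y0 ^ ρ²` (acts on `E` like `y0`), `y2 = y1 ^ ρ`, `y3 = y2 ^ ρ`; `y1 y2 y3 ∈ B`,
`y1 ^ e ∈ y1 B`, `y2 ^ e ∈ y3 B = y1 y2 B`. The coset `m0 E` (`m0` from `em`) has 16 elements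
and is `ρ`-invariant, so contains `m` commuting with `ρ`; `m` centralises `B`, `t ^ m = t s`,
`m² ∈ {1, s}`, `(m t)² = m² s`, and `m ^ e ∈ {m, m s}` (`m ^ e ∈ m C_E(ρ)`, compare squares).
`k = ⁅m, y1⁆ ∈ B` is fixed by `e` modulo `s`, so `k ∈ {1, z, s, s z}`; replacing `m` by `m t`
(`⁅t, y1⁆ = z s`) `k ∈ {1, s}`; then `⁅m, yi⁆ = k` for all `i`, `k³ = ⁅m, y1 y2 y3⁆ = 1`. So `m`
commutes with `y1, y2`. `y1² ∈ C_B(y1) = ⟨s, z⟩`; if `y1² ∈ z ⟨s⟩` then `y2² ∈ d ⟨s⟩`,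
`y3² ∈ d z ⟨s⟩`, so `⁅y1, y2⁆ ∈ ⟨s⟩` is central and `⁅y1, y2²⁆ = 1`, against `d ^ y1 = d s`.
So `w² ∈ ⟨s⟩` for all `w ∈ y1 B`. `Y1 = {u, u e | u ∈ U, t ^ u ∈ t ⟨s, z⟩} = T0 ⟨m, y1⟩` is a
2-group of order 128 normalising `T0` and `E`; take `c'` from `cprime`, `m' = m ^ c' ∈ Y1`:
`t ^ m' = t s z`, `m'` commutes with `z, s, e`, `m' ∈ y1 E ∪ y1 E e`, so `d ^ m' ∈ {d s, d s z}`,
while `⁅m', d⁆ = ⁅m, e⁆ ^ c' ∈ {1, s z}`. So `e ^ m = e s`, `d ^ m' = d s z`, `m' = w t ^ i e`,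
`w ∈ y1 B` commuting with `e`. If `i = 0`, `⁅m, m'⁆ = s`, and conjugating by `c'`
(`m ^ (c'²) = m ^ (d e) = m s`) gives `⁅m', m⁆ = s z`, absurd. So `i = 1`, `⁅m, m'⁆ = s s = 1`,
`m'² = w² z s ∈ {1, s z}` (it is `(m²) ^ c'`), so `w² = 1`, `m'² = s z`, `m² = s`.
`Y1 = closure {t, d, e, m, m'}`. Finally `e ^ y2 = e w b = m' t b` with `b ∈ B` is an
involution; `(m' t d)² = s z`, so `b ∈ ⟨s, z⟩`, and `m' t ⟨s, z⟩` is one class under `m, t`;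
so `t m' ~ e ~ z ≁ t`. -/
theorem N8.rel (D : N8 F) : Nonempty (NR F) := by
  have h2 := D.two
  obtain ⟨y, hy, yt, yz, yd, hN, b, hb, ey⟩ := exists_y D
  obtain ⟨m, hm, mt, mB, mρ, my⟩ := exists_m D hy yt hN hb ey
  obtain ⟨mq, me⟩ := m_e D hm mt mB mρ
  have yq := sq_y D hy yz yd hN
  have pe : IsPGroup 2 (zpowers F.e) := isPGroup_zpowers (k := 1) (by rw [pow_one, sq, F.ee])
  set Y := (D.U ⊔ zpowers F.e) ⊓ normalizer (F.T0 : Set G) with hY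
  have pY : IsPGroup 2 Y := (isPGroup_sup_of_normalizes' D.p2 pe (zpowers_le.2 D.eU)).to_inf_left
  have YE : Y ≤ normalizer (F.E : Set G) := inf_le_left.trans (sup_le D.UN (zpowers_le.2 F.e_nE))
  have TY : F.T0 ≤ Y := le_inf (fun x hx => by
    obtain ⟨w, hw, rfl | rfl⟩ := F.mem_T0.1 hx
    exacts [mem_sup_left (D.EU hw), mul_mem_sup (D.EU hw) (mem_zpowers _)]) le_normalizer
  have eu : ∀ {u x : G}, F.e⁻¹ * u * F.e = u * x → u⁻¹ * F.e * u = x * F.e := fun {u x} e => by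
    calc _ = u⁻¹ * (F.e⁻¹ * u * F.e) * F.e⁻¹ := by nth_rewrite 1 [← ei F]; group
      _ = _ := by rw [e, inv_mul_cancel_left, ei]
  have UY : ∀ u ∈ D.U, ∀ x ∈ F.B, F.e⁻¹ * u * F.e = u * x → u ∈ Y := fun u hu x hx e => by
    haveI := F.finite_T0
    refine ⟨mem_sup_left hu, Fr.norm_of fun g hg => ?_⟩
    obtain ⟨w, hw, rfl | rfl⟩ := F.mem_T0.1 hg
    · exact F.E_T0 (cj' (D.UN hu) hw)
    · rw [cm, eu e]; exact mul_mem (F.E_T0 (cj' (D.UN hu) hw)) (mul_mem (F.E_T0 (F.B_E hx)) F.e_T0)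
  have mY : m ∈ Y := me.elim (fun e => UY m hm 1 (one_mem _) (by rw [e, mul_one])) (UY m hm _ F.s_B)
  have yY := UY y hy b hb ey
  have ymt : (y * m)⁻¹ * F.t * (y * m) = F.t * F.z := by
    rw [cc, yt, cm, cm, mt, fx (mB _ (z_B F)), fx (mB _ F.s_B)]; hl_w2 h2
  have cls : ∀ g ∈ Y, ∃ b, (b = 1 ∨ b = F.z ∨ b = F.s ∨ b = F.s * F.z) ∧ g⁻¹ * F.t * g = F.t * b := fun g hg => by
    have c : ∀ x ∈ F.T0, Commute x (g⁻¹ * F.t * g) := fun x hx => by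
      simpa [mul_assoc] using comm_cj (F.t_T (F.T0_T (cj hg.2 hx))).symm g
    obtain ⟨b, hb, e | e⟩ := F.cen_T0 (cj' hg.2 (F.E_T0 F.t_E)) (c _ (F.E_T0 (F.B_E (d_B F)))) (c _ F.e_T0)
    · refine absurd (e ▸ icj g F.t) (D.nB b ?_)
      rcases hb with rfl | rfl | rfl | rfl
      exacts [one_mem _, z_B F, F.s_B, mul_mem F.s_B (z_B F)]
    · exact ⟨b, hb, e⟩
  have eqT : ∀ g ∈ Y, ∀ u ∈ Y, g⁻¹ * F.t * g = u⁻¹ * F.t * u → g * u⁻¹ ∈ F.T0 := fun g hg u hu e =>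
    F.memT0 pY TY (mul_mem hg (inv_mem hu)) (xf (by rw [cc, e]; group)) (YE (mul_mem hg (inv_mem hu)))
  have sz : F.s ≠ F.z := fun e => F.s_nV h2 (e ▸ F.z_V)
  have sz1 : F.s * F.z ≠ 1 := fun e => F.s_nV h2 ((F.V.mul_mem_cancel_right F.z_V).1 (e ▸ one_mem _))
  have cY : Nat.card Y = 128 := by
    have h := CL.JR.card_inf_mul_ncard_conj Y F.t
    have e1 : Y ⊓ centralizer {F.t} = F.T0 := le_antisymm
      (fun u hu => F.memT0 pY TY hu.1 (mem_centralizer_singleton_iff.1 hu.2).symm (YE hu.1))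
      fun x hx => ⟨TY hx, mem_centralizer_singleton_iff.2 (F.t_T (F.T0_T hx)).symm⟩
    have e2 : {y | ∃ a ∈ Y, a * F.t * a⁻¹ = y} = (fun v => F.t * v) '' {1, F.z, F.s, F.s * F.z} := by
      ext x
      constructor
      · rintro ⟨a, ha, rfl⟩
        obtain ⟨v, hv, e⟩ := cls _ (inv_mem ha)
        exact ⟨v, hv, by simpa using e.symm⟩
      · rintro ⟨v, rfl | rfl | rfl | rfl, rfl⟩
        exacts [⟨1, one_mem _, by simp⟩, ⟨_, inv_mem (mul_mem yY mY), by rw [inv_inv, ymt]⟩,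
          ⟨_, inv_mem mY, by rw [inv_inv, mt]⟩, ⟨_, inv_mem yY, by rw [inv_inv, yt, mul_assoc, F.sz.eq]⟩]
    rw [e1, e2, Set.ncard_image_of_injective _ (mul_right_injective _), F.card_T0, F.card_B h2,
      Set.ncard_insert_of_notMem (by simp [F.z1.symm, h2.symm, sz1.symm]),
      Set.ncard_insert_of_notMem (by simp [sz.symm, h2]), Set.ncard_pair (by simp [F.z1])] at h
    omega
  obtain ⟨c, cr, cn, cp⟩ := F.cprime h2 D.nB pY TY inf_le_right YE cY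
  have m'Y := cj' cn mY
  have cc' : ∀ {x u : G}, m⁻¹ * x * m = u → (c⁻¹ * m * c)⁻¹ * (c⁻¹ * x * c) * (c⁻¹ * m * c) = c⁻¹ * u * c :=
    fun h => by rw [← h]; group
  have t' := cc' mt
  have z' := cc' (fx (mB _ (z_B F)))
  have s' := cc' (fx (mB _ F.s_B))
  have e' := cc' (fx (mB _ (d_B F)))
  have q' := (cm c m m).symm
  have m2 : c⁻¹ * (c⁻¹ * m * c) * c = F.e⁻¹ * m * F.e := by rw [← cc, cr.cc, cc, fx (mB _ (d_B F)).symm]
  have d' : F.e⁻¹ * m * F.e = m ∧ (c⁻¹ * m * c)⁻¹ * F.d * (c⁻¹ * m * c) = F.d ∨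
      F.e⁻¹ * m * F.e = m * F.s ∧ (c⁻¹ * m * c)⁻¹ * F.d * (c⁻¹ * m * c) = F.d * (F.s * F.z) :=
    me.imp (fun e => ⟨e, by rw [← cr.ec]; exact cc' (fx (xf e).symm)⟩) fun e => ⟨e, by
      have := cc' (eu e)
      rw [cm c F.s, cr.ec, cr.sc h2] at this
      rw [this]; hl_w2 h2⟩
  have mm' : ∀ {u}, m⁻¹ * (c⁻¹ * m * c) * m = u → (c⁻¹ * m * c)⁻¹ * (F.e⁻¹ * m * F.e) * (c⁻¹ * m * c) = c⁻¹ * u * c :=
    fun h => m2 ▸ cc' h
  rw [cm c F.t, fx cr.tc, cr.sc h2] at t'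
  rw [fx cr.zc] at z'
  rw [cr.sc h2, cm, z'] at s'
  rw [cr.dc, cm, z'] at e'
  replace s' := mul_right_cancel s'
  replace e' := mul_right_cancel e'
  obtain ⟨m', hm'⟩ : ∃ m', c⁻¹ * m * c = m' := ⟨_, rfl⟩
  rw [hm'] at m'Y t' z' s' e' q' m2 d' mm'
  obtain ⟨x, hx, k | k⟩ := F.mem_T0.1 (eqT _ m'Y _ yY (by rw [t', yt, mul_assoc, F.sz.eq])) <;>
    replace k := mul_inv_eq_iff_eq_mul.1 k <;> have kd := cc x y F.d
  · rw [← k, fx (F.comm_E (F.B_E (d_B F)) hx), yd] at kd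
    rcases d' with ⟨-, e⟩ | ⟨-, e⟩ <;> rw [e] at kd
    exacts [absurd (mul_eq_left.1 kd.symm) h2, absurd (by simpa using kd) F.z1]
  replace kd := cc (x * F.e) y F.d
  rw [← k, cc x, fx (F.comm_E (F.B_E (d_B F)) hx), de, cm, yd, fx yz, mul_assoc F.d] at kd
  obtain ⟨em, dm'⟩ := d'.resolve_left fun e => sz1 (mul_eq_left.1 (kd.symm.trans e.2))
  have em2 : m⁻¹ * F.e * m = F.e * F.s := by rw [eu em, F.se.eq]
  have k1 : m' = y * (y⁻¹ * x * y * b) * F.e := by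
    calc m' = x * (F.e⁻¹ * y * F.e) * F.e⁻¹ := by rw [k]; nth_rewrite 1 [← ei F]; group
      _ = _ := by rw [ey, ei]; group
  obtain ⟨b', hb', k2 | k2⟩ := F.mem_E.1 (mul_mem (cj' (D.UN hy) hx) (F.B_E hb)) <;> rw [k2] at k1 <;>
    have mw := my.mul_right (mB _ hb').symm
  · have a : m⁻¹ * m' * m = m' * F.s := by rw [k1, cm, fx mw.symm, em2, ← mul_assoc]
    have a2 := mm' a
    rw [cm c, m2, em, cr.sc h2, cm, s'] at a2
    have a3 : m'⁻¹ * m * m' * F.s = m := by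
      calc _ = m'⁻¹ * m * (m' * F.s) := by group
        _ = _ := by rw [← a]; group
    rw [a3, mul_assoc m, ← mul_assoc F.s, F.ss, one_mul] at a2
    exact absurd (mul_eq_left.1 a2.symm) F.z1
  rw [(F.comm_E F.t_E (F.B_E hb')).eq, ← mul_assoc] at k1
  have wt : (y * b')⁻¹ * F.t * (y * b') = F.t * F.z * F.s := by
    rw [cc, yt, fx (F.comm_E (mul_mem (mul_mem F.t_E (F.B_E (z_B F))) (F.B_E F.s_B)) (F.B_E hb'))]
  have wq : y * b' * (y * b') = 1 ∨ y * b' * (y * b') = F.s := by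
    rw [show y * b' * (y * b') = y * y * (y⁻¹ * b' * y * b') by group]
    rcases D.act y hy _ hb' with e | e <;> rw [e] <;> [skip; rw [(cBB F hb' F.s_B).eq, mul_assoc F.s]] <;>
      rw [F.el_E (F.B_E hb')] <;> rcases yq with f | f <;> simp [f, F.ss]
  have yw : y = y * b' * b' := by rw [mul_assoc, F.el_E (F.B_E hb'), mul_one]
  generalize y * b' = w at *
  have we : Commute F.e w := by
    rw [show w = m' * F.e⁻¹ * F.t⁻¹ by rw [k1]; group]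
    exact ((xf e').mul_right (Commute.refl _).inv_right).mul_right F.te.symm.inv_right
  have cmm : Commute m m' := (xf (by
    rw [k1, cm, cm, fx mw.symm, mt, em2, mul_assoc w, mul_assoc w]; exact congrArg _ (by hl_w2 h2))).symm
  have q2 : m' * m' = w * w * (F.s * F.z) := by
    calc _ = w * w * (w⁻¹ * F.t * w * (w⁻¹ * F.e * w) * (F.t * F.e)) := by rw [k1]; group
      _ = _ := by rw [wt, fx we]; exact congrArg _ (by hl_w2 h2)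
  have mq' : m * m = F.s := mq.resolve_left fun e => by
    rw [e, q2] at q'
    rcases wq with f | f <;> rw [f] at q'
    · exact sz1 (by simpa using q')
    · rw [← mul_assoc, F.ss] at q'; exact F.z1 (by simpa using q')
  rw [mq', cr.sc h2] at q'
  have ww : w * w = 1 := mul_eq_right.1 (q2.symm.trans q')
  have cl : closure {F.t, F.d, F.e, m, m'} = Y := by
    refine le_antisymm ((closure_le _).2 ?_) fun g hg => ?_
    · rintro _ (rfl | rfl | rfl | rfl | rfl)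
      exacts [TY (F.E_T0 F.t_E), TY (F.E_T0 (F.B_E (d_B F))), TY F.e_T0, mY, m'Y]
    generalize hK : closure {F.t, F.d, F.e, m, m'} = K
    obtain ⟨a1, a2, a3, a4, a5⟩ : F.t ∈ K ∧ F.d ∈ K ∧ F.e ∈ K ∧ m ∈ K ∧ m' ∈ K := by
      rw [← hK]; refine ⟨?_, ?_, ?_, ?_, ?_⟩ <;> exact subset_closure (by simp)
    have T : F.T0 ≤ K := (closure_le _).2 (by
      rintro _ (rfl | rfl | rfl | rfl); exacts [a1, mq' ▸ mul_mem a4 a4, a2, a3])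
    have yK : y ∈ K := yw ▸ mul_mem ((K.mul_mem_cancel_right a1).1 ((K.mul_mem_cancel_right a3).1 (k1 ▸ a5)))
      (T (F.E_T0 (F.B_E hb')))
    have f : ∀ u ∈ Y, u ∈ K → g⁻¹ * F.t * g = u⁻¹ * F.t * u → g ∈ K := fun u hu uK e =>
      (K.mul_mem_cancel_right (inv_mem uK)).1 (T (eqT g hg u hu e))
    obtain ⟨v, rfl | rfl | rfl | rfl, e⟩ := cls g hg
    exacts [f 1 (one_mem _) (one_mem _) (by rw [e]; simp), f _ (mul_mem yY mY) (mul_mem yK a4) (e.trans ymt.symm),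
      f _ mY a4 (e.trans mt.symm), f _ m'Y a5 (e.trans t'.symm)]
  refine ⟨⟨m, m', c, h2, D.nB, mq', q', cmm, mt, t', em2, xf e', mB _ (d_B F), dm', mB _ (z_B F), xf z', cr, hm',
    cl ▸ cn, cl ▸ cp, fun hc => F.nc_z ?_⟩⟩
  have y2 := cj' D.ρU hy
  have ey2 := c2 D hy
  rw [ey, cm F.ρ y b, cm F.ρ (F.ρ⁻¹ * y * F.ρ)] at ey2
  have b2 := F.ρ_nB (F.ρ_nB hb)
  generalize F.ρ⁻¹ * (F.ρ⁻¹ * b * F.ρ) * F.ρ = b3 at *
  generalize F.ρ⁻¹ * (F.ρ⁻¹ * y * F.ρ) * F.ρ = y3 at *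
  generalize F.ρ⁻¹ * y * F.ρ = u at *
  have g0 : m' * F.t = w * F.e := by rw [k1, mul_assoc, ← F.te.eq, mul_assoc, ← mul_assoc F.t, F.tt, one_mul]
  obtain ⟨v, hv, ev⟩ : ∃ v ∈ F.B, u⁻¹ * F.e * u = m' * F.t * v := by
    have := mul_mem (mul_mem (mul_mem (mul_mem hb' (nB D hy (inv_mem (sqB D y2)))) (inv_mem (sqB D hy))) hN) b2
    refine ⟨_, F.e_nB this, ?_⟩
    rw [eu (x := u⁻¹ * (y3 * b3)) (by rw [ey2]; group), g0, mul_assoc w, ← mul_assoc F.e, ← mul_assoc F.e, F.ee,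
      one_mul, ← mul_assoc w, mul_left_inj, ← mul_assoc w, ← mul_assoc w, ← mul_assoc w, ← mul_assoc w, ← yw]
    group
  have gg : m' * F.t * (m' * F.t) = 1 := by rw [g0, mul_assoc, ← mul_assoc F.e, we.eq, mul_assoc, F.ee, mul_one, ww]
  have hv' := W0_of (g := m' * F.t) ((xf s').mul_right F.ts.symm) ((xf z').mul_right F.tz.symm)
    (by rw [cc, dm', fx (F.comm_E (F.B_E (mul_mem (d_B F) (mul_mem F.s_B (z_B F)))) F.t_E)]) sz1 hv (by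
      have := sq_cj F.ee u
      rw [ev] at this
      rw [inv_eq_of_mul_eq_one_right gg, eq_inv_of_mul_eq_one_left (by rw [← this]; group : m' * F.t * v * (m' * F.t) * v = 1),
        inv_eq_of_mul_eq_one_right (F.el_E (F.B_E hv))])
  have j1 : F.t * m' = m' * F.t * (F.s * F.z) := by rw [mul_assoc, ← t']; group
  have j2 : m⁻¹ * (m' * F.t) * m = m' * F.t * F.s := by rw [cm, fx cmm.symm, mt, mul_assoc]
  have j3 : IsConj (F.t * m') (m' * F.t) := isConj_iff.2 ⟨m', by group⟩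
  refine (hc.trans ?_).trans ((F.cj_e.trans (ev ▸ icj u F.e)).symm)
  rcases hv' with rfl | rfl | rfl | rfl
  · rwa [mul_one]
  · have := icj m (F.t * m')
    rwa [j1, cm m, j2, fx ((mB _ F.s_B).mul_left (mB _ (z_B F))), mul_assoc _ F.s, ← mul_assoc F.s, F.ss, one_mul,
      ← j1] at this
  · exact j3.trans (j2 ▸ icj m _)
  · rw [j1]

end CL.HL
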