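import Cfsg.Agent.INV.HL.T8fc

/-! S3139: the case `A ≅ 4³`. -/

set_option autoImplicit false
open Subgroup

namespace CL.HL
variable {G : Type*} [Group G] [Finite G] {F : Fr G}

namespace Cu
variable {D : T8 F} (C : Cu D)
open Fr

include C in
/-- (δ) -/
theorem sylB {Y : Subgroup G} (hY : IsPGroup 2 Y) (hU : D.U ≤ Y)
    (hc : ∀ y ∈ Y, ∀ b ∈ F.B, Commute b y) : Y ≤ D.U := by
  by_contra hne
  obtain ⟨h, hU, hT, hB, a, ha, e, h1⟩ := C.exists_h hY (lt_of_le_not_ge hU hne) hc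
  have my := mul_mem C.hm C.hy
  have e0 : C.m * C.y * (C.m * C.y) = F.s * F.z := by rw [C.sqm C.hm C.hy, C.mm, C.yy]
  have j0 : IsConj F.t (F.t * a) := icj h e
  have j1 : IsConj F.t (F.t * C.m) := by
    rcases h1 with h1 | h1
    · exact j0.trans (C.cls C.hm ha (by rw [h1, C.mm]))
    · exact (j0.trans (C.cls my ha (by rw [h1, e0]))).trans C.hc.symm
  have j2 : ∀ a ∈ C.A, a * a = F.s ∨ a * a = F.s * F.z → IsConj F.t (F.t * a) := by
    rintro a ha (h | h)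
    · exact j1.trans (C.cls ha C.hm (by rw [h, C.mm]))
    · exact (j1.trans C.hc).trans (C.cls ha my (by rw [h, e0]))
  have szz : F.s * F.z * F.z = F.s := by rw [mul_assoc, F.zz, mul_one]
  obtain ⟨n, nU, nT, y', hy', e1, e2⟩ := C.exists_n ((j2 _ (mul_mem ha (C.nA hU C.hy)) (by
    rw [C.sqm ha (C.nA hU C.hy), C.cjsq hB C.hy, C.yy]
    rcases h1 with h1 | h1 <;> rw [h1]
    exacts [Or.inr rfl, Or.inl szz])).trans (icj h (by rw [cj_mul, e, mul_assoc])).symm)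
  have dB := F.V_B F.d_V
  have zB := F.V_B F.z_V
  have nz : n⁻¹ * F.z * n = F.z := by
    have h0 : F.z = F.e * F.d * F.e * F.d := by hl_w
    have hd := C.nB nU dB
    have h2 : n⁻¹ * F.z * n = n⁻¹ * F.e * n * (n⁻¹ * F.d * n) * (n⁻¹ * F.e * n) * (n⁻¹ * F.d * n) := by
      conv_lhs => rw [h0]
      group
    have h3 := sq_cj F.ee n
    have h4 : n⁻¹ * F.z * n ≠ 1 := fun h => F.z1 (cj_eq_one.1 h)
    rw [h2] at h4 ⊢
    generalize n⁻¹ * F.d * n = d' at hd h4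
    rcases D.dec_TE (norm_cj nT D.e_TE) with h | ⟨u, hu, h⟩
    · exfalso; apply h4
      rw [← (D.cB _ h _ hd).eq, mul_assoc d', h3, mul_one, bb hd]
    · have h5 : n⁻¹ * F.e * n * d' * (n⁻¹ * F.e * n) = F.e * d' * F.e := by
        nth_rewrite 1 [← inv_eq_of_mul_eq_one_right h3]
        rw [h, mul_inv_rev, F.e_inv]
        calc _ = F.e * (u⁻¹ * d' * u) * F.e := by group
          _ = _ := by rw [cj_fix (D.cB u hu _ hd)]
      rw [h5] at h4 ⊢
      exact (be D.two hd).resolve_left h4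
  have cz := comm_of_fix nz
  rcases F.fix_e (C.nB nU F.s_B) (by
    simpa [mul_assoc] using comm_cj (TE_W (norm_cj (inv_mem nT) D.e_TE) F.s_B F.se).symm n)
    with e3 | e3 | e3 | e3
  · exact D.two (cj_eq_one.1 e3)
  · rw [← nz] at e3
    exact F.s_nV D.two ((by simpa using e3 : F.s = F.z) ▸ F.z_V)
  · exact C.gam (inv_mem nU) (inv_mem nT) (comm_of_fix e3).inv_right cz.inv_right hy'
      (by rw [inv_inv, e1]) e2
  · obtain ⟨b, hb, e4⟩ := C.sq_eq (C.nA hU hy') hy' (C.cjsq hB hy')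
    have hB' : ∀ b ∈ F.B, Commute b (n⁻¹ * h * n) := fun b hb => by
      simpa [mul_assoc] using comm_cj (hB _ (C.nB (inv_mem nU) hb)) n
    have nn : ∀ {H : Subgroup G}, n ∈ H → h ∈ H → n⁻¹ * h * n ∈ H := fun h1 h2 =>
      mul_mem (mul_mem (inv_mem h1) h2) h1
    have ab' := mul_mem ha (C.hB hb)
    have e5 : (n⁻¹ * h * n)⁻¹ * F.t * (n⁻¹ * h * n) = F.t * (n⁻¹ * (a * b) * n) := by
      calc _ = n⁻¹ * (h⁻¹ * (n * F.t * n⁻¹) * h) * n := by group
        _ = n⁻¹ * (F.t * y' * (a * b)) * n := by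
            rw [e1, cj_mul h, e, e4, mul_assoc F.t, mul_assoc F.t, ← mul_assoc a, (C.ab ha hy').eq,
              mul_assoc y']
        _ = _ := by rw [← e1]; group
    refine C.gam (mul_mem hU (nn nU hU)) (mul_mem hT (nn nT hT))
      ((hB _ F.s_B).mul_right (hB' _ F.s_B)) ((hB _ zB).mul_right (hB' _ zB))
      (mul_mem (C.nA nU ab') (C.nA (nn nU hU) ha)) ?_ ?_
    · calc _ = (n⁻¹ * h * n)⁻¹ * (h⁻¹ * F.t * h) * (n⁻¹ * h * n) := by group
        _ = _ := by rw [e, cj_mul, e5, mul_assoc]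
    · rw [C.sqm (C.nA nU ab') (C.nA (nn nU hU) ha), C.cjsq hB' ha, ← cj_mul, C.sqm ha (C.hB hb),
        bb hb, mul_one]
      have h2 := D.two
      rcases h1 with h1 | h1 <;> rw [h1]
      · rw [e3]; hl_w2 h2
      · rw [cj_mul, e3, nz]; hl_w2 h2

theorem card_A : Nat.card C.A ≤ 64 := by
  let φ : C.A →* F.B := MonoidHom.mk' (fun a => ⟨a * a, C.hs a a.2⟩)
    fun a b => Subtype.ext (C.sqm a.2 b.2)
  have h1 := φ.ker.card_mul_index
  have h2 : Nat.card φ.ker ≤ Nat.card F.B := Nat.card_le_card_of_injective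
    (fun x => ⟨x.1.1, C.invB x.1.2 (congrArg Subtype.val (MonoidHom.mem_ker.1 x.2))⟩)
    fun x y h => Subtype.ext (Subtype.ext (Subtype.mk.inj h))
  have h3 := card_le_card_group φ.range
  rw [index_ker] at h1
  rw [F.card_B D.two] at h2 h3
  nlinarith

include C in
theorem card_U : Nat.card D.U ≤ 128 := by
  have hi : (C.A.subgroupOf D.U).index = 2 := by
    rw [index_eq_two_iff']
    refine ⟨⟨F.t, D.EU F.t_E⟩, fun b => ?_⟩
    simp only [mem_subgroupOf, coe_mul]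
    rcases C.hd b b.2 with h | h
    · exact Or.inr ⟨h, fun h' => C.tA ((mul_mem_cancel_right h).1 h')⟩
    · exact Or.inl ⟨h, fun h' => C.tA ((mul_mem_cancel_right h').1 h)⟩
  have := (C.A.subgroupOf D.U).card_mul_index
  rw [hi, Nat.card_congr (subgroupOfEquivOfLe C.hU).toEquiv] at this
  have := C.card_A
  omega

include C in
theorem bound : ¬ 2 ^ 11 ∣ Nat.card G := by
  have UB : D.U ≤ normalizer (F.B : Set G) := fun u hu => norm_of_comm (D.cB u hu)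
  obtain ⟨P, hP, hUP, hPN, hcj⟩ := exists_syl D.p2 UB
  have hC : P ⊓ centralizer (F.B : Set G) ≤ D.U :=
    C.sylB (hP.to_le inf_le_left) (fun u hu => ⟨hUP hu, D.cB u hu⟩) fun y hy => hy.2
  have PU : P ≤ normalizer (D.U : Set G) := fun p hp => norm_of fun u hu =>
    hC ⟨P.mul_mem (P.mul_mem (P.inv_mem hp) (hUP hu)) hp, fun b hb => by
      simpa [mul_assoc] using (comm_cj (D.cB u hu _ (norm_cj (inv_mem (hPN hp)) hb)) p).eq⟩
  refine not_dvd_of_max hP ?_ fun S hS hPS x hx hxP => ?_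
  · have h1 := card_le_cent (fun b hb => bb hb) (F.card_B D.two) hP hPN
    have h2 := card_le_of_le hC
    have := C.card_U
    omega
  have nB' : ∀ p ∈ P, ∀ f ∈ cjs F.B x, p⁻¹ * f * p ∈ cjs F.B x := fun p hp f hf => by
    have := norm_cjs (hPN (norm_cj (inv_mem hxP) hp)) x
    exact norm_cj (by simpa [mul_assoc] using this) hf
  have el : ∀ f ∈ cjs F.B x, f * f = 1 :=
    cjs_ind (p := fun x => x * x = 1) fun b hb => sq_cj (bb hb) x
  have hle : cjs F.B x ≤ F.B := fun f hf => by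
    have fP : f ∈ P := cjs_ind (p := fun f => f ∈ P)
      (fun b hb => norm_cj hxP (hUP (C.hU (C.hB hb)))) f hf
    have cm : ∀ a ∈ C.A, a⁻¹ * (f⁻¹ * a * f) ∈ cjs F.B x := fun a ha => by
      have := mul_mem (nB' a (hUP (C.hU ha)) _ (inv_mem hf)) hf
      simpa [mul_assoc] using this
    have fU : f ∈ D.U := hC ⟨fP, fun b hb => by
      obtain ⟨a, ha, rfl⟩ := C.hs' b hb
      have h1 := el _ (cm a ha)
      rw [C.sqm (inv_mem ha) (C.nA (PU fP) ha), ← cj_mul, ← mul_inv_rev, inv_mul_eq_one] at h1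
      exact (comm_of_fix h1.symm).eq⟩
    rcases C.decU fU with h | ⟨a0, h, rfl⟩
    · exact C.invB h (el f hf)
    · have h1 : F.B ≤ cjs F.B x := fun b hb => by
        obtain ⟨a, ha, rfl⟩ := C.hs' b hb
        have := cm _ (inv_mem ha)
        have h2 : (F.t * a0)⁻¹ * a⁻¹ * (F.t * a0) = a := by
          rw [inv_eq_of_mul_eq_one_right (C.ta_sq h), mul_assoc, ← mul_assoc a⁻¹, C.it ha]
          calc _ = (F.t * a0 * F.t) * a * a0 := by group
            _ = _ := by rw [C.hi a0 h, cj_fix (C.ab ha h)]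
        rwa [h2, inv_inv] at this
      rw [← eq_of_le_of_card_ge h1 (by rw [card_cjs])] at hf
      exact hf
  have xB : x ∈ normalizer (F.B : Set G) := norm_of fun b hb => hle (cj_cjs x hb)
  obtain ⟨k, -, hk⟩ := hcj (P ⊔ zpowers x) (hS.to_le (sup_le hPS (zpowers_le.2 hx)))
    (sup_le hPN (zpowers_le.2 xB))
  have := card_le_of_le hk
  rw [card_cjs] at this
  rw [eq_of_le_of_card_ge (le_sup_left : P ≤ P ⊔ zpowers x) this]
  exact mem_sup_right (mem_zpowers x)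

end Cu

/-- The case `A ≅ 4³` inverted by `t`.
Basics. `A` is abelian, `t ∉ A`, squaring is a homomorphism `A → B`, onto, with kernel `B`
(`cU`); `|A| = 64`, `|U| = 128`, `TE = U ∪ U e` has order 256; `t A` consists of involutions,
`(t a) ^ a' = t a a'²`. `N(U)` normalises `A` (`B` and the non-involutions of `U`) and `B` (the
squares); in particular `e` does. Take `y2 ∈ A`, `y2² = d`; then `y2 ^ e = y2 y d w` with
`w ∈ {1, z, s, s z}` (compare squares, use `e² = 1`). Every `a ∈ A` is `m ^ i y ^ j y2 ^ k b`,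
`i, j, k ∈ {0, 1}`, `b ∈ B`. Hence `C_A(e) = ⟨m, y⟩`; `{a ^ e a} = ⟨s, y⟩`;
`I = {a | a ^ e = a⁻¹} = ⟨s⟩ × ⟨y d w⟩` has order 8 and its elements have squares in `V`;
`{(a ^ e)⁻¹ a} ⊇ ⟨y d w⟩`, so `e a ~ e` or `e a ~ e s` for `a ∈ I`, and these are not conjugate
to `t` (`cj_e`, `cj_es`, `nc_z`, `nB`). Put `H = N(U) ⊓ N(TE)`.
(γ) No `n ∈ H` centralising `s, z` has `t ^ n ∈ t y B`. Indeed `(t e) ^ n` is an involution of
`TE \ U = e A ∪ t e A` conjugate to `t` (`t e ~ t z ~ t`), so `(t e) ^ n = t e a2`,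
`a2 ∈ C_A(e)`. With `t ^ n = t a1`, `e ^ n = e (a1 ^ e)⁻¹ a2` is an involution, so
`(a1 ^ e)⁻¹ a2 ∈ I`, `a2² ∈ V`, `a2 ∈ ⟨s, y⟩`, and `(t e) ^ n = (t e) ^ a`, `a ∈ A`. Replace `n`
by `n a⁻¹` and then by an odd power which is a 2-element (still `t ^ n ∈ t y B`, as `n` fixes the
coset `y B`). `Y0 = TE ⊓ C(t e) ≥ ⟨t e, t⟩ I` has order `≥ 32`, centralises `t e, s, z` and is
normalised by `n ∉ TE`; `Y0 ⊔ ⟨n⟩` contradicts `(F.lc _).c8` at `t e`.
(δ) `U` is a Sylow 2-subgroup of `C(B)`. Otherwise `M = N(U) ⊓ C(B)` has `|M : U|` even; a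
Sylow 2-subgroup `P ≥ TE` of `M ⊔ ⟨e⟩` is bigger than `TE`; `N_P(TE) > TE` gives
`h ∈ H ∩ C(B)`, `h ∉ U`, `h ∈ P`. `t ^ h = t a`, `a ∉ B` (else `h ∈ N(E)`, `syl`), `a²` is fixed
by `e` (`h e h⁻¹ ∈ TE` maps `t` into `t B`), so `a ∈ y B ∪ m B ∪ m y B`, and not `y B` by (γ).
So `t ~ t m ~ t m y`, and `(t y) ^ h ∈ t a y B` gives `u = t y ~ t`. `X = B ∪ u B` is
elementary of order 16; `conjE` gives `g` with `u ^ g = t`, `X ^ g = E`; `B ^ g = B` because
`b = u · u b` with both factors conjugate to `t` (`nB`). `TE` normalises `X`, so `TE ^ g` is a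
2-subgroup of order 256 of `N(E)`, where `TE` is Sylow (`syl`): `TE ^ (g k) = TE`, `k ∈ N(E)`.
`k` normalises `B`, `U = TE ⊓ C(B)`, so `n = g k ∈ H`, `t ^ (n⁻¹) ∈ t y B`. `n` fixes
`z = ⁅d, e⁆` and `s ^ n ∈ {s, s z}`. If `s ^ n = s`, (γ) fails for `n⁻¹`. Otherwise
`h' = n⁻¹ h n ∈ H ∩ C(B)` maps `t` into `t a ^ n B`, `(a a ^ n)² = z`, and (γ) fails for `h h'`.
(ε) Let `P ≥ U` be Sylow in `N(B)`; `C_P(B) = U`, `|P : U| ≤ 8`, `|P| ≤ 1024`. For `S ≥ P`
Sylow in `G`, `x ∈ N_S(P)`, `B' = B ^ x` is normal in `P`; for `f ∈ B'`, `⁅A, f⁆ ≤ A ∩ B'`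
consists of involutions, so `f` centralises the squares `B`, `f ∈ U`; `f ∈ t A` would give
`B ≤ B'`, `B' = B ∌ f`; so `B' ≤ B`, `x ∈ N(B)`, `x ∈ P`. So `S = P`. -/
theorem T8.cube (D : T8 F) (A : Subgroup G) (m y : G) (hB : F.B ≤ A) (hU : A ≤ D.U)
    (hi : ∀ a ∈ A, F.t * a * F.t = a⁻¹) (hd : ∀ u ∈ D.U, u ∈ A ∨ F.t * u ∈ A)
    (hs : ∀ a ∈ A, a * a ∈ F.B) (hs' : ∀ b ∈ F.B, ∃ a ∈ A, a * a = b) (hm : m ∈ A) (hy : y ∈ A)
    (mm : m * m = F.s) (yy : y * y = F.z) (em : Commute F.e m) (ey : Commute F.e y)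
    (hc : IsConj (F.t * m) (F.t * (m * y))) : ¬ 2 ^ 11 ∣ Nat.card G :=
  Cu.bound ⟨A, m, y, hB, hU, hi, hd, hs, hs', hm, hy, mm, yy, em, ey, hc⟩

end CL.HL
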