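import Cfsg.Agent.INV.HL.T8sa

/-! S3139: structure of `U` in the case `T8`. -/

set_option autoImplicit false
open Subgroup

namespace CL.HL
variable {G : Type*} [Group G] [Finite G] {F : Fr G}

namespace T8
variable (D : T8 F)
open Fr Cu

/-- `⟨s, z⟩` -/
def W (_ : T8 F) : Subgroup G := F.B ⊓ centralizer {F.e}
omit [Finite G] in
theorem mem_W {w : G} : w ∈ D.W ↔ w ∈ F.B ∧ Commute F.e w := by
  rw [W, mem_inf, mem_cen1]
omit [Finite G] in
theorem W_TE {w x : G} (hw : w ∈ D.W) (hx : x ∈ D.TE) : Commute w x :=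
  TE_W hx (D.mem_W.1 hw).1 (D.mem_W.1 hw).2.symm

/-- `T0 ⟨m, y1⟩` -/
def Y1 : Subgroup G where
  carrier := {x | x ∈ D.TE ∧ cm F.t x ∈ D.W}
  one_mem' := ⟨one_mem _, by rw [cm_eq_one.2 (Commute.one_right _)]; exact one_mem _⟩
  mul_mem' := by
    rintro x y ⟨hx, h1⟩ ⟨hy, h2⟩
    refine ⟨mul_mem hx hy, ?_⟩
    have : cm F.t (x * y) = cm F.t y * (y⁻¹ * cm F.t x * y) := by simp only [cm]; group
    rw [this, cj_fix (D.W_TE h1 hy)]; exact mul_mem h2 h1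
  inv_mem' := by
    rintro x ⟨hx, h1⟩
    refine ⟨inv_mem hx, ?_⟩
    have : cm F.t x⁻¹ = x⁻¹⁻¹ * (cm F.t x)⁻¹ * x⁻¹ := by simp only [cm]; group
    rw [this, cj_fix (D.W_TE (inv_mem h1) (inv_mem hx))]; exact inv_mem h1

omit [Finite G] in
theorem T0_TE : F.T0 ≤ D.TE := fun x hx => by
  obtain ⟨y, hy, rfl | rfl⟩ := F.mem_T0.1 hx
  exacts [D.U_TE (D.EU hy), mul_mem (D.U_TE (D.EU hy)) D.e_TE]
omit [Finite G] in
theorem T0_Y1 : F.T0 ≤ D.Y1 := fun x hx =>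
  ⟨D.T0_TE hx, by rw [cm_eq_one.2 (F.t_T (F.T0_T hx))]; exact one_mem _⟩
omit [Finite G] in
theorem sW : F.s ∈ D.W := D.mem_W.2 ⟨F.s_B, F.se.symm⟩
omit [Finite G] in
theorem zW : F.z ∈ D.W := D.mem_W.2 ⟨F.V_B F.z_V, F.ze.symm⟩

theorem exists_c' {m y1 : G} (hm : m ∈ D.U) (hy : y1 ∈ D.U) (h1 : cm F.t m = F.s)
    (h2 : cm F.t y1 = F.z) : ∃ c', F.Cr c' ∧ c'⁻¹ * m * c' ∈ D.TE := by
  have hm' : m ∈ D.Y1 := ⟨D.U_TE hm, h1 ▸ D.sW⟩
  have hy' : y1 ∈ D.Y1 := ⟨D.U_TE hy, h2 ▸ D.zW⟩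
  have hle : D.Y1 ≤ D.TE := fun x hx => hx.1
  have hT0 : ∀ x ∈ D.TE, Commute F.t x → x ∈ F.T0 := fun x hx h =>
    F.memT0 D.p2_TE D.T0_TE hx h (D.TE_nE hx)
  obtain ⟨c', hc, hn, -⟩ := F.cprime D.two D.nB (D.p2_TE.to_le hle) D.T0_Y1
    (fun x hx => norm_of fun g hg => hT0 _ (mul_mem (mul_mem (inv_mem hx.1) (D.T0_TE hg)) hx.1) (by
      have h3 : Commute (x⁻¹⁻¹ * F.t * x⁻¹) g := by
        rw [cj_eq_cm]
        exact (F.t_T (F.T0_T hg)).mul_left (D.W_TE (inv_mem hx).2 (D.T0_TE hg))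
      simpa [mul_assoc] using comm_cj h3 x))
    (hle.trans D.TE_nE) (by
      let φ : D.Y1 →* D.W := MonoidHom.mk' (fun x => ⟨cm F.t x, x.2.2⟩) fun x y => Subtype.ext (by
        have : cm F.t (x * y) = cm F.t y * ((y : G)⁻¹ * cm F.t x * y) := by simp only [cm]; group
        show cm F.t (x * y) = cm F.t x * cm F.t y
        rw [this, cj_fix (D.W_TE x.2.2 y.2.1)]
        exact (F.comm_E (F.B_E y.2.2.1) (F.B_E x.2.2.1)).eq)
      have hk : φ.ker = F.T0.subgroupOf D.Y1 := by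
        ext x
        rw [MonoidHom.mem_ker, mem_subgroupOf, Subtype.ext_iff]
        exact ⟨fun h => hT0 _ x.2.1 (cm_eq_one.1 h), fun h => cm_eq_one.2 (F.t_T (F.T0_T h))⟩
      have hr : φ.range = ⊤ := by
        rw [eq_top_iff]
        rintro ⟨w, hw⟩ -
        rcases F.fix_e (D.mem_W.1 hw).1 (D.mem_W.1 hw).2 with rfl | rfl | rfl | rfl
        · exact one_mem _
        · exact ⟨⟨y1, hy'⟩, Subtype.ext h2⟩
        · exact ⟨⟨m, hm'⟩, Subtype.ext h1⟩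
        · exact ⟨⟨m * y1, mul_mem hm' hy'⟩, Subtype.ext (show cm F.t (m * y1) = _ by
            rw [D.cm_r D.tU hm hy, h1, h2])⟩
      have hW : Nat.card D.W = 4 := by
        have c1 := card_two_mul_le (X := D.W) (Y := F.B) (lt_of_le_not_ge inf_le_left fun h =>
          F.not_de (D.mem_W.1 (h (F.V_B F.d_V))).2.symm)
        have c2 := card_two_mul_le (X := D.W ⊓ F.V) (Y := D.W) (lt_of_le_not_ge inf_le_left fun h =>
          F.s_nV D.two (h D.sW).2)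
        have c3 := card_two_mul_le (X := ⊥) (Y := D.W ⊓ F.V)
          (bot_lt_iff_ne_bot.2 fun h => F.z1 (mem_bot.1 (h ▸ ⟨D.zW, F.z_V⟩)))
        rw [card_bot] at c3
        rw [F.card_B D.two] at c1
        omega
      have := φ.ker.card_mul_index
      rw [index_ker, hr, card_top, hW, hk, Nat.card_congr (subgroupOfEquivOfLe D.T0_Y1).toEquiv,
        F.card_T0, F.card_B D.two] at this
      exact this.symm)
  exact ⟨c', hc, (norm_cj hn hm').1⟩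

theorem exists_my : ∃ m ∈ D.U, ∃ y ∈ D.U, cm F.t m = F.s ∧ cm F.t y = F.z ∧ D.r m = m ∧
    Commute m y ∧ y * D.r y * D.r (D.r y) ∈ F.B ∧ Commute F.e m ∧ Commute F.e y ∧
    (m * m = 1 ∧ y * y = 1 ∨ m * m = F.s ∧ y * y = F.z) ∧ IsConj (F.t * m) (F.t * (m * y)) := by
  obtain ⟨y1, hy, e1, e2, b0, hb0, e3⟩ := D.exists_y
  obtain ⟨m, hm, f1, f2, f3⟩ := D.exists_m hy e1 e2 hb0 e3
  obtain ⟨c', hc, hT⟩ := D.exists_c' hm hy f1 e1
  obtain ⟨q, he⟩ := D.m_e hm f1 f2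
  have h2 := D.two
  have dB := F.V_B F.d_V
  have zB := F.V_B F.z_V
  set m' := c'⁻¹ * m * c' with hm'
  have g1 : cm F.d m' = c'⁻¹ * cm F.e m * c' := by rw [cm_cj, hc.ec]
  have g2 : cm F.e m = 1 ∨ cm F.e m = F.s := by
    have : cm F.e m = (F.e * m * F.e)⁻¹ * m := by simp only [cm, mul_inv_rev, F.e_inv]; group
    rcases he with he | he <;> rw [this, he]
    · left; group
    · right; rw [mul_inv_rev, inv_mul_cancel_right]; exact inv_eq_of_mul_eq_one_right F.ss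
  obtain ⟨g3, hU⟩ : cm F.e m = 1 ∧ m' ∈ D.U := by
    rcases D.dec_TE hT with h | ⟨u, hu, h⟩
    · refine ⟨cj_eq_one.1 (g1 ▸ cm_eq_one.2 (D.cB _ h _ dB)), h⟩
    · exfalso
      have : cm F.d m' = F.z := cm_of_cj (by
        rw [h]
        calc _ = F.e⁻¹ * (u⁻¹ * F.d * u) * F.e := by group
          _ = _ := by rw [cj_fix (D.cB u hu _ dB)]; hl_w)
      rw [g1] at this
      rcases g2 with g | g <;> rw [g] at this
      · exact F.z1 (this.symm.trans (by group))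
      · rw [hc.sc h2] at this; exact h2 (mul_eq_right.1 this)
  have em := cm_eq_one.1 g3
  have g4 : cm F.t m' = F.s * F.z := by rw [← hc.sc h2, ← f1, cm_cj, cj_fix hc.tc]
  obtain ⟨x, hx, g5⟩ := D.memE_of (mul_mem hm hy) hU (by rw [g4, D.cm_r D.tU hm hy, f1, e1])
  have em' : Commute F.e m' := by
    have a1 := comm_cj (D.cB m hm _ dB) c'
    have a2 := comm_cj (D.cB m hm _ zB) c'
    rw [hc.dc] at a1
    rw [cj_fix hc.zc] at a2
    have := a1.mul_left a2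
    rwa [mul_assoc, F.zz, mul_one] at this
  obtain ⟨b, hb, rfl | rfl⟩ := F.mem_E.1 hx
  swap
  · exfalso
    have a1 : cm m m' = F.s := by
      rw [g5, D.cm_r hm (mul_mem hm hy) (D.EU hx), D.cm_r hm hm hy, f3,
        cm_eq_one.2 (Commute.refl m), D.cm_r hm D.tU (D.BU hb), D.cm_b hm hb, D.cm_symm D.tU hm, f1]
      simp
    have a2 : c'⁻¹ * m' * c' = m := by
      calc _ = (c' * c')⁻¹ * m * (c' * c') := by rw [hm']; group
        _ = _ := by rw [hc.cc]; exact cj_fix ((D.cB m hm _ dB).symm.mul_right em.symm)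
    have a3 := cm_cj c' m m'
    rw [a1, hc.sc h2, a2, D.cm_symm hm hU, a1] at a3
    exact F.z1 (mul_eq_left.1 a3)
  have yU := mul_mem hy (D.BU hb)
  rw [mul_assoc] at g5
  have my : cm m (y1 * x) = 1 := by rw [D.cm_r hm hy (D.BU hb), f3, D.cm_b hm hb, mul_one]
  have sw : ∀ u v b, v ∈ D.U → b ∈ F.B → u * b * v = u * v * b := fun u v b hv hb => by
    rw [mul_assoc, (D.cB v hv b hb).eq, mul_assoc]
  refine ⟨m, hm, y1 * x, yU, f1, by rw [D.cm_r D.tU hy (D.BU hb), e1, D.cm_b D.tU hb, mul_one], f2,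
    cm_eq_one.1 my, ?_, em, ?_, ?_, icj c' (by rw [cj_mul, cj_fix hc.tc, ← hm', g5])⟩
  · simp only [r_mul]
    rw [← mul_assoc, ← mul_assoc, sw y1 _ x (D.rU hy) hb, mul_assoc _ x,
      sw _ _ _ (D.rU (D.rU hy)) (mul_mem hb (D.rB hb))]
    exact mul_mem (mul_mem e2 (mul_mem hb (D.rB hb))) (D.rB (D.rB hb))
  · have := em.inv_right.mul_right em'
    rwa [g5, inv_mul_cancel_left] at this
  · have a1 : c'⁻¹ * (m * m) * c' = m * m * (y1 * x * (y1 * x)) := by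
      rw [cj_mul, ← hm', g5, D.sq_mul hm yU, my, mul_one]
    rcases q with q | q <;> rw [q] at a1
    · exact Or.inl ⟨q, by simpa using a1.symm⟩
    · rw [hc.sc h2] at a1; exact Or.inr ⟨q, (mul_left_cancel a1).symm⟩

theorem exists_A : ∃ (A : Subgroup G) (m y : G), F.B ≤ A ∧ A ≤ D.U ∧ m ∈ A ∧ y ∈ A ∧ D.r y ∈ A ∧
    cm F.t m = F.s ∧ cm F.t y = F.z ∧ cm F.t (D.r y) = F.d ∧ Commute F.e m ∧ Commute F.e y ∧
    IsConj (F.t * m) (F.t * (m * y)) ∧ F.t ∉ A ∧ (∀ u ∈ D.U, u ∈ A ∨ F.t * u ∈ A) ∧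
    (∀ b ∈ F.B, ∃ a ∈ A, cm F.t a = b) ∧ (∀ a ∈ A, F.e * a * F.e ∈ A) ∧
    ((∀ a ∈ A, a * a = 1) ∨ (m * m = F.s ∧ y * y = F.z ∧ ∀ a ∈ A, a * a = cm F.t a)) := by
  obtain ⟨m, hm, y, hy, e1, e2, e3, e4, e5, e6, e7, e8, e9⟩ := D.exists_my
  have h2 := D.two
  have y2 := D.rU hy
  have y3 := D.rU y2
  have c2 : cm F.t (D.r y) = F.d := by rw [← D.r_t, ← D.r_cm, e2, D.r_z]
  have m2 : Commute m (D.r y) := cm_eq_one.1 (by rw [← e3, ← D.r_cm, cm_eq_one.2 e4, D.r_one])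
  have q3 : y * y * (D.r y * D.r y) = D.r (D.r y) * D.r (D.r y) := by
    rw [← D.r_mul, ← D.r_mul, ← D.r_mul]
    rcases e8 with ⟨-, h⟩ | ⟨-, h⟩ <;> rw [h]
    · simp [r_one]
    · rw [r_z, r_d]; exact F.zd.eq
  have y12 : Commute y (D.r y) := by
    have a1 := D.sq_mul (mul_mem hy y2) y3
    have a2 : cm (y * D.r y) (D.r (D.r y)) = 1 := by
      have := D.cm_l y3 (mul_mem hy y2) y3
      rwa [D.cm_symm y3 (mul_mem (mul_mem hy y2) y3), D.cm_b y3 e5, cm_eq_one.2 (Commute.refl _),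
        mul_one, eq_comm] at this
    rw [bb e5, a2, mul_one, D.sq_mul hy y2, q3, mul_assoc, (D.cB _ (mul_mem y3 y3) _
      (D.cmB hy y2)).eq, ← mul_assoc, bb (D.sqB y3), one_mul] at a1
    exact cm_eq_one.1 a1.symm
  let A := D.U ⊓ centralizer {m, y, D.r y}
  have mA : ∀ a, a ∈ A ↔ a ∈ D.U ∧ Commute m a ∧ Commute y a ∧ Commute (D.r y) a := by
    intro a; simp [A, mem_centralizer_iff, commute_iff_eq]
  have BA : F.B ≤ A := fun b hb =>
    (mA b).2 ⟨D.BU hb, (D.cB _ hm b hb).symm, (D.cB _ hy b hb).symm, (D.cB _ y2 b hb).symm⟩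
  have a1 : m ∈ A := (mA _).2 ⟨hm, Commute.refl _, e4.symm, m2.symm⟩
  have a2 : y ∈ A := (mA _).2 ⟨hy, e4, Commute.refl _, y12.symm⟩
  have a3 : D.r y ∈ A := (mA _).2 ⟨y2, m2, y12, Commute.refl _⟩
  have tA : F.t ∉ A := fun h => h2 (by rw [← e1]; exact cm_eq_one.2 ((mA _).1 h).2.1.symm)
  let A0 := closure ({m, y, D.r y} : Set G)
  have A0A : A0 ≤ A := (closure_le _).2 (by rintro _ (rfl | rfl | rfl); exacts [a1, a2, a3])
  have g1 : m ∈ A0 := subset_closure (by simp)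
  have g2 : y ∈ A0 := subset_closure (by simp)
  have g3 : D.r y ∈ A0 := subset_closure (by simp)
  have sur : ∀ b ∈ F.B, ∃ a ∈ A0, cm F.t a = b := fun b hb => by
    have hV : ∀ v ∈ F.V, ∃ a ∈ A0, cm F.t a = v := fun v hv => by
      rcases F.mem_V.1 hv with rfl | rfl | rfl | rfl
      · exact ⟨1, one_mem _, cm_eq_one.2 (Commute.one_right _)⟩
      · exact ⟨_, g2, e2⟩
      · exact ⟨_, g3, c2⟩
      · exact ⟨_, mul_mem g3 g2, by rw [D.cm_r D.tU y2 hy, c2, e2]⟩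
    obtain ⟨v, hv, rfl | rfl⟩ := F.mem_B.1 hb
    · exact hV _ hv
    · obtain ⟨a, ha, e⟩ := hV v hv
      exact ⟨_, mul_mem g1 ha, by rw [D.cm_r D.tU hm (A0A ha).1, e1, e]⟩
  have dec : ∀ u ∈ D.U, ∃ a ∈ A0, ∃ b ∈ F.B, u = a * b ∨ u = a * (F.t * b) := fun u hu => by
    obtain ⟨a, ha, e⟩ := sur _ (D.cmB D.tU hu)
    obtain ⟨x, hx, e'⟩ := D.memE_of (A0A ha).1 hu e
    obtain ⟨b, hb, rfl | rfl⟩ := F.mem_E.1 hx
    exacts [⟨a, ha, _, hb, Or.inl e'⟩, ⟨a, ha, b, hb, Or.inr e'⟩]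
  have ind : ∀ p : G → Prop, p m → p y → p (D.r y) → (∀ b ∈ F.B, p b) →
      (∀ a ∈ A, ∀ b ∈ A, p a → p b → p (a * b)) → ∀ a ∈ A, p a := by
    intro p p1 p2 p3 p4 p5 a ha
    obtain ⟨a0, h0, b, hb, rfl | rfl⟩ := dec a ha.1
    · refine p5 _ (A0A h0) _ (BA hb) ?_ (p4 b hb)
      clear ha
      induction h0 using closure_induction with
      | mem x hx => rcases hx with rfl | rfl | rfl; exacts [p1, p2, p3]
      | one => exact p4 _ (one_mem _)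
      | mul x y hx hy px py => exact p5 _ (A0A hx) _ (A0A hy) px py
      | inv x hx px =>
        have : x⁻¹ = x * (x * x)⁻¹ := by group
        have hb := inv_mem (D.sqB (A0A hx).1)
        rw [this]; exact p5 _ (A0A hx) _ (BA hb) px (p4 _ hb)
    · exact absurd ((mul_mem_cancel_right (BA hb)).1 ((mul_mem_cancel_left (A0A h0)).1 ha)) tA
  have ab : ∀ a ∈ A, ∀ b ∈ A, cm a b = 1 := fun a ha b hb => cm_eq_one.2
    (ind (fun a => Commute a b) ((mA b).1 hb).2.1 ((mA b).1 hb).2.2.1 ((mA b).1 hb).2.2.2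
      (fun c hc => D.cB b hb.1 c hc) (fun _ _ _ _ h1 h2 => h1.mul_left h2) a ha)
  refine ⟨A, m, y, BA, inf_le_left, a1, a2, a3, e1, e2, c2, e6, e7, e9, tA, fun u hu => ?_,
    fun b hb => (sur b hb).imp fun a h => ⟨A0A h.1, h.2⟩, ?_, ?_⟩
  · obtain ⟨a, ha, b, hb, rfl | rfl⟩ := dec u hu
    · exact Or.inl (mul_mem (A0A ha) (BA hb))
    · right
      have : F.t * (a * (F.t * b)) = a * cm a F.t * b := by
        rw [← cj_eq_cm, inv_eq_of_mul_eq_one_right F.tt]; group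
      rw [this]; exact mul_mem (mul_mem (A0A ha) (BA (D.cmB (A0A ha).1 D.tU))) (BA hb)
  · refine ind (fun a => F.e * a * F.e ∈ A) (by rwa [e_fix e6]) (by rwa [e_fix e7]) ?_
      (fun b hb => BA (F.e_nB hb)) fun a _ b _ h1 h2 => by rw [e_mul]; exact mul_mem h1 h2
    show F.e * D.r y * F.e ∈ A
    rw [D.er hy, e_fix e7]
    exact (mul_mem_cancel_left (mul_mem a2 a3)).1 (BA e5)
  · rcases e8 with ⟨h3, h4⟩ | ⟨h3, h4⟩
    · left
      refine ind (fun a => a * a = 1) h3 h4 (by rw [← D.r_mul, h4, r_one]) (fun b hb => bb hb)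
        fun a ha b hb h1 h2 => by rw [D.sq_mul ha.1 hb.1, h1, h2, ab a ha b hb]; simp
    · refine Or.inr ⟨h3, h4, ind (fun a => a * a = cm F.t a) (by rw [h3, e1]) (by rw [h4, e2])
        (by rw [← D.r_mul, h4, r_z, c2]) (fun b hb => by rw [bb hb, D.cm_b D.tU hb])
        fun a ha b hb h1 h2 => ?_⟩
      rw [D.sq_mul ha.1 hb.1, h1, h2, ab a ha b hb, mul_one, D.cm_r D.tU ha.1 hb.1]

end T8

/-- Structure of `U` for the orbit `t B`, translations.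
Proof. For `u ∈ U`, `t ^ u = t β(u)`, `β(u) ∈ B` (`UN`, `nB`), a homomorphism onto `B` with
kernel `E`; `|U| = 128`. `u² ∈ E`, and `u² = t b` would make `u` commute with `t`; so `u² ∈ B`:
`U / B` is elementary abelian, `B` central, squares are constant on cosets of `B`, commutators
bilinear. `ρ ^ 3`, `(e ρ)²` centralise `U` (`Rr.cube`, `Rr.sq`, `odd_cent`). Take `w ∈ U` with
`β(w) = z`, `y1 = w ^ ρ * w ^ ρ²`, `y2 = y1 ^ ρ`, `y3 = y2 ^ ρ`: `β(y1) = z`, `β(y2) = d`,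
`y1 y2 y3 ∈ B`, `y1 ^ e ∈ y1 B`. The coset `{u | β(u) = s}` has 16 elements and is
`ρ`-invariant, so it contains `m` commuting with `ρ`. `m² ∈ {1, s}` (`fix_ρ`), `(m t)² = m² s`.
`m ^ e` commutes with `ρ` too, `m ^ e = m x`, `x ∈ C_E(ρ) = {1, t, s, t s}`, and squares give
`m ^ e ∈ {m, m s}`. `k = ⁅m, y1⁆` is fixed by `e`, `k ∈ {1, z, s, s z}`, and
`k · k ^ ρ · k ^ ρ² = ⁅m, y1 y2 y3⁆ = 1` gives `k ∈ {1, z}`; replacing `m` by `m t`
(`⁅t, y1⁆ = z`) we get `k = 1`: `m` commutes with `y1, y2`. `Y1 = {u, u e | u ∈ U,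
β(u) ∈ {1, z, s, s z}} = T0 ⟨m, y1⟩` is a 2-group of order 128 normalising `T0` and `E`; take
`c'` from `cprime`, `m' = m ^ c' ∈ Y1`. `t ^ m' = t s z`; `m'` commutes with `z, s, e`
(`d ^ c' = e z`). `⁅m', d⁆ = ⁅m, e⁆ ^ c' ∈ {1, s z}` and `∈ {1, z}` (as `m' ∈ U ∪ U e`), so
`m` commutes with `e` and `m' ∈ U`, `m' = m y t ^ i`, `y ∈ y1 B`. If `i = 1`, `⁅m, m'⁆ = s`;
conjugating by `c'` (`m ^ (c'²) = m ^ (d e) = m`) gives `⁅m', m⁆ = s z`, absurd. So `m' = m y`,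
`y` commutes with `e`, `m'² = (m²) ^ c'`; hence `m² = y² = 1` or (`m² = s`, `y² = z`). In both
cases `⁅y1, y2⁆ = q · q ^ ρ · q ^ ρ² = 1` (`q = y1²`), `A = B ⊔ closure {m, y1, y2}` is abelian of
order 64, normalised by `t, e`, `U = A ∪ t A`, `C_A(t) = B`. First case: `mkLA` with
`A1 = {a ∈ A | β(a) ∈ {1, z, s, s z}}`. Second case: `a² = β(a)` on the generators, so `t`
inverts `A`; `(t m) ^ c' = t m y`. -/
theorem T8.split (D : T8 F) : Nonempty (LA G) ∨ ∃ (A : Subgroup G) (m y : G), F.B ≤ A ∧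
    A ≤ D.U ∧ (∀ a ∈ A, F.t * a * F.t = a⁻¹) ∧ (∀ u ∈ D.U, u ∈ A ∨ F.t * u ∈ A) ∧
    (∀ a ∈ A, a * a ∈ F.B) ∧ (∀ b ∈ F.B, ∃ a ∈ A, a * a = b) ∧ m ∈ A ∧ y ∈ A ∧
    m * m = F.s ∧ y * y = F.z ∧ Commute F.e m ∧ Commute F.e y ∧
    IsConj (F.t * m) (F.t * (m * y)) := by
  obtain ⟨A, m, y, BA, AU, a1, a2, a3, e1, e2, e3, e4, e5, e6, tA, dec, sur, eA, h⟩ := D.exists_A
  have ta : ∀ a ∈ A, F.t * a * F.t = a * cm F.t a := fun a ha => by
    rw [← D.cm_symm D.tU (AU ha), ← cj_eq_cm, inv_eq_of_mul_eq_one_right F.tt]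
  have ct : ∀ a ∈ A, Commute F.t a → a ∈ F.B := fun a ha h => by
    obtain ⟨b, hb, rfl | rfl⟩ := F.mem_E.1 (D.cU a (AU ha) h)
    · exact hb
    · exact absurd ((mul_mem_cancel_right (BA hb)).1 ha) tA
  rcases h with h | ⟨h1, h2, h⟩
  · left
    have B1 : F.B ≤ A ⊓ D.Y1 := fun b hb => ⟨BA hb, D.T0_Y1 (F.E_T0 (F.B_E hb))⟩
    have lt1 : A ⊓ D.Y1 < A := lt_of_le_not_ge inf_le_left fun h =>
      F.not_de (D.mem_W.1 (e3 ▸ (h a3).2.2)).2.symm
    refine F.mkLA (A1 := A ⊓ D.Y1) h ?_ B1 lt1 ct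
      (fun a ha => by rw [ta a ha]; exact mul_mem ha (BA (D.cmB D.tU (AU ha)))) eA ?_ ?_
      fun b hb _ => (sur b hb).imp fun a h => ⟨h.1, by rw [cj_eq_cm, h.2]⟩
    · let φ : A →* F.B := MonoidHom.mk' (fun a => ⟨cm F.t a, D.cmB D.tU (AU a.2)⟩)
        fun a b => Subtype.ext (D.cm_r D.tU (AU a.2) (AU b.2))
      have h1 := φ.ker.card_mul_index
      have h2 : Nat.card φ.ker ≤ Nat.card F.B := Nat.card_le_card_of_injective
        (fun x => ⟨x.1.1, ct _ x.1.2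
          (cm_eq_one.1 (congrArg Subtype.val (MonoidHom.mem_ker.1 x.2)))⟩)
        fun x y h => Subtype.ext (Subtype.ext (Subtype.mk.inj h))
      have h3 := card_le_card_group φ.range
      rw [index_ker] at h1
      rw [F.card_B D.two] at h2 h3
      nlinarith
    · have c1 := card_two_mul_le lt1
      have c2 := card_two_mul_le (lt_of_le_not_ge B1 fun h => D.two (by
        rw [← e1]; exact D.cm_b D.tU (h ⟨a1, D.U_TE (AU a1), e1 ▸ D.sW⟩)))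
      omega
    · intro a ha hc
      refine ⟨ha, D.U_TE (AU ha), D.mem_W.2 ⟨D.cmB D.tU (AU ha), Cu.e_comm ?_⟩⟩
      rw [T8.e_cm, Cu.e_fix F.te.symm]
      rcases hc with hc | hc
      · rw [Cu.e_fix hc]
      · have : F.e * a * F.e = F.t * a * F.t := by
          calc _ = F.t * (F.t * F.e * a) * F.e := by rw [← mul_assoc, ← mul_assoc, F.tt, one_mul]
            _ = F.t * a * F.t * (F.e * F.e) := by rw [hc.eq]; group
            _ = _ := by rw [F.ee, mul_one]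
        rw [this, ta a ha, D.cm_r D.tU (AU ha) (D.BU (D.cmB D.tU (AU ha))),
          D.cm_b D.tU (D.cmB D.tU (AU ha)), mul_one]
  · refine Or.inr ⟨A, m, y, BA, AU, fun a ha => ?_, dec, fun a ha => D.sqB (AU ha),
      fun b hb => (sur b hb).imp fun a h' => ⟨h'.1, by rw [h a h'.1, h'.2]⟩, a1, a2, h1, h2, e4, e5,
      e6⟩
    rw [ta a ha, ← h a ha]
    apply eq_inv_of_mul_eq_one_left
    rw [← Cu.bb (D.sqB (AU ha))]; group

end CL.HL
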