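import Cfsg.Agent.INV.HL.Orb
import Cfsg.Agent.INV.HL.K4s
import Cfsg.Agent.INV.HL.K4f
import Cfsg.Agent.INV.HL.T8s
import Cfsg.Agent.INV.HL.T8f
import Cfsg.Agent.INV.HL.N8s
import Cfsg.Agent.INV.HL.N8f
import Cfsg.Agent.INV.HL.LA2
import Cfsg.Agent.INV.HL.LA3

/-! S3139: the 2-local engine. -/

set_option autoImplicit false

namespace CL.HL
variable {G : Type*} [Group G] [Finite G]

theorem LA.concl (L : LA G) : Concl G := by
  rcases L.split with h | ⟨⟨J⟩⟩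
  · exact Or.inl h
  · exact J.fin J.normal

theorem Concl.of {k : ℕ} (hk : k ≤ 11) (h : ¬ 2 ^ k ∣ Nat.card G) : Concl G :=
  Or.inl fun h' => h ((pow_dvd_pow 2 hk).trans h')

theorem Fr.concl (F : Fr G) : Concl G := by
  by_cases h : IsConj F.t (F.t * F.z)
  · obtain ⟨F', ⟨⟨D⟩⟩ | ⟨⟨D⟩⟩ | ⟨⟨D⟩⟩⟩ := orb F h
    · rcases D.split with ⟨⟨L⟩⟩ | ⟨A, h1, h2, h3, h4, h5, h6⟩
      · exact L.concl
      · exact Concl.of (by norm_num) (D.four A h1 h2 h3 h4 h5 h6)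
    · rcases D.split with ⟨⟨L⟩⟩ | ⟨A, m, y, h1, h2, h3, h4, h5, h6, h7, h8, h9, h10, h11, h12, h13⟩
      · exact L.concl
      · exact Or.inl (D.cube A m y h1 h2 h3 h4 h5 h6 h7 h8 h9 h10 h11 h12 h13)
    · obtain ⟨R⟩ := D.rel
      exact Concl.of (by norm_num) R.bound
  · exact Concl.of (by norm_num) (F.small h)

end CL.HL
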