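import Cfsg.Agent.INV.HL.Defs

/-! S3139: what is used of `Aut(L₃(3))`. -/

set_option autoImplicit false
open Subgroup

namespace CL.HL

/-- `I = Inn`, `σ` the inverse transpose automorphism. -/
structure Mo (A : Type*) [Group A] (I : Subgroup A) where
  c : A
  d : A
  ρ : A
  σ : A
  cI : c ∈ I
  dI : d ∈ I
  ρI : ρ ∈ I
  σI : σ ∉ I
  idx : I.index = 2
  dd : d * d = 1
  c8 : c ^ 8 = 1
  c4 : c ^ 4 ≠ 1
  dc : d * c * d = c ^ 3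
  σσ : σ * σ = 1
  σc : σ * c * σ = c ^ 5
  σd : Commute σ d
  σρ : Commute σ ρ
  zρ : ρ⁻¹ * c ^ 4 * ρ = d
  dρ : ρ⁻¹ * d * ρ = d * c ^ 4
  ρ3 : ρ ^ 3 = 1
  eρ : (d * c ^ 2 * ρ) ^ 2 = 1
  card : ¬ 2 ^ 6 ∣ Nat.card A

abbrev SL33 := Matrix.SpecialLinearGroup (Fin 3) (ZMod 3)

end CL.HL
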