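import Cfsg.Agent.INV.HL.Red3
import Cfsg.Agent.INV.HL.NR
import Cfsg.Agent.TECH.SylIn

/-! S3139: coordinates on the group `Y1` of order 128 of the case `N8`. -/

set_option autoImplicit false
set_option linter.unusedSectionVars false
set_option synthInstance.maxSize 4096
open Subgroup

namespace CL.HL.N8x
variable {G : Type*} [Group G]

def P (x : G) (a : ZMod 2) : G := x ^ a.val

theorem z2 : ∀ a : ZMod 2, a = 0 ∨ a = 1 := by decide
theorem P0 (x : G) : P x 0 = 1 := pow_zero x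
theorem P1 (x : G) : P x 1 = x := pow_one x

theorem sw {u v c : G} (h : u * v = v * u * c) (a b : ZMod 2) (r : G) :
    P u a * (P v b * r) = P v b * (P u a * (P c (a * b) * r)) := by
  rcases z2 a with rfl | rfl <;> rcases z2 b with rfl | rfl <;> simp [P0, P1, ← mul_assoc, h]
theorem sw0 {u v : G} (h : Commute u v) (a b : ZMod 2) (r : G) : P u a * (P v b * r) = P v b * (P u a * r) := by
  rw [← mul_assoc, ← mul_assoc]; exact congrArg (· * r) (h.pow_pow _ _).eq
theorem mg {u c : G} (h : u * u = c) (a b : ZMod 2) (r : G) : P u a * (P u b * r) = P u (a + b) * (P c (a * b) * r) := by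
  rcases z2 a with rfl | rfl <;> rcases z2 b with rfl | rfl <;>
    simp [P0, P1, ← mul_assoc, h, show (1 + 1 : ZMod 2) = 0 from rfl]
theorem mg0 {u : G} (h : u * u = 1) (a b : ZMod 2) (r : G) : P u a * (P u b * r) = P u (a + b) * r := by
  rw [mg h, P, P, one_pow, one_mul]
theorem sp (u v : G) (a : ZMod 2) (r : G) : P (u * v) a * r = P u a * (P v a * r) := by
  rcases z2 a with rfl | rfl <;> simp [P0, P1, mul_assoc]

abbrev W := ZMod 2 × ZMod 2
abbrev V := ZMod 2 × ZMod 2 × ZMod 2 × ZMod 2 × ZMod 2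

def β (u v : V) : W :=
  (u.2.2.2.1 * (v.1 + v.2.1 + v.2.2.2.1) + u.2.2.1 * v.2.1, u.2.2.2.2 * (v.1 + v.2.2.1 + v.2.2.2.2) + u.2.2.1 * v.2.1)
def B (u v : V) : W := β u v + β v u
def vt : V := (1, 0, 0, 0, 0)
def ve : V := (0, 1, 0, 0, 0)
def vd : V := (0, 0, 1, 0, 0)
def vm : V := (0, 0, 0, 1, 0)
def vn : V := (0, 0, 0, 0, 1)

theorem nondeg : ∀ u v : V, (∀ x, B u x = B v x) → u = v := by decide +kernel

variable [Finite G] {F : Fr G} (R : NR F)

def cz (F : Fr G) (a : W) : G := P F.s a.1 * (P (F.s * F.z) a.2 * 1)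
def w (v : V) (a : W) : G :=
  P F.t v.1 * (P F.e v.2.1 * (P F.d v.2.2.1 * (P R.m v.2.2.2.1 * (P R.m' v.2.2.2.2 * cz F a))))
def Y1 : Subgroup G := closure {F.t, F.d, F.e, R.m, R.m'}

theorem sm : Commute F.s R.m := R.mm ▸ (Commute.refl _).mul_left (Commute.refl _)
theorem sm' : Commute F.s R.m' := R.mm ▸ R.cm.mul_left R.cm
theorem szsz : F.s * F.z * (F.s * F.z) = 1 := by rw [mul_assoc, ← mul_assoc F.z, ← F.sz.eq, mul_assoc, F.zz, mul_one, F.ss]

theorem flip {u v c : G} (h : u⁻¹ * v * u = v * c) (_ : Commute c u) (h2 : c * c = 1) : u * v = v * u * c := by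
  have : v * u = u * (v * c) := by rw [← h]; group
  rw [this, mul_assoc, mul_assoc, h2, mul_one]

theorem w_mul (u v : V) (a b : W) : w R u a * w R v b = w R (u + v) (a + b + β u v) := by
  have k : ∀ {x}, Commute F.s x → Commute F.z x → Commute (F.s * F.z) x := Commute.mul_left
  have de : F.d * F.e = F.e * F.d * (F.s * (F.s * F.z)) := by
    rw [← mul_assoc F.s, F.ss, one_mul, mul_assoc, ← F.ede, ← mul_assoc, ← mul_assoc, F.ee, one_mul]
  have h1 := sw (flip R.tm (sm R) F.ss)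
  have h2 := sw (flip R.tm' (k (sm' R) R.zm') szsz)
  have h3 := sw (flip R.em (sm R) F.ss)
  have h4 := sw (flip R.dm' (k (sm' R) R.zm') szsz)
  have h5 := fun a b r => (sw de a b r).trans (by rw [sp])
  simp only [w, cz, mul_assoc, one_mul, h1, h2, h3, h4, h5, sw0 F.te.symm, sw0 F.td.symm, sw0 R.em'.symm, sw0 R.dm.symm,
    sw0 R.cm.symm, sw0 F.ts.symm, sw0 F.se, sw0 F.sd, sw0 (sm R), sw0 (sm' R), sw0 (k F.ts.symm F.tz.symm), sw0 (k F.se F.ze),
    sw0 (k F.sd F.zd), sw0 (k (sm R) R.zm), sw0 (k (sm' R) R.zm'), sw0 (k (Commute.refl _) F.sz.symm), mg0 F.tt, mg0 F.ee,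
    mg0 F.dd, mg R.mm, mg R.mm', mg0 F.ss, mg0 szsz, Prod.fst_add, Prod.snd_add, β]
  congr 7
  · ring
  · congr 1; ring

theorem w0 (a : W) : w R 0 a = cz F a := by simp [w, P0]
theorem cz_cases (a : W) : cz F a = 1 ∧ a = 0 ∨ cz F a = F.s ∧ a = (1, 0) ∨ cz F a = F.s * F.z ∧ a = (0, 1) ∨
    cz F a = F.z ∧ a = (1, 1) := by
  obtain ⟨a, b⟩ := a
  rcases z2 a with rfl | rfl <;> rcases z2 b with rfl | rfl <;> simp [cz, P0, P1, ← mul_assoc, F.ss]
theorem cz0 : cz F 0 = 1 := by simp [cz, P0]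
theorem czs : cz F (1, 0) = F.s := by simp [cz, P0, P1]
theorem czsz : cz F (0, 1) = F.s * F.z := by simp [cz, P0, P1]
theorem czz : cz F (1, 1) = F.z := by simp [cz, P1, ← mul_assoc, F.ss]
include R in
theorem cz_add (a b : W) : cz F (a + b) = cz F a * cz F b := by
  rw [← w0 R, ← w0 R, ← w0 R, w_mul, add_zero, show β 0 0 = 0 from rfl, add_zero]
include R in
theorem cz_inj {a b : W} (h : cz F a = cz F b) : a = b := by
  have h1 : cz F (a + b) = 1 := by rw [cz_add R, h, ← cz_add R, (by decide : ∀ b : W, b + b = 0), cz0]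
  have h2 : a + b = 0 := by
    rcases cz_cases (F := F) (a + b) with e | e | e | e
    · exact e.2
    · exact (R.two (e.1.symm.trans h1)).elim
    · refine (F.s_nV R.two ?_).elim
      rw [eq_inv_of_mul_eq_one_left (e.1.symm.trans h1)]
      exact inv_mem F.z_V
    · exact (F.z1 (e.1.symm.trans h1)).elim
  exact (by decide : ∀ a b : W, a + b = 0 → a = b) a b h2
theorem cz_comm {g : G} (h1 : Commute F.s g) (h2 : Commute F.z g) (a : W) : Commute (cz F a) g := by
  rcases cz_cases (F := F) a with e | e | e | e <;> rw [e.1]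
  exacts [Commute.one_left g, h1, h1.mul_left h2, h2]

def In (g : G) (v : V) : Prop := ∃ a, g = w R v a

variable {R} {g h : G} {u v : V}

theorem In.mul (h1 : In R g u) (h2 : In R h v) : In R (g * h) (u + v) := by
  obtain ⟨a, rfl⟩ := h1
  obtain ⟨b, rfl⟩ := h2
  exact ⟨_, w_mul R u v a b⟩
theorem in0 : In R g 0 ↔ ∃ a, g = cz F a := by simp only [In, w0]
theorem w_cz (v : V) (a b : W) : w R v a * cz F b = w R v (a + b) := by
  rw [← w0 R, w_mul, add_zero, (by decide : ∀ v, β v 0 = 0), add_zero]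
theorem In.comm (h1 : In R g u) (h2 : In R h v) : g * h = h * g * cz F (B u v) := by
  obtain ⟨a, rfl⟩ := h1
  obtain ⟨b, rfl⟩ := h2
  rw [w_mul, w_mul, w_cz, add_comm u, add_comm a, B, add_comm (β u v), add_assoc _ (β v u), ← add_assoc (β v u),
    (by decide : ∀ b : W, b + b = 0), zero_add]
theorem In.sq (h1 : In R g u) : g * g = cz F (β u u) := by
  obtain ⟨a, rfl⟩ := h1
  rw [w_mul, (by decide : ∀ b : W, b + b = 0), (by decide : ∀ b : V, b + b = 0), zero_add, w0]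
theorem In.cz (h1 : In R g u) (a : W) : In R (g * cz F a) u := by simpa using h1.mul (in0.2 ⟨a, rfl⟩)
theorem In.inv (h1 : In R g u) : In R g⁻¹ u := by
  rw [inv_eq_of_mul_eq_one_right (show g * (g * N8x.cz F (β u u)) = 1 by
    rw [← mul_assoc, h1.sq, ← cz_add R, (by decide : ∀ b : W, b + b = 0), cz0])]
  exact h1.cz _
theorem In.B_eq (h1 : In R g u) (h2 : In R h v) {a : W} (e : g * h = h * g * N8x.cz F a) : B u v = a :=
  cz_inj R (mul_left_cancel ((h1.comm h2).symm.trans e))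
theorem In.uniq (h1 : In R g u) (h2 : In R g v) : u = v :=
  nondeg u v fun x => h1.B_eq ⟨0, rfl⟩ (h2.comm (v := x) ⟨0, rfl⟩)
theorem in_t : In R F.t vt := ⟨0, by simp [w, vt, P0, P1, cz0]⟩
theorem in_e : In R F.e ve := ⟨0, by simp [w, ve, P0, P1, cz0]⟩
theorem in_d : In R F.d vd := ⟨0, by simp [w, vd, P0, P1, cz0]⟩
theorem in_m : In R R.m vm := ⟨0, by simp [w, vm, P0, P1, cz0]⟩
theorem in_n : In R R.m' vn := ⟨0, by simp [w, vn, P0, P1, cz0]⟩
theorem tY : F.t ∈ Y1 R := subset_closure (by simp)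
theorem dY : F.d ∈ Y1 R := subset_closure (by simp)
theorem eY : F.e ∈ Y1 R := subset_closure (by simp)
theorem mY : R.m ∈ Y1 R := subset_closure (by simp)
theorem nY : R.m' ∈ Y1 R := subset_closure (by simp)
theorem sY : F.s ∈ Y1 R := R.mm ▸ mul_mem mY mY
theorem szY : F.s * F.z ∈ Y1 R := R.mm' ▸ mul_mem nY nY
theorem zY : F.z ∈ Y1 R := (mul_mem_cancel_left sY).1 szY

theorem mem_Y : g ∈ Y1 R ↔ ∃ v, In R g v := by
  constructor
  · intro h
    induction h using closure_induction with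
    | mem x hx =>
      rcases hx with rfl | rfl | rfl | rfl | rfl
      exacts [⟨_, in_t⟩, ⟨_, in_d⟩, ⟨_, in_e⟩, ⟨_, in_m⟩, ⟨_, in_n⟩]
    | one => exact ⟨0, in0.2 ⟨0, cz0.symm⟩⟩
    | mul x y _ _ hx hy => exact ⟨_, hx.choose_spec.mul hy.choose_spec⟩
    | inv x _ hx => exact ⟨_, hx.choose_spec.inv⟩
  · rintro ⟨v, a, rfl⟩
    exact mul_mem (pow_mem tY _) (mul_mem (pow_mem eY _) (mul_mem (pow_mem dY _) (mul_mem (pow_mem mY _)
      (mul_mem (pow_mem nY _) (mul_mem (pow_mem sY _) (mul_mem (pow_mem szY _) (one_mem _)))))))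
theorem In.mem (h : In R g u) : g ∈ Y1 R := mem_Y.2 ⟨u, h⟩
theorem In.eq (h1 : In R g u) (h2 : In R h u) : ∃ a, h = g * N8x.cz F a := by
  obtain ⟨a, e⟩ := in0.1 ((by decide : ∀ b : V, b + b = 0) u ▸ h1.inv.mul h2)
  exact ⟨a, by rw [← e, mul_inv_cancel_left]⟩
theorem Y_s (h : g ∈ Y1 R) : Commute F.s g := ((closure_le (centralizer {F.s})).2 (by
  rintro _ (rfl | rfl | rfl | rfl | rfl) <;> refine mem_centralizer_singleton_iff.2 ?_
  exacts [F.ts, F.sd.symm, F.se.symm, (sm R).symm, (sm' R).symm]) h _ rfl)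
theorem Y_z (h : g ∈ Y1 R) : Commute F.z g := ((closure_le (centralizer {F.z})).2 (by
  rintro _ (rfl | rfl | rfl | rfl | rfl) <;> refine mem_centralizer_singleton_iff.2 ?_
  exacts [F.tz, F.zd.symm, F.ze.symm, R.zm.symm, R.zm'.symm]) h _ rfl)
theorem card_Y : Nat.card (Y1 R) ≤ 128 := by
  have := Nat.card_le_card_of_surjective (fun p : V × W => (⟨w R p.1 p.2, In.mem ⟨_, rfl⟩⟩ : Y1 R)) fun x => by
    obtain ⟨v, a, e⟩ := mem_Y.1 x.2
    exact ⟨(v, a), Subtype.ext e.symm⟩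
  simpa using this

theorem In.move (h1 : In R g u) (hu : ∀ a, ∃ v, B u v = a) (h2 : In R h u) : ∃ k ∈ Y1 R, k⁻¹ * g * k = h := by
  obtain ⟨a, rfl⟩ := h1.eq h2
  obtain ⟨v, rfl⟩ := hu a
  have h3 : In R (w R v 0) v := ⟨0, rfl⟩
  exact ⟨_, h3.mem, by rw [mul_assoc, h1.comm h3]; group⟩

/-- the action on `Y1 / W0` of an element normalising `Y1` and centralising `W0` -/
theorem exists_f (hn : g ∈ normalizer (Y1 R : Set G)) (h1 : Commute F.s g) (h2 : Commute F.z g) : ∃ f : V → V,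
    (∀ x v, In R x v → In R (g⁻¹ * x * g) (f v)) ∧ (∀ u v, f (u + v) = f u + f v) ∧ (∀ u, β (f u) (f u) = β u u) ∧
    f vm = vm ∧ f vn = vn ∧ f (vt + vd + ve) = vt + vd + ve ∧ (f vt = vt ∨ f vt = vt + vm + vn) := by
  choose f hf using fun v => mem_Y.1 (norm_cj hn (In.mem (R := R) (u := v) ⟨0, rfl⟩))
  have fx := fun a => Fr.cj_fix (cz_comm h1 h2 a)
  have k : ∀ x v, In R x v → In R (g⁻¹ * x * g) (f v) := fun x v hx => by
    obtain ⟨a, rfl⟩ := In.eq ⟨0, rfl⟩ hx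
    rw [Fr.cj_mul, fx]
    exact (hf v).cz a
  have i : ∀ v, In R (w R v 0) v := fun v => ⟨0, rfl⟩
  have ad : ∀ u v, f (u + v) = f u + f v := fun u v => (k _ _ ((i u).mul (i v))).uniq (Fr.cj_mul g _ _ ▸ (hf u).mul (hf v))
  have hB : ∀ u v, B (f u) (f v) = B u v := fun u v => (hf u).B_eq (hf v) (by
    rw [← Fr.cj_mul, (i u).comm (i v), Fr.cj_mul, Fr.cj_mul, fx])
  have hQ : ∀ u, β (f u) (f u) = β u u := fun u => cz_inj R ((hf u).sq.symm.trans (by rw [← Fr.cj_mul, (i u).sq, fx]))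
  have sj : Function.Surjective f := Finite.injective_iff_surjective.1 fun u v e =>
    nondeg u v fun x => by rw [← hB, e, hB]
  have e1 : f vm = vm := (by decide : ∀ x : V, β x x = β vm vm → (∀ y, (B x y).2 = 0) → x = vm) _ (hQ _)
    (sj.forall.2 fun y => by rw [hB]; revert y; decide)
  have e2 : f vn = vn := (by decide : ∀ x : V, β x x = β vn vn → (∀ y, (B x y).1 = 0) → x = vn) _ (hQ _)
    (sj.forall.2 fun y => by rw [hB]; revert y; decide)
  have e3 : f (vt + vd + ve) = vt + vd + ve := (by decide : ∀ x : V, β x x = β (vt + vd + ve) (vt + vd + ve) →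
    (∀ y, (B x y).1 = (B x y).2) → x = vt + vd + ve) _ (hQ _) (sj.forall.2 fun y => by rw [hB]; revert y; decide)
  refine ⟨f, k, ad, hQ, e1, e2, e3, ?_⟩
  have ic : IsConj F.t (g⁻¹ * F.t * g) := Fr.icj g rfl
  rcases (by decide : ∀ x : V, β x x = β vt vt → B x vm = B vt vm → B x vn = B vt vn →
    B x (vt + vd + ve) = B vt (vt + vd + ve) → x = vt ∨ x = vt + vm + vn ∨ x = vt + vm ∨ x = vt + vn) _ (hQ _)
    ((congrArg _ e1.symm).trans (hB _ _)) ((congrArg _ e2.symm).trans (hB _ _)) ((congrArg _ e3.symm).trans (hB _ _)) with e | e | e | e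
  · exact Or.inl e
  · exact Or.inr e
  · obtain ⟨x, -, ex⟩ := (e ▸ k _ _ in_t).move (by decide) (in_t.mul in_m)
    exact (R.nc ((ic.trans (Fr.icj x ex)).trans (Fr.icj R.c' (by rw [Fr.cj_mul, Fr.cj_fix R.cr.tc, R.mc])))).elim
  · obtain ⟨x, -, ex⟩ := (e ▸ k _ _ in_t).move (by decide) (in_t.mul in_n)
    exact (R.nc (ic.trans (Fr.icj x ex))).elim

end CL.HL.N8x
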