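import Cfsg.Agent.INV.HL.Loc
import Cfsg.Agent.TECH.SylIn
import Cfsg.Agent.INV.JR.Count

/-! S3139: the odd part `O` of `C(E)`, Frattini lifts, `c'`, Lemma A input. -/

set_option autoImplicit false
open Subgroup CL.MSS

namespace CL.HL.Od
variable {G : Type*} [Group G]

theorem nm_of [Finite G] {H : Subgroup G} {g : G} (h : ∀ x ∈ H, g * x * g⁻¹ ∈ H) : g ∈ normalizer (H : Set G) :=
  mem_normalizer_of_cj_le (cj_le_iff_forall.2 h)

theorem cj {H : Subgroup G} {g x : G} (hg : g ∈ normalizer (H : Set G)) (hx : x ∈ H) : g * x * g⁻¹ ∈ H :=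
  (mem_normalizer_iff.1 hg x).1 hx

theorem cj' {H : Subgroup G} {g x : G} (hg : g ∈ normalizer (H : Set G)) (hx : x ∈ H) : g⁻¹ * x * g ∈ H := by
  simpa using cj (inv_mem hg) hx

theorem two_le [Finite G] {H K : Subgroup G} (h : H < K) : 2 * Nat.card H ≤ Nat.card K := by
  obtain ⟨m, hm⟩ := card_dvd_of_le h.le
  have h1 : m ≠ 1 := fun e => h.ne (eq_of_le_of_card_ge h.le (by rw [hm, e, mul_one]))
  have h0 : m ≠ 0 := fun e => by have := Nat.card_pos (α := K); rw [hm, e] at this; omega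
  rw [hm, mul_comm]
  exact Nat.mul_le_mul_left _ (by omega)

theorem card_rel {H K : Subgroup G} (h : H ≤ K) : Nat.card H * H.relIndex K = Nat.card K := by
  rw [← (H.subgroupOf K).card_mul_index, Nat.card_congr (subgroupOfEquivOfLe h).toEquiv]; rfl

theorem comm_E (F : Fr G) {g : G} (h1 : Commute F.t g) (h2 : Commute F.s g) (h3 : Commute F.z g)
    (h4 : Commute F.d g) : ∀ x ∈ F.E, Commute x g := fun x hx => by
  have : F.E ≤ centralizer {g} := (closure_le _).2 (by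
    rintro _ (rfl | rfl | rfl | rfl) <;> exact mem_centralizer_singleton_iff.2 ‹_›)
  exact mem_centralizer_singleton_iff.1 (this hx)

theorem T0_nE (F : Fr G) : F.T0 ≤ normalizer (F.E : Set G) := fun x hx => by
  obtain ⟨y, hy, rfl | rfl⟩ := F.mem_T0.1 hx
  exacts [le_normalizer hy, mul_mem (le_normalizer hy) F.e_nE]

end CL.HL.Od

open CL.HL.Od

namespace CL.HL.Fr
variable {G : Type*} [Group G] [Finite G] (F : Fr G)

/-- `C(E) = E × O` with `O` of odd order.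
Proof. Put `C = centralizer E`. `E ≤ C` (`comm_E`), `E` is central in `C`, and `E` is a Sylow
2-subgroup of `C` (a 2-subgroup `Y ≥ E` of `C` is `E` by `memE`). Burnside
(`MonoidHom.ker_transferSylow_isComplement'`, or `transferCenterPow`) gives a normal complement
`O` of odd order; it is the set of elements of odd order of `C` (an element of odd order dies in
the 2-group `C / O`). -/
theorem exists_O : ∃ O : Subgroup G,
    (∀ o, o ∈ O ↔ (∀ x ∈ F.E, Commute x o) ∧ Odd (orderOf o)) ∧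
    ∀ g, (∀ x ∈ F.E, Commute x g) → ∃ x ∈ F.E, ∃ o ∈ O, g = x * o := by
  haveI := Fact.mk Nat.prime_two
  have mC : ∀ {g}, g ∈ centralizer (F.E : Set G) ↔ ∀ x ∈ F.E, Commute x g := Iff.rfl
  have hE : F.E ≤ centralizer (F.E : Set G) := fun y hy x hx => F.comm_E hx hy
  have s : SylIn 2 F.E (centralizer (F.E : Set G)) := ⟨hE, F.p2_E, fun Y hY h1 h2 => le_antisymm (fun y hy =>
    F.memE hY h1 hy (h2 hy _ F.t_E) (h2 hy _ (F.B_E (F.V_B F.z_V))) (h2 hy _ (F.B_E (F.V_B F.d_V)))) h1⟩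
  haveI : (F.E.subgroupOf (centralizer (F.E : Set G))).Normal :=
    (normal_subgroupOf_iff_le_normalizer hE).2 (centralizer_le_normalizer _)
  obtain ⟨k, hk⟩ := IsPGroup.iff_card.1 (isPGroup_subgroupOf F.p2_E (centralizer (F.E : Set G)))
  have cp := (Nat.Prime.coprime_iff_not_dvd Nat.prime_two).2 s.not_dvd_relIndex
  obtain ⟨K, hK⟩ := exists_right_complement'_of_coprime (N := F.E.subgroupOf (centralizer (F.E : Set G)))
    (by rw [hk]; exact cp.pow_left k)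
  have oK : Odd (Nat.card K) := by rw [← hK.symm.index_eq_card]; exact Nat.coprime_two_left.1 cp
  have od : ∀ o ∈ K, Odd (orderOf (o : G)) := fun o ho => by
    rw [orderOf_coe]; exact oK.of_dvd_nat (orderOf_dvd_natCard K ho)
  have dec : ∀ g, (∀ x ∈ F.E, Commute x g) → ∃ x ∈ F.E, ∃ o ∈ K, g = x * o := fun g hg => by
    obtain ⟨⟨x, o⟩, e, -⟩ := hK.existsUnique ⟨g, hg⟩
    exact ⟨_, x.2, o, o.2, (congrArg Subtype.val e).symm⟩
  refine ⟨K.map (centralizer _).subtype, fun o => ⟨?_, fun ⟨h1, h2⟩ => ?_⟩, fun g hg => ?_⟩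
  · rintro ⟨o, ho, rfl⟩; exact ⟨o.2, od o ho⟩
  · obtain ⟨x, hx, u, hu, rfl⟩ := dec o h1
    have c : Commute x u := u.2 x hx
    obtain ⟨m, hm⟩ := h2.mul (od u hu)
    have e := pow_eq_one_iff_modEq (x := x * (u : G)) (n := orderOf (x * u) * orderOf (u : G))
    have e1 : (x * u) ^ (orderOf (x * u) * orderOf (u : G)) = 1 := by rw [pow_mul, pow_orderOf_eq_one, one_pow]
    rw [c.mul_pow, mul_comm (orderOf _), pow_mul (u : G), pow_orderOf_eq_one, one_pow, mul_one, mul_comm, hm,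
      pow_succ, pow_mul, sq, F.el_E hx, one_pow, one_mul] at e1
    rw [e1, one_mul]; exact ⟨u, hu, rfl⟩
  · obtain ⟨x, hx, u, hu, e⟩ := dec g hg
    exact ⟨x, hx, u, ⟨u, hu, rfl⟩, e⟩

/-- The subgroup of `exists_O`. -/
noncomputable def O : Subgroup G := F.exists_O.choose

theorem mem_O {o : G} : o ∈ F.O ↔ (∀ x ∈ F.E, Commute x o) ∧ Odd (orderOf o) :=
  F.exists_O.choose_spec.1 o

theorem dec_O {g : G} (h : ∀ x ∈ F.E, Commute x g) : ∃ x ∈ F.E, ∃ o ∈ F.O, g = x * o :=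
  F.exists_O.choose_spec.2 g h

/-- All elements have odd order (Cauchy). -/
theorem odd_O : Odd (Nat.card F.O) := by
  haveI := Fact.mk Nat.prime_two
  by_contra h
  obtain ⟨o, ho⟩ := exists_prime_orderOf_dvd_card' (G := F.O) 2 (even_iff_two_dvd.1 (Nat.not_odd_iff_even.1 h))
  have := (F.mem_O.1 o.2).2
  rw [orderOf_coe, ho] at this
  exact absurd this (by decide)

/-- `N(E)` normalises `O` (by `mem_O`). -/
theorem conj_O {g o : G} (hg : g ∈ normalizer (F.E : Set G)) (ho : o ∈ F.O) :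
    g⁻¹ * o * g ∈ F.O := by
  obtain ⟨h1, h2⟩ := F.mem_O.1 ho
  refine F.mem_O.2 ⟨fun x hx => ?_, ?_⟩
  · have := (h1 _ (cj hg hx)).eq
    change x * (g⁻¹ * o * g) = g⁻¹ * o * g * x
    calc x * (g⁻¹ * o * g) = g⁻¹ * (g * x * g⁻¹ * o) * g := by group
      _ = _ := by rw [this]; group
  · rwa [show g⁻¹ * o * g = MulAut.conj g⁻¹ o by simp, MulEquiv.orderOf_eq]

/-- `ρ'` normalises `E`; `ρ' ^ 3` and `(e ρ')²` centralise `t, s, z, d` and have odd order. -/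
theorem Rr.nE {F : Fr G} {ρ' : G} (h : F.Rr ρ') : ρ' ∈ normalizer (F.E : Set G) :=
  (F.withρ h).ρ_nE
theorem Rr.cube {F : Fr G} {ρ' : G} (h : F.Rr ρ') : ρ' ^ 3 ∈ F.O := by
  have h3 : ρ'⁻¹ * (F.d * F.z) * ρ' = F.z := (F.withρ h).dzρ
  have k : ∀ x, ρ'⁻¹ * (ρ'⁻¹ * (ρ'⁻¹ * x * ρ') * ρ') * ρ' = x → Commute x (ρ' ^ 3) := fun x e => by
    change x * ρ' ^ 3 = ρ' ^ 3 * x
    nth_rewrite 2 [← e]; simp [pow_succ, mul_assoc]
  exact F.mem_O.2 ⟨Od.comm_E F (h.tρ.pow_right 3) (h.sρ.pow_right 3) (k _ (by rw [h.zρ, h.dρ, h3]))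
    (k _ (by rw [h.dρ, h3, h.zρ])), h.oρ.of_dvd_nat (orderOf_pow_dvd 3)⟩
theorem Rr.sq {F : Fr G} {ρ' : G} (h : F.Rr ρ') : (F.e * ρ') ^ 2 ∈ F.O := by
  have h3 : ρ'⁻¹ * (F.d * F.z) * ρ' = F.z := (F.withρ h).dzρ
  have ei : F.e⁻¹ = F.e := inv_eq_of_mul_eq_one_right F.ee
  have k : ∀ x, ρ'⁻¹ * (F.e * (ρ'⁻¹ * (F.e * x * F.e) * ρ') * F.e) * ρ' = x → Commute x ((F.e * ρ') ^ 2) :=
    fun x e => by
      change x * (F.e * ρ') ^ 2 = (F.e * ρ') ^ 2 * x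
      nth_rewrite 2 [← e]
      simp only [pow_two, mul_assoc, mul_inv_cancel_left]
      rw [← mul_assoc F.e F.e, F.ee, one_mul, mul_inv_cancel_left, ← mul_assoc F.e F.e, F.ee, one_mul]
  have ez : F.e * F.z * F.e = F.z := by rw [← F.ze.eq, mul_assoc, F.ee, mul_one]
  exact F.mem_O.2 ⟨Od.comm_E F ((F.te.mul_right h.tρ).pow_right 2) ((F.se.mul_right h.sρ).pow_right 2)
    (k _ (by rw [ez, h.zρ, F.ede, h3])) (k _ (by rw [F.ede, h3, ez, h.zρ])), h.oeρ⟩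

/-- Proof. `(o ρ') ^ 3 ∈ ρ' ^ 3 O = O` and `(e o ρ')² ∈ (e ρ')² O = O` by `conj_O`; an element
whose cube has odd order has odd order. -/
theorem Rr.mul {F : Fr G} {ρ' o : G} (h : F.Rr ρ') (ho : o ∈ F.O) : F.Rr (o * ρ') := by
  have c := (F.mem_O.1 ho).1
  have k : ∀ x ∈ F.E, (o * ρ')⁻¹ * x * (o * ρ') = ρ'⁻¹ * x * ρ' := fun x hx => by
    rw [mul_inv_rev, mul_assoc, mul_assoc, ← mul_assoc x, (c x hx).eq]; group
  have cO : ∀ {g u}, g ∈ normalizer (F.E : Set G) → u ∈ F.O → g * u * g⁻¹ ∈ F.O := fun hg hu => by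
    simpa using F.conj_O (inv_mem hg) hu
  refine ⟨(c _ F.t_E).mul_right h.tρ, (c _ (F.B_E F.s_B)).mul_right h.sρ, ?_, ?_, ?_, ?_⟩
  · rw [k _ (F.B_E (F.V_B F.z_V)), h.zρ]
  · rw [k _ (F.B_E (F.V_B F.d_V)), h.dρ]
  · have : (o * ρ') ^ 3 ∈ F.O := by
      rw [show (o * ρ') ^ 3 = o * (ρ' * (o * (ρ' * o * ρ'⁻¹)) * ρ'⁻¹) * ρ' ^ 3 by simp [pow_succ, mul_assoc]]
      exact mul_mem (mul_mem ho (cO h.nE (mul_mem ho (cO h.nE ho)))) h.cube
    refine (Odd.mul (by decide : Odd 3) (F.mem_O.1 this).2).of_dvd_nat (orderOf_dvd_of_pow_eq_one ?_)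
    rw [pow_mul, pow_orderOf_eq_one]
  · refine (F.mem_O.1 ?_).2
    have a := cO F.e_nE ho
    rw [show (F.e * (o * ρ')) ^ 2 = F.e * o * F.e⁻¹ * (F.e * ρ' * (F.e * o * F.e⁻¹) * (F.e * ρ')⁻¹) *
      (F.e * ρ') ^ 2 by simp [pow_succ, mul_assoc]]
    exact mul_mem (mul_mem a (cO (mul_mem F.e_nE h.nE) a)) h.sq

/-- `A × B`-lemma. Proof. Let `C = Y ⊓ C(o) ≥ E` and suppose `C < Y`; `N = N_Y(C) > C` is
`o`-invariant. For `n ∈ N`, `x ∈ C`: `n x n⁻¹ ∈ C` is fixed by `o`, hence `k = n⁻¹ (o⁻¹ n o)`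
centralises `C ∋ t`, so `k ∈ E ≤ C` (`hc`). So `o⁻¹ n o = n k`, `o ^ -j n o ^ j = n k ^ j`,
`k² = 1`, `j = orderOf o` odd gives `k = 1`, `n ∈ C`; contradiction with the normaliser
condition in the 2-group `Y`. -/
theorem odd_cent {Y : Subgroup G} (hY : IsPGroup 2 Y) (hE : F.E ≤ Y)
    (hc : ∀ y ∈ Y, Commute F.t y → y ∈ F.E) {o : G} (ho : o ∈ F.O)
    (hn : o ∈ normalizer (Y : Set G)) : ∀ y ∈ Y, Commute o y := by
  haveI := Fact.mk Nat.prime_two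
  obtain ⟨h1, m, h2⟩ := F.mem_O.1 ho
  have mC : ∀ {x}, x ∈ centralizer {o} ↔ x * o = o * x := mem_centralizer_singleton_iff
  by_contra hne
  have lt : Y ⊓ centralizer {o} < Y := lt_of_le_of_ne inf_le_left fun e =>
    hne fun y hy => (mC.1 (e.ge hy).2).symm
  obtain ⟨n, ⟨n1, n2⟩, n3⟩ := SetLike.exists_of_lt (lt_inf_normalizer_of_lt hY lt)
  have tC : F.t ∈ Y ⊓ centralizer {o} := ⟨hE F.t_E, mC.2 (h1 _ F.t_E)⟩
  have kE : n⁻¹ * (o⁻¹ * n * o) ∈ F.E := by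
    refine hc _ (mul_mem (inv_mem n1) (cj' hn n1)) ?_
    have a := mC.1 (cj n2 tC).2
    have b := (h1 _ F.t_E).eq
    change F.t * (n⁻¹ * (o⁻¹ * n * o)) = n⁻¹ * (o⁻¹ * n * o) * F.t
    calc F.t * (n⁻¹ * (o⁻¹ * n * o)) = n⁻¹ * o⁻¹ * (o * (n * F.t * n⁻¹)) * o⁻¹ * n * o := by group
      _ = n⁻¹ * o⁻¹ * n * (F.t * o) := by rw [← a]; group
      _ = _ := by rw [b]; group
  generalize hk : n⁻¹ * (o⁻¹ * n * o) = k at kE
  have e1 : n * o = o * n * k := by rw [← hk]; group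
  have ko := h1 k kE
  have e2 : ∀ j : ℕ, n * o ^ j = o ^ j * n * k ^ j := fun j => by
    induction j with
    | zero => simp
    | succ j ih =>
      rw [pow_succ, ← mul_assoc, ih, mul_assoc, (ko.pow_left j).eq, ← mul_assoc, mul_assoc (o ^ j), e1, pow_succ' k]
      group
  have e3 := e2 (orderOf o)
  rw [pow_orderOf_eq_one, h2, pow_succ, pow_mul, sq, F.el_E kE, one_pow, one_mul, one_mul, mul_one,
    left_eq_mul] at e3
  rw [e3, mul_one] at e1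
  exact n3 ⟨n1, mC.2 e1⟩

/-- Frattini lift. `Q` is `O1`-by-2-group, `e` and `ρ'` normalise `Q` and `O1`.
Proof. `O1 ⊴ H = Q ⊔ zpowers e`. `Y ⊔ zpowers e` is a 2-subgroup of `H`; take a Sylow
2-subgroup `P` of `H` above it and `Y' = P ⊓ Q`, a Sylow 2-subgroup of the normal subgroup `Q`,
normalised by `e`. `Q / O1` is a 2-group, so `Q = O1 Y'` (the index of `O1 ⊔ Y'` in `Q` is odd
and a power of 2). `ρ'⁻¹ Y' ρ'` is a Sylow 2-subgroup of `Q`, so it is `q⁻¹ Y' q`, `q ∈ Q`;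
`ρ' q⁻¹` normalises `Y'`; write `ρ' q⁻¹ ρ'⁻¹ = y o`-type element with `Q = Y' O1 = O1 Y'`:
`ρ' q⁻¹ = q' ρ'` with `q' = y o ∈ Q`, so `o ρ' = y⁻¹ (q' ρ')` normalises `Y'`. -/
theorem lift {Q O1 Y : Subgroup G} {ρ' : G} (hO : O1 ≤ F.O) (hOQ : O1 ≤ Q)
    (hn : Q ≤ normalizer (O1 : Set G)) (heO : F.e ∈ normalizer (O1 : Set G))
    (hρO : ρ' ∈ normalizer (O1 : Set G)) (heQ : F.e ∈ normalizer (Q : Set G))
    (hρQ : ρ' ∈ normalizer (Q : Set G)) (h2 : ∀ q ∈ Q, ∃ k : ℕ, q ^ 2 ^ k ∈ O1)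
    (hY : IsPGroup 2 Y) (hYQ : Y ≤ Q) (heY : F.e ∈ normalizer (Y : Set G)) :
    ∃ Y' : Subgroup G, IsPGroup 2 Y' ∧ Y ≤ Y' ∧ Y' ≤ Q ∧ F.e ∈ normalizer (Y' : Set G) ∧
      (∀ q ∈ Q, ∃ y ∈ Y', ∃ o ∈ O1, q = o * y) ∧
      ∃ o ∈ O1, o * ρ' ∈ normalizer (Y' : Set G) := by
  haveI := Fact.mk Nat.prime_two
  have pe : IsPGroup 2 (zpowers F.e) := isPGroup_zpowers (k := 1) (by rw [pow_one, sq, F.ee])
  obtain ⟨P, hP, hle⟩ := exists_sylIn_ge (isPGroup_sup_of_normalizes' hY pe (zpowers_le.2 heY))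
    (sup_le_sup_right hYQ (zpowers F.e))
  have s := hP.inf_normal_of_le (sup_le le_normalizer (zpowers_le.2 heQ)) le_sup_left
  have dec : ∀ q ∈ Q, ∃ y ∈ P ⊓ Q, ∃ o ∈ O1, q = o * y := by
    haveI : (O1.subgroupOf Q).Normal := (normal_subgroupOf_iff_le_normalizer hOQ).2 hn
    have p : IsPGroup 2 (Q ⧸ O1.subgroupOf Q) := fun x => by
      obtain ⟨q, rfl⟩ := QuotientGroup.mk_surjective x
      obtain ⟨k, hk⟩ := h2 q q.2
      exact ⟨k, by rw [← QuotientGroup.mk_pow]; exact (QuotientGroup.eq_one_iff _).2 hk⟩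
    obtain ⟨k, hk⟩ := IsPGroup.iff_card.1 p
    have d1 : (O1 ⊔ P ⊓ Q).relIndex Q ∣ 2 ^ k := hk ▸ relIndex_dvd_of_le_left Q le_sup_left
    have d2 : (O1 ⊔ P ⊓ Q).relIndex Q ∣ (P ⊓ Q).relIndex Q := relIndex_dvd_of_le_left Q le_sup_right
    have d3 := relIndex_eq_one.1 (Nat.eq_one_of_dvd_coprimes
      (((Nat.Prime.coprime_iff_not_dvd Nat.prime_two).2 s.not_dvd_relIndex).pow_left k) d1 d2)
    intro q hq
    obtain ⟨o, ho, y, hy, e⟩ := (mem_sup_of_normalizes_left (inf_le_right.trans hn)).1 (d3 hq)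
    exact ⟨y, hy, o, ho, e.symm⟩
  refine ⟨P ⊓ Q, s.pgroup, le_inf (le_sup_left.trans hle) hYQ, inf_le_right,
    MSS.le_normalizer_inf ((le_sup_right.trans hle).trans le_normalizer) (zpowers_le.2 heQ)
      (mem_zpowers F.e), dec, ?_⟩
  obtain ⟨q, hq, y, hy, e⟩ := s.frattini hρQ
  obtain ⟨y', hy', o, ho, rfl⟩ := dec q hq
  refine ⟨o⁻¹, inv_mem ho, ?_⟩
  rw [e, mul_assoc, inv_mul_cancel_left]
  exact mul_mem (le_normalizer hy') hy

/-- A `c'` normalising `Y1`. Proof. Let `N = N(T0)` and `R ≥ Y1` a Sylow 2-subgroup of `N`.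
`N ⊓ N(E)` has index exactly 2 in `N` (`nT0_cases`, `cr.nT0`, `cr.not_nE`) and contains `Y1` of
order 128, so `256 ∣ |N|`, `256 ≤ |R|`. `R` normalises `Z(T0)` (`cen_T0`), so a conjugate of `t`
under `R` is one of `t, t z, t s, t s z` (`hB`); hence `|R| ≤ 4 |C_R(t)| ≤ 4 * 64` (`bT`). So
`|R| = 256`, `Y1` has index 2 in `R` and is normal, `|C_R(t)| = 64 > 32 = |T0|`; apply
`exists_c` to `C_R(t)`. -/
theorem cprime (h2 : F.s ≠ 1) (hB : ∀ b ∈ F.B, ¬ IsConj F.t b) {Y1 : Subgroup G}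
    (hY : IsPGroup 2 Y1) (h0 : F.T0 ≤ Y1) (hn0 : Y1 ≤ normalizer (F.T0 : Set G))
    (hnE : Y1 ≤ normalizer (F.E : Set G)) (hc : Nat.card Y1 = 128) :
    ∃ c', F.Cr c' ∧ c' ∈ normalizer (Y1 : Set G) ∧ IsPGroup 2 ↥(Y1 ⊔ zpowers c') := by
  haveI := Fact.mk Nat.prime_two
  obtain ⟨R, hR, hle⟩ := exists_sylIn_ge hY hn0
  have i2 : (normalizer (F.E : Set G)).relIndex (normalizer (F.T0 : Set G)) = 2 := by
    rw [relIndex, index_eq_two_iff]
    refine ⟨⟨F.c, F.cr.nT0⟩, fun b => ?_⟩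
    simp only [mem_subgroupOf, coe_mul]
    rcases F.nT0_cases b.2 with k | k
    · exact Or.inr ⟨k, fun l => F.cr.not_nE ((mul_mem_cancel_left k).1 l)⟩
    · exact Or.inl ⟨k, fun l => F.cr.not_nE ((mul_mem_cancel_left l).1 k)⟩
  have d : 2 ^ 8 ∣ Nat.card R := by
    have a := card_rel (inf_le_right : normalizer (F.E : Set G) ⊓ normalizer (F.T0 : Set G) ≤ _)
    rw [inf_relIndex_right, i2, ← card_rel hR.le] at a
    refine Nat.Coprime.dvd_of_dvd_mul_right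
      (((Nat.Prime.coprime_iff_not_dvd Nat.prime_two).2 hR.not_dvd_relIndex).pow_left 8) ?_
    rw [← a, pow_succ]
    exact Nat.mul_dvd_mul_right (hc ▸ card_dvd_of_le (le_inf hnE hn0) : 128 ∣ _) 2
  have c1 := JR.card_inf_mul_ncard_conj R F.t
  have mC : ∀ {x}, x ∈ centralizer {F.t} ↔ Commute F.t x := mem_centralizer_singleton_iff.trans ⟨Eq.symm, Eq.symm⟩
  have c2 := F.bT (IsConj.refl _) (R ⊓ centralizer {F.t}) (hR.pgroup.to_le inf_le_left) fun y hy => mC.1 hy.2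
  have c3 : {y | ∃ a ∈ R, a * F.t * a⁻¹ = y}.ncard ≤ 4 := by
    refine (Set.ncard_le_ncard (t := {F.t, F.t * F.z, F.t * F.s, F.t * (F.s * F.z)}) ?_).trans
      ((Set.ncard_insert_le _ _).trans (Nat.succ_le_succ ((Set.ncard_insert_le _ _).trans (Nat.succ_le_succ
        ((Set.ncard_insert_le _ _).trans (by simp))))))
    rintro _ ⟨a, ha, rfl⟩
    have k : ∀ x ∈ F.T0, Commute x (a * F.t * a⁻¹) := fun x hx => by
      have := (F.t_T (F.T0_T (cj' (hR.le ha) hx))).eq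
      change x * (a * F.t * a⁻¹) = a * F.t * a⁻¹ * x
      calc x * (a * F.t * a⁻¹) = a * (a⁻¹ * x * a * F.t) * a⁻¹ := by group
        _ = _ := by rw [← this]; group
    obtain ⟨b, hb, e | e⟩ := F.cen_T0 (cj (hR.le ha) (F.E_T0 F.t_E)) (k _ (F.E_T0 (F.B_E (F.V_B F.d_V))))
      (k _ F.e_T0)
    · refine absurd (isConj_iff.2 ⟨a, e⟩) (hB b ?_)
      rcases hb with rfl | rfl | rfl | rfl
      exacts [one_mem _, F.V_B F.z_V, F.s_B, mul_mem F.s_B (F.V_B F.z_V)]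
    · rw [e]; rcases hb with rfl | rfl | rfl | rfl <;> simp
  rw [F.card_B h2] at c2
  have c4 := Nat.le_of_dvd Nat.card_pos d
  have c5 := Nat.mul_le_mul c2 c3
  have c6 : Nat.card R = 256 := by omega
  have c7 : 32 < Nat.card (R ⊓ centralizer {F.t} : Subgroup G) := by
    by_contra l
    have := Nat.mul_le_mul (not_lt.1 l) c3
    omega
  obtain ⟨c', m, cr, -⟩ := F.exists_c (R ⊓ centralizer {F.t}) (hR.pgroup.to_le inf_le_left) (fun y hy => mC.1 hy.2)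
    (lt_of_le_of_ne (le_inf (h0.trans hle) fun x hx => mC.2 (F.t_T (F.T0_T hx))) fun e => by
      rw [← e, F.card_T0, F.card_B h2] at c7; omega)
  have i : Y1.relIndex R = 2 := by
    have := card_rel hle
    rw [hc, c6] at this
    omega
  exact ⟨c', cr, (normal_subgroupOf_iff_le_normalizer hle).1 (normal_of_index_eq_two i) m.1,
    hR.pgroup.to_le (sup_le hle (zpowers_le.2 m.1))⟩

/-- The input of Lemma A. Proof. `A ⊓ C(t) = B` and `B ⊔ closure {t, e} = T0`. `max0`: `Y`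
normalises `A ⊓ C(t) = B` and fixes `t`, so normalises `E`; `sylT0`. `up`: `exists_c`, take
`g = c' d` (`Cr.cd`; `g ∉ T0` because `T0 ≤ N(E)` and `Cr.not_nE`). `fus`: if `t a` is
conjugate to `t` it is an involution, so `a` commutes with `t`, `a ∈ B`, use `hfus`.
`big2`: `A ⊓ C(t, e) = C_B(e)` has order `|B| / 2` (`fix_e`) and `4 |B| ≤ |A|`.
`big` for `t`: `h4`; for `u = e, t e`: `A ⊓ C(u) ≤ A1 < A` and `d ∈ A1` does not commute with
`u`, so `A ⊓ C(u) < A1 < A`, a chain of 2-groups. `lc`: `F.lc`. -/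
theorem mkLA {A A1 : Subgroup G} (hel : ∀ a ∈ A, a * a = 1) (hc : Nat.card A ≤ 64)
    (hBA : F.B ≤ A1) (hA1 : A1 < A) (hct : ∀ a ∈ A, Commute F.t a → a ∈ F.B)
    (htA : ∀ a ∈ A, F.t * a * F.t ∈ A) (heA : ∀ a ∈ A, F.e * a * F.e ∈ A)
    (h4 : 4 * Nat.card F.B ≤ Nat.card A)
    (he : ∀ a ∈ A, Commute F.e a ∨ Commute (F.t * F.e) a → a ∈ A1)
    (hfus : ∀ b ∈ F.B, IsConj F.t (F.t * b) → ∃ a ∈ A, a⁻¹ * F.t * a = F.t * b) :
    Nonempty (LA G) := by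
  have mC : ∀ {u x : G}, x ∈ centralizer {u} ↔ Commute u x := mem_centralizer_singleton_iff.trans ⟨Eq.symm, Eq.symm⟩
  have BA : F.B ≤ A := hBA.trans hA1.le
  have eB : A ⊓ centralizer {F.t} = F.B := le_antisymm (fun a ha => hct a ha.1 (mC.1 ha.2))
    (le_inf BA fun b hb => mC.2 (F.comm_E F.t_E (F.B_E hb)))
  have eT : F.B ⊔ closure {F.t, F.e} = F.T0 := by
    refine le_antisymm (sup_le (F.B_E.trans F.E_T0) ((closure_le _).2 ?_)) ((closure_le _).2 ?_)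
    · rintro _ (rfl | rfl); exacts [F.E_T0 F.t_E, F.e_T0]
    · rintro _ (rfl | rfl | rfl | rfl)
      exacts [mem_sup_right (subset_closure (by simp)), mem_sup_left F.s_B, mem_sup_left (F.V_B F.d_V),
        mem_sup_right (subset_closure (by simp))]
  have dB := F.V_B F.d_V
  have ned : ¬ Commute F.e F.d := fun c => F.z1 (by
    have := F.ede
    rwa [c.eq, mul_assoc, F.ee, mul_one, left_eq_mul] at this)
  have ch : ∀ u, (∀ a ∈ A, Commute u a → a ∈ A1) → ¬ Commute u F.d →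
      4 * Nat.card ↥(A ⊓ centralizer {u}) ≤ Nat.card A := fun u h1 h2 => by
    have a := two_le hA1
    have b := two_le (H := A ⊓ centralizer {u}) (K := A1) (lt_of_le_of_ne (fun a ha => h1 a ha.1 (mC.1 ha.2))
      fun e => h2 (mC.1 (e.ge (hBA dB)).2))
    omega
  refine ⟨⟨A, F.t, F.e, hel, hc, F.tt, F.ee, F.te, htA, heA, ?_, ?_, fun a ha k => hfus a (hct a ha ?_) k,
    fun Y hY ht hn => ?_, fun Y hY ht lt => ?_, fun u => F.lc⟩⟩
  · rintro u (rfl | rfl | rfl)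
    · rwa [eB]
    · exact ch _ (fun a ha k => he a ha (Or.inl k)) ned
    · exact ch _ (fun a ha k => he a ha (Or.inr k)) fun c => ned (by
        simpa [← mul_assoc, F.tt] using F.td.mul_left c)
  · have b := two_le (H := A ⊓ centralizer {F.t, F.e}) (K := F.B) (lt_of_le_of_ne
      (fun a ha => hct a ha.1 (ha.2 _ (by simp))) fun e => ned ((e.ge dB).2 _ (by simp)))
    omega
  · obtain ⟨g, e⟩ := isConj_iff.1 k
    have : F.t * a * (F.t * a) = 1 := by rw [← e, conj_mul, F.tt]; simp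
    change F.t * a = a * F.t
    rw [eq_inv_of_mul_eq_one_left this, mul_inv_rev, inv_eq_of_mul_eq_one_right F.tt,
      inv_eq_of_mul_eq_one_right (hel a ha)]
  · rw [eB]
    refine F.sylT0 Y hY ht fun y hy => nm_of fun x hx => ?_
    have yt : y * F.t * y⁻¹ = F.t := by rw [← (ht y hy).eq, mul_inv_cancel_right]
    have k : ∀ b ∈ F.B, y * b * y⁻¹ ∈ F.B := fun b hb => hct _ (cj (hn hy) (BA hb)) (by
      rw [← yt]; exact (F.comm_E F.t_E (F.B_E hb)).conj y)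
    obtain ⟨b, hb, rfl | rfl⟩ := F.mem_E.1 hx
    · exact F.B_E (k _ hb)
    · rw [← conj_mul, yt]; exact mul_mem F.t_E (F.B_E (k _ hb))
  · rw [eB, eT] at lt ⊢
    obtain ⟨c', m, cr, -⟩ := F.exists_c Y hY ht lt
    have dT := F.E_T0 (F.B_E dB)
    refine ⟨c' * F.d, mul_mem m (lt.le dT), fun k => cr.not_nE (T0_nE F ((mul_mem_cancel_right dT).1 k)), ?_⟩
    rw [cr.cd]
    exact ⟨F.z1, BA (F.V_B F.z_V), F.ze.symm⟩

end CL.HL.Fr
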