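import Cfsg.Agent.INV.HL.Orba

/-! S3139: the orbit of `t` in `E` and the construction of `U`. Notation: `x ^ g = g⁻¹ * x * g`,
`~` is conjugacy in `G`. -/

set_option autoImplicit false
open Subgroup CL.MSS CL.HL.Od CL.HL.Ob

namespace CL.HL
variable {G : Type*} [Group G] [Finite G]

/-- Construction of `U`. `N0` is normal in `N(E) = N0 · C_{N(E)}(t)`, `N0 / C(E)` elementary.
Proof. Apply `Fr.lift` with `Q = N0`, `O1 = F.O`, `Y = E`, `ρ' = F.ρ` (`q² ∈ C(E) = E × O`, so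
`q ^ 4 ∈ O`; `conj_O`), `F' = F.withρ (F.rr.mul ho)`, `U = Y'`. `cU`: `hC` and `memE`.
`syl`: let `Y ≥ U`, `e ∈ Y`, `y ∈ Y ≤ N(E)`. By `htr` and `q = o u` there is `u ∈ U` with
`t ^ u = t ^ y`, so `y u⁻¹ ∈ Y` centralises `t`, lies in `T0` (`memT0`, `T0 ≤ Y`), and
`T0 = E ∪ E e`, `e` normalises `U`. -/
theorem mkU (F : Fr G) (N0 : Subgroup G) (hN : N0 ≤ normalizer (F.E : Set G))
    (hCE : ∀ g, (∀ x ∈ F.E, Commute x g) → g ∈ N0)
    (he : F.e ∈ normalizer (N0 : Set G)) (hρ : F.ρ ∈ normalizer (N0 : Set G))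
    (hsq : ∀ g ∈ N0, ∀ x ∈ F.E, Commute x (g * g))
    (hC : ∀ g ∈ N0, Commute F.t g → ∀ x ∈ F.E, Commute x g)
    (htr : ∀ n ∈ normalizer (F.E : Set G), ∃ g ∈ N0, g⁻¹ * F.t * g = n⁻¹ * F.t * n)
    (hB : ∀ b ∈ F.B, ¬ IsConj F.t b) :
    ∃ (ρ' : G) (h : F.Rr ρ') (D : UD (F.withρ h)), D.U ≤ N0 ∧
      ∀ g ∈ N0, ∃ u ∈ D.U, ∀ x ∈ F.E, u⁻¹ * x * u = g⁻¹ * x * g := by
  have hE0 : F.E ≤ N0 := fun x hx => hCE x fun y hy => F.comm_E hy hx
  have nO : ∀ {g}, g ∈ normalizer (F.E : Set G) → g ∈ normalizer (F.O : Set G) := fun hg =>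
    nm_of fun o ho => by simpa using F.conj_O (inv_mem hg) ho
  obtain ⟨U, pU, EU, UN, eU, dec, o, ho, hρ'⟩ := F.lift le_rfl (fun o ho => hCE o (F.mem_O.1 ho).1)
    (fun g hg => nO (hN hg)) (nO F.e_nE) (nO F.ρ_nE) he hρ (fun q hq => ⟨2, by
      obtain ⟨x, hx, o, ho, e⟩ := F.dec_O (hsq q hq)
      have : q ^ 2 ^ 2 = o * o := by
        rw [show q ^ 2 ^ 2 = q * q * (q * q) by simp [pow_succ, mul_assoc], e, mul_assoc, ← mul_assoc o,
          ← ((F.mem_O.1 ho).1 x hx).eq, ← mul_assoc, ← mul_assoc, F.el_E hx, one_mul]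
      exact this ▸ mul_mem ho ho⟩) F.p2_E hE0 F.e_nE
  have rep : ∀ g ∈ N0, ∃ u ∈ U, ∀ x ∈ F.E, u⁻¹ * x * u = g⁻¹ * x * g := fun g hg => by
    obtain ⟨u, hu, o, ho, rfl⟩ := dec g hg
    exact ⟨u, hu, fun x hx => by rw [cc, fx ((F.mem_O.1 ho).1 x hx)]⟩
  refine ⟨o * F.ρ, F.rr.mul ho, ⟨U, pU, EU, UN.trans hN, fun u hu ht => ?_, eU, hρ', fun Y pY YN UY eY y hy => ?_,
    hB⟩, UN, rep⟩
  · have c := hC u (UN hu) ht
    exact F.memE pU EU hu ht (c _ (F.B_E (z_B F))) (c _ (F.B_E (d_B F)))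
  · obtain ⟨g, hg, e⟩ := htr y (YN hy)
    obtain ⟨u, hu, f⟩ := rep g hg
    have T0Y : F.T0 ≤ Y := fun x hx => by
      obtain ⟨w, hw, rfl | rfl⟩ := F.mem_T0.1 hx
      exacts [UY (EU hw), mul_mem (UY (EU hw)) eY]
    have m := mul_mem hy (inv_mem (UY hu))
    obtain ⟨w, hw, k | k⟩ := F.mem_T0.1 (F.memT0 pY T0Y m (xf (by rw [cc, ← e, ← f _ F.t_E]; group)) (YN m))
    · exact Or.inl (mul_inv_eq_iff_eq_mul.1 k ▸ mul_mem (EU hw) hu)
    · refine Or.inr ?_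
      have := mul_mem (EU hw) (cj' eU hu)
      rw [ei, ← mul_assoc, ← mul_assoc, ← k] at this
      change y * F.e ∈ U
      simpa using this

namespace Ob
variable (F : Fr G)

/-- `U` inducing translations. -/
theorem mkC (hB : ∀ b ∈ F.B, ¬ IsConj F.t b) (htr : ∀ b ∈ F.B, IsConj F.t (F.t * b) → Tr F b) :
    ∃ (ρ' : G) (h : F.Rr ρ') (D : UD (F.withρ h)), (∀ u ∈ D.U, ∀ b ∈ F.B, Commute b u) ∧
      ∀ b, Tr F b → ∃ u ∈ D.U, u⁻¹ * F.t * u = F.t * b := by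
  have tb : ∀ n ∈ normalizer (F.E : Set G), ∃ b ∈ F.B, n⁻¹ * F.t * n = F.t * b := fun n hn => by
    obtain ⟨b, hb, e | e⟩ := F.mem_E.1 (cj' hn F.t_E)
    exacts [absurd (e ▸ icj n F.t) (hB b hb), ⟨b, hb, e⟩]
  have nm : ∀ h ∈ normalizer (F.E : Set G), Commute F.t h →
      h ∈ normalizer ((normalizer (F.E : Set G) ⊓ centralizer (F.B : Set G) : Subgroup G) : Set G) :=
    fun h hn ht => nm_of fun k hk => ⟨Subgroup.mul_mem _ (Subgroup.mul_mem _ hn hk.1) (Subgroup.inv_mem _ hn), fun b hb => xf (by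
      calc _ = h * (k⁻¹ * (h⁻¹ * b * h) * k) * h⁻¹ := by group
        _ = b := by rw [fx (hk.2 _ (stB F hn ht b hb))]; group)⟩
  obtain ⟨ρ', h, D, h1, h2⟩ := mkU F (normalizer (F.E : Set G) ⊓ centralizer (F.B : Set G)) inf_le_left
    (fun g hg => ⟨centralizer_le_normalizer _ hg, fun b hb => hg b (F.B_E hb)⟩)
    (nm _ F.e_nE F.te) (nm _ F.ρ_nE F.tρ)
    (fun g hg => cE_of F (by
      obtain ⟨b, hb, e⟩ := tb g hg.1
      exact xf (by rw [cc, e, cm, e, fx (hg.2 b hb), mul_assoc, F.el_E (F.B_E hb), mul_one]))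
      fun b hb => Commute.mul_right (hg.2 b hb) (hg.2 b hb))
    (fun g hg ht => cE_of F ht hg.2)
    (fun n hn => by
      obtain ⟨b, hb, e⟩ := tb n hn
      obtain ⟨g, g1, g2, g3⟩ := htr b hb (e ▸ icj n F.t)
      exact ⟨g, ⟨g1, g2⟩, g3.trans e.symm⟩) hB
  refine ⟨ρ', h, D, fun u hu => (h1 hu).2, ?_⟩
  rintro b ⟨g, g1, g2, g3⟩
  obtain ⟨u, hu, e⟩ := h2 g ⟨g1, g2⟩
  exact ⟨u, hu, (e _ F.t_E).trans g3⟩

theorem K4_of (hΩ : ∀ x ∈ F.E, IsConj F.t x → ∃ v ∈ F.V, x = F.t * v) (hz : Tr F F.z) :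
    ∃ F' : Fr G, Nonempty (K4 F') := by
  have tr := hz.V F.z_V F.z1
  have horb : ∀ b ∈ F.B, IsConj F.t (F.t * b) → b ∈ F.V := fun b hb h => by
    obtain ⟨v, hv, e⟩ := hΩ _ (mul_mem F.t_E (F.B_E hb)) h
    exact mul_left_cancel e ▸ hv
  obtain ⟨ρ', h, D, h1, h2⟩ := mkC F (fun b hb h => by
    obtain ⟨v, hv, rfl⟩ := hΩ _ (F.B_E hb) h
    exact F.t_nB ((F.B.mul_mem_cancel_right (F.V_B hv)).1 hb)) fun b hb h => tr b (horb b hb h)
  refine ⟨_, ⟨⟨D, h1, fun v hv => h2 v (tr v hv), horb, fun g hg _ _ => ?_⟩⟩⟩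
  obtain ⟨v, hv, e⟩ := hΩ _ (cj' hg F.t_E) (icj g F.t)
  obtain ⟨k, k1, k2, k3⟩ := tr v hv
  have := (F.stab (mul_mem hg (inv_mem k1)) (xf (by rw [cc]; erw [e]; exact bk k3))).1
  change Commute F.s g
  simpa using this.mul_right (k2 _ F.s_B)

theorem T8_of (h2 : F.s ≠ 1) (hB : ∀ b ∈ F.B, ¬ IsConj F.t b) (hs : Tr F F.s) {v : G} (hv : v ∈ F.V)
    (v1 : v ≠ 1) (hz : Tr F v) : ∃ F' : Fr G, Nonempty (T8 F') := by
  have tr : ∀ b ∈ F.B, Tr F b := fun b hb => by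
    obtain ⟨w, hw, rfl | rfl⟩ := F.mem_B.1 hb
    exacts [hz.V hv v1 _ hw, hs.mul (F.V_B hw) (hz.V hv v1 _ hw)]
  obtain ⟨ρ', h, D, h1, h3⟩ := mkC F hB fun b hb _ => tr b hb
  exact ⟨_, ⟨⟨D, h2, h1, fun b hb => h3 b (tr b hb)⟩⟩⟩

theorem N8_of (h2 : F.s ≠ 1) (hB : ∀ b ∈ F.B, ¬ IsConj F.t b) {m g : G} (hm : m ∈ M F)
    (mt : m⁻¹ * F.t * m = F.t * F.s) (mz : Commute F.z m) (md : Commute F.d m) (hg : g ∈ M F)
    (gt : g⁻¹ * F.t * g = F.t * F.z) (gz : Commute F.z g) (gd : g⁻¹ * F.d * g = F.d * F.s) :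
    ∃ F' : Fr G, Nonempty (N8 F') := by
  have mB := cB_of F hm.2.1 mz md
  let P : G → Prop := fun b => ∃ k ∈ M F, k⁻¹ * F.t * k = F.t * b ∧ Commute b k
  have Ps : ∀ b ∈ F.B, P b → P (F.s * b) := by
    rintro b hb ⟨k, k1, k2, k3⟩
    exact ⟨k * m, mul_mem k1 hm, by rw [cc, k2, cm, mt, fx (mB b hb), mul_assoc],
      (k1.2.1.mul_left k3).mul_right (mB _ (mul_mem F.s_B hb))⟩
  have Pρ : ∀ b, P b → P (F.ρ⁻¹ * b * F.ρ) := by
    rintro b ⟨k, k1, k2, k3⟩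
    refine ⟨_, M_cj F F.ρ_nE F.tρ k1, ?_, xf ?_⟩
    · rw [cc, cc, fx F.tρ.inv_right, k2, cm, fx F.tρ]
    · rw [cc, cc, bk rfl, fx k3]
  have PV : ∀ v ∈ F.V, P v := fun v hv => by
    have z : P F.z := ⟨g, hg, gt, gz⟩
    have d : P F.d := F.zρ' ▸ Pρ _ z
    rcases F.mem_V.1 hv with rfl | rfl | rfl | rfl
    exacts [⟨1, one_mem _, by simp, Commute.one_right _⟩, z, d, F.dρ' ▸ Pρ _ d]
  have PB : ∀ b ∈ F.B, P b := fun b hb => by
    obtain ⟨w, hw, rfl | rfl⟩ := F.mem_B.1 hb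
    exacts [PV _ hw, Ps _ (F.V_B hw) (PV _ hw)]
  have tb : ∀ n ∈ normalizer (F.E : Set G), ∃ b ∈ F.B, n⁻¹ * F.t * n = F.t * b := fun n hn => by
    obtain ⟨b, hb, e | e⟩ := F.mem_E.1 (cj' hn F.t_E)
    exacts [absurd (e ▸ icj n F.t) (hB b hb), ⟨b, hb, e⟩]
  have sq : ∀ k ∈ M F, Commute F.t (k * k) := fun k hk => by
    obtain ⟨b, hb, e⟩ := tb k hk.1
    obtain ⟨l, l1, l2, l3⟩ := PB b hb
    exact xf (by rw [cc, e, cm, e, M_eq F h2 hk l1 (e.trans l2.symm) (F.B_E hb), fx l3, mul_assoc,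
      F.el_E (F.B_E hb), mul_one])
  obtain ⟨ρ', h, D, h1, h3⟩ := mkU F (M F) (fun k hk => hk.1)
    (fun g hg => ⟨centralizer_le_normalizer _ hg, hg _ (F.B_E F.s_B), fun b hb => Or.inl (fx (hg b (F.B_E hb)))⟩)
    (M_nm F F.e_nE F.te) (M_nm F F.ρ_nE F.tρ) (fun k hk => M_C F h2 (mul_mem hk hk) (sq k hk))
    (fun k hk => M_C F h2 hk)
    (fun n hn => by
      obtain ⟨b, hb, e⟩ := tb n hn
      obtain ⟨l, l1, l2, -⟩ := PB b hb
      exact ⟨l, l1, l2.trans e.symm⟩) hB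
  refine ⟨_, ⟨⟨D, h2, fun u hu => (h1 hu).2.2, fun u hu => (h1 hu).2.1,
    fun u hu => D.cU _ (mul_mem hu hu) (sq u (h1 hu)), fun b hb => ?_, ?_, ?_⟩⟩⟩
  · obtain ⟨l, l1, l2, -⟩ := PB b hb
    obtain ⟨u, hu, e⟩ := h3 l l1
    exact ⟨u, hu, (e _ F.t_E).trans l2⟩
  · obtain ⟨u, hu, e⟩ := h3 m hm
    exact ⟨u, hu, (e _ F.t_E).trans mt, xf ((e _ (F.B_E (z_B F))).trans (fx mz)),
      xf ((e _ (F.B_E (d_B F))).trans (fx md))⟩
  · obtain ⟨u, hu, e⟩ := h3 _ (mul_mem hg hm)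
    refine ⟨u, hu, (e _ F.t_E).trans ?_, xf ((e _ (F.B_E (z_B F))).trans (fx (gz.mul_right mz))),
      (e _ (F.B_E (d_B F))).trans ?_⟩
    · rw [cc, gt, cm, mt, fx mz, mul_assoc, F.sz.eq, ← mul_assoc]; rfl
    · rw [cc, gd, fx (md.mul_left hm.2.1)]; rfl

/-- `Ω = t V`. -/
theorem caseA (h : IsConj F.t (F.t * F.z)) (hΩ : ∀ x ∈ F.E, IsConj F.t x → ∃ v ∈ F.V, x = F.t * v) :
    ∃ F' : Fr G, Nonempty (K4 F') := by
  have tV : ∀ v ∈ F.V, IsConj F.t (F.t * v) := fun v hv => by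
    by_cases v1 : v = 1
    exacts [by rw [v1, mul_one], h.trans (F.cj_tV hv v1)]
  obtain ⟨g, hg, e⟩ := F.ctrl (mul_mem F.t_E (F.B_E (z_B F))) h
  obtain ⟨n, hn, nt, nz, nd⟩ := adjV F hg fun v hv => by
    obtain ⟨a, ha, ea⟩ := hΩ _ (cj hg F.t_E) (isConj_iff.2 ⟨g, rfl⟩)
    obtain ⟨b, hb, eb⟩ := hΩ _ (cj hg (mul_mem F.t_E (F.B_E (F.V_B hv)))) ((tV v hv).trans (isConj_iff.2 ⟨g, rfl⟩))
    have : g * v * g⁻¹ = a⁻¹ * b := by
      calc _ = (g * F.t * g⁻¹)⁻¹ * (g * (F.t * v) * g⁻¹) := by group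
        _ = _ := by rw [ea, eb]; group
    exact this ▸ mul_mem (inv_mem ha) hb
  rw [e] at nt
  by_cases h2 : F.s = 1
  · exact K4_of F hΩ ⟨n, hn, cB_of F (h2 ▸ Commute.one_left n) nz nd, nt⟩
  rcases T1 F h2 hn nt nz nd with k | k
  · exact K4_of F hΩ ⟨n, hn, cB_of F (xf k) nz nd, nt⟩
  · refine K4_of (swap F h2) (by rw [swap_E]; exact hΩ) ⟨n, by rw [swap_E]; exact hn, cB_of _ (xf ?_) nz nd, nt⟩
    change n⁻¹ * (F.t * F.s) * n = F.t * F.s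
    rw [cm, nt, k, F.sz.eq, mul_assoc, ← mul_assoc F.z, F.zz, one_mul]

/-- `Ω = E \ V` is impossible. -/
theorem caseB (h2 : F.s ≠ 1) (h : IsConj F.t (F.t * F.z)) (hs : IsConj F.t F.s)
    (hts : IsConj F.t (F.t * F.s)) : False := by
  have nV : ∀ g ∈ normalizer (F.E : Set G), ∀ v ∈ F.V, g * v * g⁻¹ ∈ F.V := fun g hg v hv => by
    have k : ¬ IsConj F.t (g * v * g⁻¹) := fun k => F.nc_V hv (k.trans (isConj_iff.2 ⟨g, rfl⟩).symm)
    obtain ⟨b, hb, e | e⟩ := F.mem_E.1 (cj hg (F.B_E (F.V_B hv))) <;>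
      obtain ⟨w, hw, rfl | rfl⟩ := F.mem_B.1 hb <;> rw [e] at k ⊢
    · exact hw
    · exact absurd (hs.trans (F.cj_sV h2 hw)) k
    · by_cases b1 : b = 1
      exacts [absurd (by rw [b1, mul_one]) k, absurd (h.trans (F.cj_tV hw b1)) k]
    · exact absurd (hts.trans (F.cj_tsV h2 hw)) k
  obtain ⟨g, hg, e⟩ := F.ctrl (mul_mem F.t_E (F.B_E (z_B F))) h
  obtain ⟨n, hn, nt, nz, nd⟩ := adjV F hg (nV g hg)
  rw [e] at nt
  obtain ⟨x, hx, x1, x2⟩ : ∃ x ∈ F.E, IsConj F.t x ∧ Commute x n := by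
    rcases T1 F h2 hn nt nz nd with k | k
    · exact ⟨_, F.B_E F.s_B, hs, xf k⟩
    · exact ⟨_, mul_mem F.t_E (F.B_E F.s_B), hts,
        xf (by rw [cm, nt, k, F.sz.eq, mul_assoc, ← mul_assoc F.z, F.zz, one_mul])⟩
  obtain ⟨k, hk, rfl⟩ := F.ctrl hx x1
  have a : ∀ y, Commute (k⁻¹ * y * k) n → Commute y (k * n * k⁻¹) := fun y hy => xf (by rw [cc, cc, fx hy, bk rfl])
  have b : ∀ v ∈ F.V, Commute v (k * n * k⁻¹) := fun v hv =>
    a v (cV_of F nz nd _ (by simpa using nV _ (inv_mem hk) v hv))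
  have c := fx (comm_E F (a _ x2) (F.stab (mul_mem (mul_mem hk hn) (inv_mem hk)) (a _ x2)).1 (b _ F.z_V)
    (b _ F.d_V) _ (cj hk F.t_E))
  rw [cc, cc, show k⁻¹ * (k * F.t * k⁻¹) * k = F.t by group, nt] at c
  exact F.z1 (by simpa using c)

/-- `Ω = t B`. -/
theorem caseC (h2 : F.s ≠ 1) (h : IsConj F.t (F.t * F.z)) (hs : ¬ IsConj F.t F.s)
    (hts : IsConj F.t (F.t * F.s)) : ∃ F' : Fr G, Nonempty (T8 F') ∨ Nonempty (N8 F') := by
  have hB : ∀ b ∈ F.B, ¬ IsConj F.t b := fun b hb k => by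
    obtain ⟨w, hw, rfl | rfl⟩ := F.mem_B.1 hb
    exacts [F.nc_V hw k, hs (k.trans (F.cj_sV h2 hw).symm)]
  have nB : ∀ g ∈ normalizer (F.E : Set G), ∀ b ∈ F.B, g⁻¹ * b * g ∈ F.B := fun g hg b hb => by
    have k : ¬ IsConj F.t (g⁻¹ * b * g) := fun k => hB b hb (k.trans (icj g b).symm)
    obtain ⟨a, ha, e | e⟩ := F.mem_E.1 (cj' hg (F.B_E hb)) <;> rw [e] at k ⊢
    · exact ha
    · obtain ⟨w, hw, rfl | rfl⟩ := F.mem_B.1 ha
      · by_cases b1 : a = 1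
        exacts [absurd (by rw [b1, mul_one]) k, absurd (h.trans (F.cj_tV hw b1)) k]
      · exact absurd (hts.trans (F.cj_tsV h2 hw)) k
  have nB' : ∀ g ∈ normalizer (F.E : Set G), ∀ b ∈ F.B, g * b * g⁻¹ ∈ F.B := fun g hg b hb => by
    simpa using nB _ (inv_mem hg) b hb
  obtain ⟨n, hn, nt⟩ := F.ctrl (mul_mem F.t_E (F.B_E F.s_B)) hts
  have ns : Commute F.s n := by
    have k := fx (F.stab (g := n * F.ρ * n⁻¹) (mul_mem (mul_mem hn F.ρ_nE) (inv_mem hn))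
      (xf (by rw [cc, cc, nt, fx (F.tρ.mul_left F.sρ), bk nt]))).1
    rw [cc, cc] at k
    have k2 := bk k
    simp only [inv_inv] at k2
    rcases F.fix_ρ F.rr (nB n hn _ F.s_B) (xf k2.symm).symm with e | e
    exacts [absurd (inj (g := n) (by rw [e]; simp)) h2, xf e]
  obtain ⟨m, hm, mt⟩ := adjM F h2 hn ns (nB' n hn)
  rw [nt] at mt
  have mρ : ∀ x ∈ F.E, F.ρ⁻¹ * (m⁻¹ * x * m) * F.ρ = m⁻¹ * (F.ρ⁻¹ * x * F.ρ) * m := fun x hx => by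
    rw [← M_eq F h2 (M_cj F F.ρ_nE F.tρ hm) hm
      (by rw [cc, cc, fx F.tρ.inv_right, mt, fx (F.tρ.mul_left F.sρ)]) (cj' F.ρ_nE hx), cc, cc, bk rfl]
  have m1 := mρ _ (F.B_E (z_B F))
  have m2 := mρ _ (F.B_E (d_B F))
  rw [F.zρ'] at m1
  rw [F.dρ', cm m] at m2
  have mz : m⁻¹ * F.z * m = F.z := (hm.2.2 _ (z_B F)).resolve_right fun e => by
    rw [e, cm, F.zρ', fx F.sρ] at m1
    rw [← m1, e, cm, F.dρ', fx F.sρ, mul_assoc F.d F.s, ← mul_assoc F.s, F.sz.eq, mul_assoc F.z, F.ss, mul_one] at m2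
    exact h2 (by simpa using m2)
  rw [mz, F.zρ'] at m1
  have md := xf m1.symm
  have trs : Tr F F.s := ⟨m, hm.1, cB_of F hm.2.1 (xf mz) md, mt⟩
  obtain ⟨g, hg, gt⟩ := F.ctrl (mul_mem F.t_E (F.B_E (z_B F))) h
  by_cases gs : Commute F.s g
  · obtain ⟨y, hy, yt⟩ := adjM F h2 hg gs (nB' g hg)
    rw [gt] at yt
    have k := M_eq F h2 (M_cj F F.e_nE F.te hy) hy
      (by rw [cc, cc, fx F.te.inv_right, yt, fx (F.te.mul_left F.ze)]) (cj' F.e_nE (F.B_E (d_B F)))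
    rw [cc, cc, bk rfl, de, cm y] at k
    rcases hy.2.2 _ (d_B F) with e | e <;> rw [e] at k
    · rw [de] at k
      exact (T8_of F h2 hB trs F.z_V F.z1
        ⟨y, hy.1, cB_of F hy.2.1 (xf (mul_left_cancel k).symm) (xf e), yt⟩).imp fun _ => Or.inl
    · rw [cm, de, fx F.se, mul_assoc, ← F.sz.eq, ← mul_assoc] at k
      exact (N8_of F h2 hB hm mt (xf mz) md hy yt (xf (mul_left_cancel k).symm) e).imp fun _ => Or.inr
  · have k := trs.conj hg (nB' g hg) (nB g hg) F.s_B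
    obtain ⟨w, hw, e | e⟩ := F.mem_B.1 (nB g hg _ F.s_B) <;> rw [e] at k
    · exact (T8_of F h2 hB trs hw (fun w1 => h2 (inj (g := g) (by rw [e, w1]; simp))) k).imp fun _ => Or.inl
    · have := trs.mul (mul_mem F.s_B (F.V_B hw)) k
      rw [← mul_assoc, F.ss, one_mul] at this
      exact (T8_of F h2 hB trs hw (fun w1 => gs (xf (by rw [e, w1, mul_one]))) this).imp fun _ => Or.inl

end Ob

/-- The orbit analysis. `N = N(E)`, `Ω = {x ∈ E | x ~ t} = t ^ N` (`ctrl`). An element of `N`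
fixing `t` fixes `s` and normalises `V` (`stab`); it acts on `V` as one of the six elements of
`⟨ρ, e⟩`; in particular (R) an element of `N` fixing `t, z, d` centralises `E`.
`t V ⊆ Ω` (`h`, `cj_tV`), `V ∩ Ω = ∅` (`nc_V`), and for `s ≠ 1` each of `s V`, `t s V` is inside
`Ω` or disjoint from it (`cj_sV`, `cj_tsV`). The swap `s ↦ t s`, `χ ↦ (χ.1 + χ.2, χ.2)` gives a
frame with the same `t, d, c, ρ, E, T` (for `s ≠ 1`).
* `s = 1`, or `s ≠ 1` and `t ≁ s`, `t ≁ t s`: `Ω = t V`, so `N` normalises `V` (`v = t · t v`).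
 Take `n ∈ N` with `t ^ n = t z`; multiplying on the left by an element of `⟨ρ, e⟩` (fixes `t`)
 we get `n` centralising `V`. Let `s ≠ 1`. `s ^ n ∈ s V ∪ t s V`. If `s ^ n = t s w`, then `n²`
 fixes `t, z, d`, but `s ^ (n²) = s z`, against (R). So `s ^ n = s w`; `e n e n⁻¹` fixes
 `t, z, d`, so `w` commutes with `e`, `w ∈ {1, z}`. If `w = z` swap `s ↦ t s`. Now `n`, `n ^ ρ`,
 `n ^ ρ²` centralise `B` and move `t` to `t z, t d, t d z`. `N0 = N ∩ C(B)`; `ns`: if `g ∈ N`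
 centralises `V`, `t ^ g = t v`, then `g n_v⁻¹` fixes `t, z, d`. `mkU` gives `K4`.
* `t ~ s` and `t ~ t s`: `Ω = E \ V`, so `N` normalises `V`; get `n` with `t ^ n = t z`
 centralising `V` as before; `s ^ n = t s w` is impossible as before, `s ^ n = s w` with
 `w ∈ {1, z}`, so `n` fixes `x = s` or `x = t s`, `x ∈ Ω`, `x = t ^ k`, `k ∈ N`; `k n k⁻¹` fixes
 `t` and centralises `V`, so centralises `E`: `n` centralises `E`, contradiction.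
* exactly one of them; after the swap `t ~ t s`, `t ≁ s`: `Ω = t B`, `N` normalises `B`.
 Take `n ∈ N`, `t ^ n = t s`. `n ρ n⁻¹` and `n e n⁻¹` fix `t` (because `ρ`, `e` fix `t s`), so
 they fix `s` and normalise `V`. Hence `s ^ n` commutes with `ρ`, `s ^ n = s` (`fix_ρ`), and
 `V ^ n` is a `ρ`-invariant four-subgroup of `B`, i.e. `V ^ n = V` (it meets `V`, index 2).
 Adjust `n` on the left by `⟨ρ, e⟩`: `m` centralises `B`, `t ^ m = t s`. Take `g ∈ N`,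
 `t ^ g = t z`. If `s ^ g ≠ s`, then `g⁻¹ m g` centralises `B` and moves `t` to `t s ^ g`; with
 `m` and `ρ`-conjugates all translations occur: `N0 = N ∩ C(B)`, `T8`. Otherwise `g` fixes `s`;
 adjust on the left by `⟨ρ, e⟩` so that `v ^ g ∈ v ⟨s⟩` for `v ∈ B`. `e g e g⁻¹` fixes `t`,
 normalises `V` and is trivial on `B / ⟨s⟩`, so centralises `E`; apply it: `z ^ g = z`. If
 `d ^ g = d` all translations occur again (`T8`). If `d ^ g = d s`, put `y = g m`,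
 `N0 = {k ∈ N | k fixes s, b ^ k ∈ b ⟨s⟩ for b ∈ B}`; `m, y, y ^ ρ` move `t` over all of `t B`;
 an element of `N0` fixing `t` normalises `V`, so centralises `E` (`hC`); so every element of
 `N0` acts as one of the 8 products of `m, y, y ^ ρ`, whose squares act trivially: `N8`
 (`sqE` from `cU`). A coordinate model of `E` (four bits) and `decide` may be convenient. -/
theorem orb (F : Fr G) (h : IsConj F.t (F.t * F.z)) :
    ∃ F' : Fr G, Nonempty (K4 F') ∨ Nonempty (T8 F') ∨ Nonempty (N8 F') := by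
  by_cases h2 : F.s = 1
  · refine (caseA F h fun x hx k => ?_).imp fun _ => Or.inl
    obtain ⟨b, hb, rfl | rfl⟩ := F.mem_E.1 hx <;> rw [F.B_eq h2] at hb
    exacts [absurd k (F.nc_V hb), ⟨b, hb, rfl⟩]
  by_cases hs : IsConj F.t F.s <;> by_cases hts : IsConj F.t (F.t * F.s)
  · exact (caseB F h2 h hs hts).elim
  · refine (caseC (swap F h2) (swap_s F h2) h hts ?_).imp fun _ => Or.inr
    change IsConj F.t (F.t * (F.t * F.s))
    rwa [← mul_assoc, F.tt, one_mul]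
  · exact (caseC F h2 h hs hts).imp fun _ => Or.inr
  · refine (caseA F h fun x hx k => ?_).imp fun _ => Or.inl
    obtain ⟨b, hb, rfl | rfl⟩ := F.mem_E.1 hx <;> obtain ⟨v, hv, rfl | rfl⟩ := F.mem_B.1 hb
    exacts [absurd k (F.nc_V hv), absurd (k.trans (F.cj_sV h2 hv).symm) hs, ⟨b, hv, rfl⟩,
      absurd (k.trans (F.cj_tsV h2 hv).symm) hts]

end CL.HL
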