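import Cfsg.Agent.INV.HL.Odd

/-! S3139: helpers for the orbit analysis (`HL/Orb`). -/

set_option autoImplicit false
open Subgroup CL.MSS CL.HL.Od

namespace CL.HL.Ob
variable {G : Type*} [Group G]

theorem cm (g x y : G) : g⁻¹ * (x * y) * g = g⁻¹ * x * g * (g⁻¹ * y * g) := by group
theorem cc (g h x : G) : (g * h)⁻¹ * x * (g * h) = h⁻¹ * (g⁻¹ * x * g) * h := by group
theorem fx {g x : G} (h : Commute x g) : g⁻¹ * x * g = x := by rw [mul_assoc, h.eq]; group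
theorem xf {g x : G} (h : g⁻¹ * x * g = x) : Commute x g := by
  change x * g = g * x
  nth_rewrite 2 [← h]; group
theorem bk {g x y : G} (h : g⁻¹ * x * g = y) : g⁻¹⁻¹ * y * g⁻¹ = x := by rw [← h]; group
theorem icj (g x : G) : IsConj x (g⁻¹ * x * g) := isConj_iff.2 ⟨g⁻¹, by rw [inv_inv]⟩
theorem inj {g x y : G} (h : g⁻¹ * x * g = g⁻¹ * y * g) : x = y := by simpa using h

variable (F : Fr G)

theorem ei : F.e⁻¹ = F.e := inv_eq_of_mul_eq_one_right F.ee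
theorem de : F.e⁻¹ * F.d * F.e = F.d * F.z := by rw [ei, F.ede]
theorem dze : F.e⁻¹ * (F.d * F.z) * F.e = F.d := by rw [cm, de, fx F.ze, mul_assoc, F.zz, mul_one]
theorem dz_V : F.d * F.z ∈ F.V := mul_mem F.d_V F.z_V
theorem z_B : F.z ∈ F.B := F.V_B F.z_V
theorem d_B : F.d ∈ F.B := F.V_B F.d_V
theorem cBB {x y : G} (hx : x ∈ F.B) (hy : y ∈ F.B) : Commute x y := F.comm_E (F.B_E hx) (F.B_E hy)
theorem cB_of {g : G} (h2 : Commute F.s g) (h3 : Commute F.z g) (h4 : Commute F.d g) :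
    ∀ x ∈ F.B, Commute x g := fun x hx => by
  have : F.B ≤ centralizer {g} := (closure_le _).2 (by
    rintro _ (rfl | rfl | rfl) <;> exact mem_centralizer_singleton_iff.2 ‹_›)
  exact mem_centralizer_singleton_iff.1 (this hx)
theorem cV_of {g : G} (h3 : Commute F.z g) (h4 : Commute F.d g) : ∀ x ∈ F.V, Commute x g := fun x hx => by
  rcases F.mem_V.1 hx with rfl | rfl | rfl | rfl
  exacts [Commute.one_left _, h3, h4, h4.mul_left h3]
theorem cE_of {g : G} (h1 : Commute F.t g) (h : ∀ x ∈ F.B, Commute x g) : ∀ x ∈ F.E, Commute x g :=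
  comm_E F h1 (h _ F.s_B) (h _ (z_B F)) (h _ (d_B F))

/-- `⟨ρ, e⟩` induces the full automorphism group of `V`. -/
theorem exists_h {p q : G} (hp : p ∈ F.V) (hq : q ∈ F.V) (p1 : p ≠ 1) (q1 : q ≠ 1) (pq : p ≠ q) :
    ∃ h ∈ normalizer (F.E : Set G), Commute F.t h ∧ h⁻¹ * F.z * h = p ∧ h⁻¹ * F.d * h = q := by
  rcases F.mem_V.1 hp with rfl | rfl | rfl | rfl
  · exact absurd rfl p1
  all_goals rcases F.mem_V.1 hq with rfl | rfl | rfl | rfl
  any_goals exact absurd rfl q1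
  any_goals exact absurd rfl pq
  · exact ⟨1, one_mem _, Commute.one_right _, by simp, by simp⟩
  · exact ⟨F.e, F.e_nE, F.te, fx F.ze, de F⟩
  · exact ⟨F.e * F.ρ, mul_mem F.e_nE F.ρ_nE, F.te.mul_right F.tρ, by rw [cc, fx F.ze, F.zρ'], by rw [cc, de, F.dzρ]⟩
  · exact ⟨F.ρ, F.ρ_nE, F.tρ, F.zρ', F.dρ'⟩
  · exact ⟨F.ρ * F.ρ, mul_mem F.ρ_nE F.ρ_nE, F.tρ.mul_right F.tρ, by rw [cc, F.zρ', F.dρ'], by rw [cc, F.dρ', F.dzρ]⟩
  · exact ⟨F.ρ * F.e, mul_mem F.ρ_nE F.e_nE, F.tρ.mul_right F.te, by rw [cc, F.zρ', de], by rw [cc, F.dρ', dze]⟩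

theorem cj1 {g x : G} (h : x ≠ 1) : g * x * g⁻¹ ≠ 1 := fun e => h (by simpa using e)

/-- An element normalising `V` with `t ^ g = x` can be adjusted to centralise `V`. -/
theorem adjV {g : G} (hg : g ∈ normalizer (F.E : Set G)) (hV : ∀ v ∈ F.V, g * v * g⁻¹ ∈ F.V) :
    ∃ n ∈ normalizer (F.E : Set G), n⁻¹ * F.t * n = g⁻¹ * F.t * g ∧ Commute F.z n ∧ Commute F.d n := by
  obtain ⟨h, hn, ht, hz, hd⟩ := exists_h F (hV _ F.z_V) (hV _ F.d_V) (cj1 F.z1) (cj1 F.d1)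
    (fun e => F.d_ne_z (by simpa using e.symm))
  exact ⟨h * g, mul_mem hn hg, by rw [cc, fx ht], xf (by rw [cc, hz]; group), xf (by rw [cc, hd]; group)⟩

/-- The elements of `N(E)` which fix `s` and act trivially on `B / ⟨s⟩`. -/
def M : Subgroup G where
  carrier := {k | k ∈ normalizer (F.E : Set G) ∧ Commute F.s k ∧
    ∀ b ∈ F.B, k⁻¹ * b * k = b ∨ k⁻¹ * b * k = b * F.s}
  one_mem' := ⟨one_mem _, Commute.one_right _, fun b _ => Or.inl (by simp)⟩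
  mul_mem' := by
    rintro k l ⟨k1, k2, k3⟩ ⟨l1, l2, l3⟩
    refine ⟨mul_mem k1 l1, k2.mul_right l2, fun b hb => ?_⟩
    rw [cc]
    rcases k3 b hb with e | e <;> rw [e]
    · exact l3 b hb
    · rw [cm, fx l2]
      rcases l3 b hb with f | f <;> rw [f]
      · exact Or.inr rfl
      · exact Or.inl (by rw [mul_assoc, F.ss, mul_one])
  inv_mem' := by
    rintro k ⟨k1, k2, k3⟩
    refine ⟨inv_mem k1, k2.inv_right, fun b hb => (k3 b hb).imp bk fun e => bk ?_⟩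
    rw [cm, e, fx k2, mul_assoc, F.ss, mul_one]

theorem M_of {k : G} (hk : k ∈ normalizer (F.E : Set G)) (hs : Commute F.s k)
    (hz : k⁻¹ * F.z * k = F.z ∨ k⁻¹ * F.z * k = F.z * F.s)
    (hd : k⁻¹ * F.d * k = F.d ∨ k⁻¹ * F.d * k = F.d * F.s) : k ∈ M F := by
  refine ⟨hk, hs, fun b hb => ?_⟩
  induction hb using closure_induction with
  | mem x hx => rcases hx with rfl | rfl | rfl; exacts [Or.inl (fx hs), hz, hd]
  | one => exact Or.inl (by simp)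
  | mul x y hx hy ex ey =>
    have c : F.s * y = y * F.s := cBB F F.s_B hy
    rw [cm]
    rcases ex with e | e <;> rcases ey with f | f <;> rw [e, f]
    · exact Or.inl rfl
    · exact Or.inr (mul_assoc _ _ _).symm
    · exact Or.inr (by rw [mul_assoc, c, mul_assoc])
    · exact Or.inl (by rw [mul_assoc, ← mul_assoc F.s, c, mul_assoc, F.ss, mul_one])
  | inv x hx ex => rwa [inv_eq_of_mul_eq_one_right (F.el_E (F.B_E hx))]

/-- `t ↦ t b` is induced by an element of `N(E) ∩ C(B)`. -/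
def Tr (b : G) : Prop :=
  ∃ g ∈ normalizer (F.E : Set G), (∀ x ∈ F.B, Commute x g) ∧ g⁻¹ * F.t * g = F.t * b

theorem Tr.one : Tr F 1 := ⟨1, one_mem _, fun _ _ => Commute.one_right _, by simp⟩
theorem Tr.mul {F : Fr G} {a b : G} (hb : b ∈ F.B) (h : Tr F a) (k : Tr F b) : Tr F (a * b) := by
  obtain ⟨g, g1, g2, g3⟩ := h
  obtain ⟨l, l1, l2, l3⟩ := k
  exact ⟨l * g, mul_mem l1 g1, fun x hx => (l2 x hx).mul_right (g2 x hx), by
    rw [cc, l3, cm, g3, fx (g2 b hb), mul_assoc]⟩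
theorem Tr.conj {F : Fr G} {b h : G} (hn : h ∈ normalizer (F.E : Set G))
    (hB : ∀ x ∈ F.B, h * x * h⁻¹ ∈ F.B) (hB' : ∀ x ∈ F.B, h⁻¹ * x * h ∈ F.B) (hb : b ∈ F.B)
    (k : Tr F b) : Tr F (h⁻¹ * b * h) := by
  obtain ⟨g, g1, g2, g3⟩ := k
  refine ⟨h⁻¹ * g * h, mul_mem (mul_mem (inv_mem hn) g1) hn, fun x hx => xf ?_, ?_⟩
  · calc _ = h⁻¹ * (g⁻¹ * (h * x * h⁻¹) * g) * h := by group
      _ = x := by rw [fx (g2 _ (hB x hx))]; group
  · obtain ⟨a, ha, e | e⟩ := F.mem_E.1 (cj hn F.t_E)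
    · exact absurd (by simpa [← e, mul_assoc] using hB' a ha) F.t_nB
    · calc _ = h⁻¹ * (g⁻¹ * (h * F.t * h⁻¹) * g) * h := by group
        _ = h⁻¹ * (F.t * a * b) * h := by
          rw [e, cm g, g3, fx (g2 a ha), mul_assoc F.t, (cBB F hb ha).eq, mul_assoc F.t]
        _ = _ := by rw [← e]; group

variable [Finite G]

theorem stB {h : G} (hn : h ∈ normalizer (F.E : Set G)) (ht : Commute F.t h) :
    ∀ b ∈ F.B, h⁻¹ * b * h ∈ F.B := fun b hb => by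
  obtain ⟨h1, h2⟩ := F.stab hn ht
  obtain ⟨v, hv, rfl | rfl⟩ := F.mem_B.1 hb
  · exact F.V_B (h2 _ hv)
  · rw [cm, fx h1]; exact mul_mem F.s_B (F.V_B (h2 _ hv))
theorem stB' {h : G} (hn : h ∈ normalizer (F.E : Set G)) (ht : Commute F.t h) :
    ∀ b ∈ F.B, h * b * h⁻¹ ∈ F.B := fun b hb => by
  simpa using stB F (inv_mem hn) ht.inv_right b hb

theorem Tr.ρ {F : Fr G} {b : G} (hb : b ∈ F.B) (k : Tr F b) : Tr F (F.ρ⁻¹ * b * F.ρ) :=
  k.conj F.ρ_nE (stB' F F.ρ_nE F.tρ) (stB F F.ρ_nE F.tρ) hb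
theorem Tr.V {F : Fr G} {v : G} (hv : v ∈ F.V) (v1 : v ≠ 1) (k : Tr F v) : ∀ w ∈ F.V, Tr F w := by
  have a : Tr F F.z → Tr F F.d := fun k => F.zρ' ▸ k.ρ (z_B F)
  have b : Tr F F.d → Tr F (F.d * F.z) := fun k => F.dρ' ▸ k.ρ (d_B F)
  have c : Tr F (F.d * F.z) → Tr F F.z := fun k => F.dzρ ▸ k.ρ (F.V_B (dz_V F))
  have z : Tr F F.z := by
    rcases F.mem_V.1 hv with rfl | rfl | rfl | rfl
    exacts [absurd rfl v1, k, c (b k), c k]
  intro w hw
  rcases F.mem_V.1 hw with rfl | rfl | rfl | rfl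
  exacts [Tr.one F, z, a z, b (a z)]

theorem M_cj {h k : G} (hn : h ∈ normalizer (F.E : Set G)) (ht : Commute F.t h) (hk : k ∈ M F) :
    h⁻¹ * k * h ∈ M F := by
  obtain ⟨k1, k2, k3⟩ := hk
  have hs := (F.stab hn ht).1
  refine ⟨mul_mem (mul_mem (inv_mem hn) k1) hn, (hs.inv_right.mul_right k2).mul_right hs, fun b hb => ?_⟩
  have e : (h⁻¹ * k * h)⁻¹ * b * (h⁻¹ * k * h) = h⁻¹ * (k⁻¹ * (h * b * h⁻¹) * k) * h := by group
  rw [e]
  rcases k3 _ (stB' F hn ht b hb) with f | f <;> rw [f]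
  · exact Or.inl (by group)
  · exact Or.inr (by rw [cm, fx hs]; group)
theorem M_nm {h : G} (hn : h ∈ normalizer (F.E : Set G)) (ht : Commute F.t h) :
    h ∈ normalizer (M F : Set G) :=
  nm_of fun k hk => by simpa using M_cj F (inv_mem hn) ht.inv_right hk
theorem M_C (h2 : F.s ≠ 1) {k : G} (hk : k ∈ M F) (ht : Commute F.t k) : ∀ x ∈ F.E, Commute x k := by
  have a : ∀ v ∈ F.V, Commute v k := fun v hv => by
    rcases hk.2.2 v (F.V_B hv) with e | e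
    · exact xf e
    · have := (F.stab hk.1 ht).2 v hv
      rw [e] at this
      exact absurd ((F.V.mul_mem_cancel_left hv).1 this) (F.s_nV h2)
  exact comm_E F ht hk.2.1 (a _ F.z_V) (a _ F.d_V)
/-- Two elements of `M` with the same action on `t` have the same action on `E`. -/
theorem M_eq (h2 : F.s ≠ 1) {k l : G} (hk : k ∈ M F) (hl : l ∈ M F)
    (ht : k⁻¹ * F.t * k = l⁻¹ * F.t * l) {x : G} (hx : x ∈ F.E) : k⁻¹ * x * k = l⁻¹ * x * l := by
  have := fx (M_C F h2 (mul_mem hk (inv_mem hl)) (xf (by rw [cc, ht]; group)) x hx)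
  rw [cc] at this
  nth_rewrite 2 [← this]; group

/-- An element of `N(E) ∩ N(B) ∩ C(s)` can be adjusted into `M`. -/
theorem adjM (h2 : F.s ≠ 1) {g : G} (hg : g ∈ normalizer (F.E : Set G)) (hs : Commute F.s g)
    (hB : ∀ v ∈ F.B, g * v * g⁻¹ ∈ F.B) : ∃ n ∈ M F, n⁻¹ * F.t * n = g⁻¹ * F.t * g := by
  have a : ∀ v ∈ F.V, ∃ p ∈ F.V, g⁻¹ * p * g = v ∨ g⁻¹ * p * g = v * F.s := fun v hv => by
    obtain ⟨p, hp, e | e⟩ := F.mem_B.1 (hB v (F.V_B hv))
    · exact ⟨p, hp, Or.inl (by rw [← e]; group)⟩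
    · refine ⟨p, hp, Or.inr ?_⟩
      have : p = g * v * g⁻¹ * F.s := by
        rw [e, (cBB F F.s_B (F.V_B hp)).eq, mul_assoc, F.ss, mul_one]
      rw [this, cm, fx hs]; group
  have b : ∀ v ∈ F.V, ∀ w ∈ F.V, v ≠ w * F.s := fun v hv w hw e =>
    F.s_nV h2 ((F.V.mul_mem_cancel_left hw).1 (e ▸ hv))
  have c : ∀ v ∈ F.V, v ≠ 1 → ∀ {p}, g⁻¹ * p * g = v ∨ g⁻¹ * p * g = v * F.s → p ≠ 1 := by
    rintro v hv v1 p (e | e) rfl
    · exact v1 (by simpa using e.symm)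
    · exact b 1 (one_mem _) v hv (by simpa using e)
  obtain ⟨p, hp, ep⟩ := a _ F.z_V
  obtain ⟨q, hq, eq⟩ := a _ F.d_V
  obtain ⟨h, hn, ht, hz, hd⟩ := exists_h F hp hq (c _ F.z_V F.z1 ep) (c _ F.d_V F.d1 eq) (by
    rintro rfl
    rcases ep with e | e <;> rcases eq with f | f <;> rw [e] at f
    exacts [F.d_ne_z f.symm, b _ F.z_V _ F.d_V f, b _ F.d_V _ F.z_V f.symm,
      F.d_ne_z (mul_right_cancel f).symm])
  exact ⟨h * g, M_of F (mul_mem hn hg) ((F.stab hn ht).1.mul_right hs) (by rwa [cc, hz]) (by rwa [cc, hd]),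
    by rw [cc, fx ht]⟩

/-- `n ∈ N(E)` centralises `V` and `t ^ n = t z`: then `s ^ n ∈ s ⟨z⟩`. -/
theorem T1 (h2 : F.s ≠ 1) {n : G} (hn : n ∈ normalizer (F.E : Set G)) (ht : n⁻¹ * F.t * n = F.t * F.z)
    (hz : Commute F.z n) (hd : Commute F.d n) :
    n⁻¹ * F.s * n = F.s ∨ n⁻¹ * F.s * n = F.s * F.z := by
  have cV := cV_of F hz hd
  have tz : n⁻¹ * (F.t * F.z) * n = F.t := by rw [cm, ht, fx hz, mul_assoc, F.zz, mul_one]
  obtain ⟨b, hb, e | e⟩ := F.mem_E.1 (cj' hn (F.B_E F.s_B)) <;> obtain ⟨v, hv, rfl | rfl⟩ := F.mem_B.1 hb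
  · exact absurd (inj (e.trans (fx (cV _ hv)).symm) ▸ hv) (F.s_nV h2)
  · have k := (F.stab (g := F.e * n * F.e * n⁻¹)
      (mul_mem (mul_mem (mul_mem F.e_nE hn) F.e_nE) (inv_mem hn)) (xf (by
        rw [cc, cc, cc, fx F.te, ht, fx (F.te.mul_left F.ze), bk ht]))).1
    have k1 := fx k
    rw [cc, cc, cc, fx F.se, e, cm F.e, fx F.se] at k1
    have k2 := bk k1
    simp only [inv_inv] at k2
    rw [e] at k2
    have k3 := (mul_left_cancel k2).symm
    rcases F.mem_V.1 hv with rfl | rfl | rfl | rfl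
    · exact Or.inl (by rw [e, mul_one])
    · exact Or.inr e
    · rw [de] at k3; exact absurd (by simpa using k3) F.z1
    · rw [dze] at k3; exact absurd (by simpa using k3) F.z1
  · have : F.s = F.t * F.z * b := inj (by rw [e, cm, tz, fx (cV _ hv)])
    exact absurd ((F.B.mul_mem_cancel_right (z_B F)).1 ((F.B.mul_mem_cancel_right hb).1 (this ▸ F.s_B))) F.t_nB
  · have k := fx (F.stab (mul_mem hn hn) (xf (by rw [cc, ht, tz]))).1
    rw [cc, e, cm, cm, ht, e, fx (cV _ hv), mul_assoc F.t (F.s * v), mul_assoc F.s, F.el_E (F.B_E (F.V_B hv)), mul_one,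
      ← mul_assoc, mul_assoc F.t F.z, ← F.tz.eq, ← mul_assoc, F.tt, one_mul] at k
    exact absurd (by simpa using k) F.z1

/-- The swap `s ↦ t s`. -/
def swap (h2 : F.s ≠ 1) : Fr G :=
  { F with
    s := F.t * F.s
    χ := fun x => ((F.χ x).1 + (F.χ x).2, (F.χ x).2)
    ss := by rw [mul_assoc, ← mul_assoc F.s, ← F.ts.eq, mul_assoc, F.ss, mul_one, F.tt]
    sc := Or.inr ⟨by
      rw [← (F.sc.resolve_left h2).1, mul_assoc F.t, (F.ts.mul_right F.tc).eq, mul_assoc, ← mul_assoc F.t,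
        F.tt, one_mul], by
      simp only [F.χmul _ _ (Commute.refl _) F.ts, F.χt, F.χ_s h2]; decide⟩
    ts := (Commute.refl _).mul_right F.ts
    sd := F.td.mul_left F.sd
    sρ := F.tρ.mul_left F.sρ
    χmul := fun x y hx hy => by
      simp only [F.χmul x y hx hy, Prod.fst_add, Prod.snd_add, Prod.mk_add_mk]
      rw [add_add_add_comm]
    χt := by simp only [F.χt]; decide
    χc := by simp only [F.χc]; decide
    χd := by simp only [F.χd]; decide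
    syl := fun Y hY ht => by
      obtain ⟨h, h1, h3⟩ := F.syl Y hY ht
      refine ⟨h, h1, fun y hy => (closure_le _).2 ?_ (h3 y hy)⟩
      rintro _ (rfl | rfl | rfl | rfl)
      · exact subset_closure (by simp)
      · exact (Subgroup.mul_mem_cancel_left _ (subset_closure (by simp) : F.t ∈ _)).1 (subset_closure (by simp))
      all_goals exact subset_closure (by simp) }

omit [Finite G] in
theorem swap_E (h2 : F.s ≠ 1) : (swap F h2).E = F.E := by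
  refine le_antisymm ((closure_le _).2 ?_) ((closure_le _).2 ?_) <;> rintro _ (rfl | rfl | rfl | rfl)
  exacts [F.t_E, mul_mem F.t_E (F.B_E F.s_B), F.B_E (z_B F), F.B_E (d_B F), (swap F h2).t_E,
    (Subgroup.mul_mem_cancel_left _ (swap F h2).t_E).1 ((swap F h2).B_E (swap F h2).s_B),
    (swap F h2).B_E (z_B _), (swap F h2).B_E (d_B _)]

omit [Finite G] in
theorem swap_s (h2 : F.s ≠ 1) : (swap F h2).s ≠ 1 := fun e =>
  F.t_nB ((F.B.mul_mem_cancel_right F.s_B).1 ((show F.t * F.s = 1 from e) ▸ one_mem _))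

end CL.HL.Ob
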