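import Cfsg.Agent.INV.HL.Odd

/-! S3139: the case `A ≅ 4³`, part (γ). -/

set_option autoImplicit false
open Subgroup

namespace CL.HL
variable {G : Type*} [Group G] [Finite G]

omit [Finite G] in
theorem mem_sup_inv {R : Subgroup G} {e : G} (he : e * e = 1) (hn : e ∈ normalizer (R : Set G))
    {x : G} (hx : x ∈ R ⊔ zpowers e) : x ∈ R ∨ x * e ∈ R := by
  have hi : e⁻¹ = e := inv_eq_of_mul_eq_one_right he
  have hc : ∀ r ∈ R, e * r * e ∈ R := fun r hr => by simpa [hi] using norm_cj hn hr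
  let K : Subgroup G :=
    { carrier := {x | x ∈ R ∨ x * e ∈ R}
      one_mem' := Or.inl (one_mem _)
      mul_mem' := by
        rintro a b (ha | ha) (hb | hb)
        · exact Or.inl (mul_mem ha hb)
        · exact Or.inr (by rw [mul_assoc]; exact mul_mem ha hb)
        · right
          have := mul_mem ha (hc b hb)
          rwa [show a * e * (e * b * e) = a * (e * e) * b * e by group, he, mul_one] at this
        · left
          have := mul_mem ha (hc _ hb)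
          rwa [show a * e * (e * (b * e) * e) = a * (e * e) * b * (e * e) by group, he, mul_one,
            mul_one] at this
      inv_mem' := by
        rintro a (ha | ha)
        · exact Or.inl (inv_mem ha)
        · right
          have := hc _ (inv_mem ha)
          rwa [mul_inv_rev, hi, ← mul_assoc, he, one_mul] at this }
  exact (sup_le (fun x hx => Or.inl hx) (zpowers_le.2 (Or.inr (by rw [he]; exact one_mem _))) :
    R ⊔ zpowers e ≤ K) hx

omit [Finite G] in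
theorem p2_sup_zp {R : Subgroup G} (hR : IsPGroup 2 R) {g : G} {k : ℕ} (hk : g ^ 2 ^ k = 1)
    (hn : g ∈ normalizer (R : Set G)) : IsPGroup 2 ↥(R ⊔ zpowers g) := by
  rw [sup_comm]; exact IsPGroup.to_sup_of_normal_right' (p2_zpowers hk) hR (zpowers_le.2 hn)

/-- A maximal 2-subgroup of `H` above a given one; all 2-subgroups of `H` are conjugate into it. -/
theorem exists_syl {H P : Subgroup G} (hP : IsPGroup 2 P) (h : P ≤ H) :
    ∃ S : Subgroup G, IsPGroup 2 S ∧ P ≤ S ∧ S ≤ H ∧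
      ∀ Q : Subgroup G, IsPGroup 2 Q → Q ≤ H → ∃ k ∈ H, cjs Q k ≤ S := by
  obtain ⟨S, hS⟩ := (hP.comap_of_injective H.subtype H.subtype_injective).exists_le_sylow
  refine ⟨(S : Subgroup H).map H.subtype, S.isPGroup'.map _, fun x hx => ⟨⟨x, h hx⟩, hS hx, rfl⟩,
    map_subtype_le _, fun Q hQ hQH => ?_⟩
  obtain ⟨S', hS'⟩ := (hQ.comap_of_injective H.subtype H.subtype_injective).exists_le_sylow
  obtain ⟨k, hk⟩ := MulAction.exists_smul_eq H S' S
  refine ⟨k⁻¹, (k⁻¹).2, cjs_ind fun x hx => ⟨k * ⟨x, hQH hx⟩ * k⁻¹, ?_, by simp⟩⟩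
  rw [← hk]
  exact ⟨⟨x, hQH hx⟩, hS' hx, rfl⟩

variable {F : Fr G}

/-- The hypotheses of `T8.cube`. -/
structure Cu (D : T8 F) where
  A : Subgroup G
  m : G
  y : G
  hB : F.B ≤ A
  hU : A ≤ D.U
  hi : ∀ a ∈ A, F.t * a * F.t = a⁻¹
  hd : ∀ u ∈ D.U, u ∈ A ∨ F.t * u ∈ A
  hs : ∀ a ∈ A, a * a ∈ F.B
  hs' : ∀ b ∈ F.B, ∃ a ∈ A, a * a = b
  hm : m ∈ A
  hy : y ∈ A
  mm : m * m = F.s
  yy : y * y = F.z
  em : Commute F.e m
  ey : Commute F.e y
  hc : IsConj (F.t * m) (F.t * (m * y))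

namespace Cu
variable {D : T8 F} (C : Cu D)
open Fr

omit [Finite G] in
theorem it {a : G} (ha : a ∈ C.A) : a⁻¹ * F.t = F.t * a := by
  rw [← C.hi a ha, mul_assoc, F.tt, mul_one]
omit [Finite G] in
theorem at' {a : G} (ha : a ∈ C.A) : a * F.t = F.t * a⁻¹ := by
  rw [← C.it (inv_mem ha), inv_inv]
omit [Finite G] in
theorem ab {a b : G} (ha : a ∈ C.A) (hb : b ∈ C.A) : Commute a b := by
  have h : (a * b)⁻¹ * F.t = (b * a)⁻¹ * F.t := by
    rw [C.it (mul_mem ha hb), mul_inv_rev, mul_assoc, C.it hb, ← mul_assoc a⁻¹, C.it ha, mul_assoc]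
  exact inv_injective (mul_right_cancel h)
omit [Finite G] in
theorem tA : F.t ∉ C.A := fun h => D.two (by
  have := C.it C.hm
  rw [(C.ab h C.hm).eq, mul_left_inj] at this
  rw [← C.mm]; nth_rewrite 1 [← this]; exact inv_mul_cancel _)
omit [Finite G] in
theorem invB {a : G} (ha : a ∈ C.A) (h : a * a = 1) : a ∈ F.B := by
  have h1 := C.it ha
  rw [inv_eq_of_mul_eq_one_right h] at h1
  obtain ⟨b, hb, rfl | rfl⟩ := F.mem_E.1 (D.cU a (C.hU ha) h1.symm)
  · exact hb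
  · exact absurd ((mul_mem_cancel_right (C.hB hb)).1 ha) C.tA
omit [Finite G] in
theorem sqm {a b : G} (ha : a ∈ C.A) (hb : b ∈ C.A) : a * b * (a * b) = a * a * (b * b) := by
  rw [mul_assoc, ← mul_assoc b, ← (C.ab ha hb).eq]; group
omit [Finite G] in
theorem bb {b : G} (hb : b ∈ F.B) : b * b = 1 := F.el_E (F.B_E hb)
omit [Finite G] in
theorem sq_eq {a a' : G} (ha : a ∈ C.A) (ha' : a' ∈ C.A) (h : a * a = a' * a') :
    ∃ b ∈ F.B, a = a' * b := by
  refine ⟨a'⁻¹ * a, C.invB (mul_mem (inv_mem ha') ha) ?_, by group⟩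
  rw [C.sqm (inv_mem ha') ha, h]; group
omit [Finite G] in
theorem ta_sq {a : G} (ha : a ∈ C.A) : F.t * a * (F.t * a) = 1 := by
  rw [← mul_assoc, C.hi a ha, inv_mul_cancel]
omit [Finite G] in
theorem cj_ta {a a' : G} (ha : a ∈ C.A) (ha' : a' ∈ C.A) :
    a'⁻¹ * (F.t * a) * a' = F.t * (a * (a' * a')) := by
  rw [← mul_assoc, C.it ha', mul_assoc _ a', ← (C.ab ha ha').eq]; group
omit [Finite G] in
theorem decU {u : G} (hu : u ∈ D.U) : u ∈ C.A ∨ ∃ a ∈ C.A, u = F.t * a :=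
  (C.hd u hu).imp id fun h => ⟨_, h, by rw [← mul_assoc, F.tt, one_mul]⟩
omit [Finite G] in
include C in
theorem nB {n b : G} (hn : n ∈ normalizer (D.U : Set G)) (hb : b ∈ F.B) : n⁻¹ * b * n ∈ F.B := by
  obtain ⟨a, ha, rfl⟩ := C.hs' b hb
  rw [cj_mul]
  rcases C.decU (norm_cj hn (C.hU ha)) with h | ⟨a', h, e⟩
  · exact C.hs _ h
  · rw [e, C.ta_sq h]; exact one_mem _
omit [Finite G] in
theorem nA {n a : G} (hn : n ∈ normalizer (D.U : Set G)) (ha : a ∈ C.A) : n⁻¹ * a * n ∈ C.A := by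
  rcases C.decU (norm_cj hn (C.hU ha)) with h | ⟨a', h, e⟩
  · exact h
  · have : a * a = 1 := cj_eq_one.1 (by rw [cj_mul n, e, C.ta_sq h])
    exact C.hB (C.nB hn (C.invB ha this))
omit [Finite G] in
theorem eA {a : G} (ha : a ∈ C.A) : F.e * a * F.e ∈ C.A := by
  simpa [F.e_inv] using C.nA D.eU ha
omit [Finite G] in
theorem ntA {n : G} (hn : n ∈ normalizer (D.U : Set G)) {a : G} (ha : a ∈ C.A) :
    ∃ a' ∈ C.A, n⁻¹ * (F.t * a) * n = F.t * a' := by
  rcases C.decU (norm_cj hn (mul_mem (D.EU F.t_E) (C.hU ha))) with h | h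
  · have := C.nA (inv_mem hn) h
    exact absurd ((mul_mem_cancel_right ha).1 (by simpa [mul_assoc] using this)) C.tA
  · exact h

omit [Finite G] in
theorem e_mul (a b : G) : F.e * (a * b) * F.e = F.e * a * F.e * (F.e * b * F.e) := by
  calc _ = F.e * a * (F.e * F.e) * b * F.e := by rw [F.ee]; group
    _ = _ := by group
omit [Finite G] in
theorem e_e (a : G) : F.e * (F.e * a * F.e) * F.e = a := by
  calc _ = (F.e * F.e) * a * (F.e * F.e) := by group
    _ = _ := by rw [F.ee]; group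
omit [Finite G] in
theorem e_fix {a : G} (h : Commute F.e a) : F.e * a * F.e = a := by
  rw [h.eq, mul_assoc, F.ee, mul_one]
omit [Finite G] in
theorem e_comm {a : G} (h : F.e * a * F.e = a) : Commute F.e a := by
  have := F.e_inv
  exact (comm_of_fix (by rw [this, h])).symm

omit [Finite G] in
/-- `y2² = d`, `y2 ^ e = y2 g`, `g² = z`, `g ^ e = g⁻¹`. -/
theorem exists_g : ∃ y2 ∈ C.A, ∃ g ∈ C.A, y2 * y2 = F.d ∧ F.e * y2 * F.e = y2 * g ∧ g * g = F.z ∧
    F.e * g * F.e = g⁻¹ := by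
  obtain ⟨y2, h2, e2⟩ := C.hs' _ (F.V_B F.d_V)
  refine ⟨y2, h2, y2⁻¹ * (F.e * y2 * F.e), mul_mem (inv_mem h2) (C.eA h2), e2, by group, ?_, ?_⟩
  · rw [C.sqm (inv_mem h2) (C.eA h2), ← e_mul, e2, F.ede, ← mul_inv_rev, e2]; group
  · rw [e_mul, e_e, mul_inv_rev, inv_inv, mul_inv_rev, mul_inv_rev, F.e_inv]; group

omit [Finite G] in
theorem be (h : F.s ≠ 1) {b : G} (hb : b ∈ F.B) : F.e * b * F.e * b = 1 ∨ F.e * b * F.e * b = F.z := by
  obtain ⟨v, hv, rfl | rfl⟩ := F.mem_B.1 hb <;> rcases F.mem_V.1 hv with rfl | rfl | rfl | rfl <;>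
    first | (left; rw [← F.w_one]; hl_w2 h) | (right; hl_w2 h)

theorem nce (D : T8 F) {b : G} (hb : b ∈ F.B) (h : Commute F.e b) : ¬ IsConj F.t (F.e * b) := by
  have h2 := D.two
  rcases F.fix_e hb h with rfl | rfl | rfl | rfl
  · rw [mul_one]; exact fun h => F.nc_z (h.trans F.cj_e.symm)
  · exact fun h => F.nc_z (h.trans ((icj F.d (by hl_w)).trans F.cj_e.symm))
  · exact fun h => D.nB _ F.s_B (h.trans (F.cj_es h2).symm)
  · exact fun h => D.nB _ F.s_B (h.trans (F.cj_esz h2).symm)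

theorem inv_e {a : G} (ha : a ∈ C.A) (h : F.e * a * F.e = a⁻¹) :
    (a * a = 1 ∨ a * a = F.z) ∧ ¬ IsConj F.t (F.e * a) := by
  have h2 := D.two
  have hb := C.hs a ha
  have key : ∀ m' ∈ C.A, Commute F.e m' → a * a = m' * m' → a * a = 1 ∨ a * a = F.z := by
    intro m' hm' hc e
    obtain ⟨b, hb', rfl⟩ := C.sq_eq ha hm' e
    rw [e_mul, e_fix hc] at h
    have : m' * m' = F.e * b * F.e * b := by
      have h4 : m' * m' * (m' * m') = 1 := bb (C.hs _ hm')
      have h5 : m' * (F.e * b * F.e) * (m' * b) = 1 := by rw [h, inv_mul_cancel]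
      rw [mul_assoc, ← mul_assoc _ m', (C.ab (C.eA (C.hB hb')) hm').eq, ← mul_assoc, ← mul_assoc,
        mul_assoc _ _ b] at h5
      exact mul_left_cancel (h4.trans h5.symm)
    rw [e, this]; exact be h2 hb'
  have h1 : a * a = 1 ∨ a * a = F.z := by
    rcases F.fix_e hb (e_comm (by
      rw [e_mul, h, ← mul_inv_rev]; exact inv_eq_of_mul_eq_one_right (bb hb))) with e | e | e | e
    · exact Or.inl e
    · exact Or.inr e
    · exact key _ C.hm C.em (by rw [e, C.mm])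
    · exact key _ (mul_mem C.hm C.hy) (C.em.mul_right C.ey) (by rw [e, C.sqm C.hm C.hy, C.mm, C.yy])
  refine ⟨h1, ?_⟩
  rcases h1 with e | e
  · exact nce D (C.invB ha e) (e_comm (by rw [h]; exact inv_eq_of_mul_eq_one_right e))
  · obtain ⟨y2, hy2, g, hg, e1, e2, e3, e4⟩ := C.exists_g
    obtain ⟨b, hb', rfl⟩ := C.sq_eq ha (inv_mem hg) (by
      rw [e, ← mul_inv_rev, e3]; exact (inv_eq_of_mul_eq_one_right F.zz).symm)
    have hbe : Commute F.e b := e_comm (by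
      have e5 : F.e * g⁻¹ * F.e = g := by
        rw [← inv_inj, mul_inv_rev, mul_inv_rev, F.e_inv, inv_inv, ← mul_assoc, e4]
      rw [e_mul, e5, mul_inv_rev, inv_inv, inv_eq_of_mul_eq_one_right (bb hb'),
        ← (C.ab hg (C.hB hb')).eq] at h
      exact mul_left_cancel h)
    intro hj
    refine nce D hb' hbe (hj.trans (icj y2 ?_).symm)
    have e6 : y2⁻¹ * F.e = F.e * (y2 * g)⁻¹ := by
      rw [← e2, mul_inv_rev, mul_inv_rev, F.e_inv, ← mul_assoc, F.ee, one_mul]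
    rw [← mul_assoc, e6, mul_assoc, mul_assoc, (C.ab (C.hB hb') hy2).eq]; group

omit [Finite G] in
theorem norm_e {a : G} (ha : a ∈ C.A) (h : Commute F.e a) (h1 : a * a = 1 ∨ a * a = F.z) :
    ∃ a' ∈ C.A, F.e * a' * F.e * a' = a := by
  have h2 := D.two
  have dA := C.hB (F.V_B F.d_V)
  have hN : ∀ a ∈ C.A, ∀ b ∈ C.A, F.e * (a * b) * F.e * (a * b) =
      F.e * a * F.e * a * (F.e * b * F.e * b) := fun a ha b hb => by
    rw [e_mul, mul_assoc, ← mul_assoc _ a b, (C.ab (C.eA hb) ha).eq]; group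
  have h0 : ∀ a ∈ C.A, Commute F.e a → a * a = 1 → ∃ a' ∈ C.A, F.e * a' * F.e * a' = a := by
    intro a ha h e
    have hd : F.e * F.d * F.e * F.d = F.z := by hl_w
    have hm : F.e * C.m * F.e * C.m = F.s := by rw [e_fix C.em, C.mm]
    rcases F.fix_e (C.invB ha e) h with rfl | rfl | rfl | rfl
    · exact ⟨1, one_mem _, by simp [F.ee]⟩
    · exact ⟨_, dA, hd⟩
    · exact ⟨_, C.hm, hm⟩
    · exact ⟨_, mul_mem C.hm dA, by rw [hN _ C.hm _ dA, hd, hm]⟩
  rcases h1 with e | e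
  · exact h0 a ha h e
  · obtain ⟨y2, hy2, g, hg, e1, e2, e3, e4⟩ := C.exists_g
    have hn := mul_mem (C.eA hy2) hy2
    have hf : Commute F.e (F.e * y2 * F.e * y2) :=
      e_comm (by rw [e_mul, e_e]; exact (C.ab hy2 (C.eA hy2)).eq)
    obtain ⟨b, hb, rfl⟩ := C.sq_eq ha hn (by
      rw [C.sqm (C.eA hy2) hy2, ← e_mul, e1, e]; symm; hl_w)
    obtain ⟨a', ha', e'⟩ := h0 b (C.hB hb) (by have := hf.inv_right.mul_right h; rwa [inv_mul_cancel_left] at this) (bb hb)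
    exact ⟨y2 * a', mul_mem hy2 ha', by rw [hN _ hy2 _ ha', e']⟩

end Cu
end CL.HL
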