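import Cfsg.Agent.INV.HL.T8fa

/-! S3139: the case `A ≅ 4³`, parts (γ) and (δ). -/

set_option autoImplicit false
open Subgroup

namespace CL.HL
variable {G : Type*} [Group G] [Finite G] {F : Fr G}

omit [Finite G] in
theorem mem_cen1 {u x : G} : x ∈ centralizer ({u} : Set G) ↔ Commute u x := by
  rw [mem_centralizer_singleton_iff]; exact ⟨fun h => h.symm, fun h => h.symm.eq⟩

omit [Finite G] in
/-- `⟨u, s, z⟩` has order 8 if `u ∉ B`. -/
theorem Fr.exists_X8 (F : Fr G) (h2 : F.s ≠ 1) {u : G} (hu : u * u = 1) (hs : Commute F.s u)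
    (hz : Commute F.z u) (hB : u ∉ F.B) : ∃ X : Subgroup G, (∀ x ∈ X, x * x = 1) ∧
      Nat.card X = 8 ∧ u ∈ X ∧ ∀ y, Commute u y → Commute F.s y → Commute F.z y →
        ∀ x ∈ X, Commute x y := by
  let W : Subgroup G := F.sub (fun x => x.τ = false ∧ x.f = false ∧ Fr.pE x) (by decide)
    (by decide +kernel) (by decide)
  have hW : Nat.card W = 4 := by
    rw [F.card_of (H := W) fun _ => Iff.rfl, F.tw_iff.2 h2]; decide
  have mW : ∀ w ∈ W, w = 1 ∨ w = F.z ∨ w = F.s ∨ w = F.s * F.z := by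
    rintro _ ⟨x, hx, hp, rfl⟩
    exact F.w_W0 hx ((by decide : ∀ x : Md, x.τ = false ∧ x.f = false ∧ Fr.pE x →
      x = 1 ∨ x = Md.mz ∨ x = Md.ms ∨ x = Md.ms * Md.mz) x hp)
  have WB : W ≤ F.B := by rintro _ ⟨x, hx, hp, rfl⟩; exact F.mem_B'.2 ⟨x, hx, ⟨hp.1, hp.2.2⟩, rfl⟩
  have cW : ∀ y, Commute F.s y → Commute F.z y → ∀ w ∈ W, Commute w y := fun y h1 h3 w hw => by
    rcases mW w hw with rfl | rfl | rfl | rfl
    exacts [Commute.one_left _, h3, h1, h1.mul_left h3]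
  have hn : u ∈ normalizer (W : Set G) := norm_of_comm (cW u hs hz)
  have dec : ∀ x ∈ W ⊔ zpowers u, x ∈ W ∨ ∃ w ∈ W, x = w * u := fun x hx =>
    (mem_sup_inv hu hn hx).imp id fun h => ⟨_, h, by rw [mul_assoc, hu, mul_one]⟩
  refine ⟨W ⊔ zpowers u, fun x hx => ?_, ?_, mem_sup_right (mem_zpowers u), fun y h1 h3 h4 x hx => ?_⟩
  · rcases dec x hx with h | ⟨w, h, rfl⟩
    · exact F.el_E (F.B_E (WB h))
    · rw [mul_assoc, ← mul_assoc u, ← (cW u hs hz w h).eq, mul_assoc, hu, mul_one]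
      exact F.el_E (F.B_E (WB h))
  · have hi : (W.subgroupOf (W ⊔ zpowers u)).index = 2 := by
      rw [index_eq_two_iff]
      refine ⟨⟨u, mem_sup_right (mem_zpowers u)⟩, fun b => ?_⟩
      have := mem_sup_inv hu hn b.2
      simp only [mem_subgroupOf, coe_mul]
      rcases this with h | h
      · exact Or.inr ⟨h, fun h' => hB (WB ((mul_mem_cancel_left h).1 h'))⟩
      · exact Or.inl ⟨h, fun h' => hB (WB ((mul_mem_cancel_left h').1 h))⟩
    have := (W.subgroupOf (W ⊔ zpowers u)).card_mul_index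
    rw [hi, Nat.card_congr (subgroupOfEquivOfLe le_sup_left).toEquiv, hW] at this
    exact this.symm
  · rcases dec x hx with h | ⟨w, h, rfl⟩
    exacts [cW y h3 h4 x h, (cW y h3 h4 w h).mul_left h1]

namespace UD
variable (D : UD F)

/-- `U ⟨e⟩`. -/
def TE : Subgroup G := D.U ⊔ zpowers F.e
omit [Finite G] in
theorem p2_TE : IsPGroup 2 D.TE := p2_sup_zp D.p2 (k := 1) (by simpa [pow_two] using F.ee) D.eU
omit [Finite G] in
theorem TE_nE : D.TE ≤ normalizer (F.E : Set G) := sup_le D.UN (zpowers_le.2 F.e_nE)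
omit [Finite G] in
theorem U_TE : D.U ≤ D.TE := le_sup_left
omit [Finite G] in
theorem e_TE : F.e ∈ D.TE := mem_sup_right (mem_zpowers _)
omit [Finite G] in
theorem dec_TE {x : G} (h : x ∈ D.TE) : x ∈ D.U ∨ ∃ u ∈ D.U, x = u * F.e :=
  (mem_sup_inv F.ee D.eU h).imp id fun h => ⟨_, h, by rw [mul_assoc, F.ee, mul_one]⟩
omit [Finite G] in
theorem TE_nU : D.TE ≤ normalizer (D.U : Set G) := sup_le le_normalizer (zpowers_le.2 D.eU)
omit [Finite G] in
theorem max_TE {Y : Subgroup G} (hY : IsPGroup 2 Y) (hn : Y ≤ normalizer (F.E : Set G))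
    (h : D.TE ≤ Y) : Y ≤ D.TE := fun y hy => by
  rcases D.syl Y hY hn (D.U_TE.trans h) (h D.e_TE) y hy with h1 | h1
  · exact D.U_TE h1
  · exact (mul_mem_cancel_right D.e_TE).1 (D.U_TE h1)
omit [Finite G] in
include D in
theorem nE_t {k : G} (hk : k ∈ normalizer (F.E : Set G)) {x : G} (hx : x ∈ F.E)
    (hj : IsConj F.t x) : ∃ b ∈ F.B, k⁻¹ * x * k = F.t * b := by
  obtain ⟨b, hb, e | e⟩ := F.mem_E.1 (norm_cj hk hx)
  · exact absurd (hj.trans (Fr.icj k e)) (D.nB b hb)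
  · exact ⟨b, hb, e⟩
end UD

namespace Cu
variable {D : T8 F} (C : Cu D)
open Fr

omit [Finite G] in
theorem de_nc : ¬ Commute F.d F.e := F.not_de
omit [Finite G] in
theorem memU {x : G} (hx : x ∈ D.TE) (h : Commute F.d x) : x ∈ D.U := by
  rcases D.dec_TE hx with h1 | ⟨u, hu, rfl⟩
  · exact h1
  · have := (D.cB u hu _ (F.V_B F.d_V)).inv_right.mul_right h
    rw [inv_mul_cancel_left] at this
    exact absurd this F.not_de
omit [Finite G] in
theorem TE_W {x b : G} (hx : x ∈ D.TE) (hb : b ∈ F.B) (h : Commute b F.e) : Commute b x := by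
  rcases D.dec_TE hx with h1 | ⟨u, hu, rfl⟩
  exacts [D.cB x h1 b hb, (D.cB u hu b hb).mul_right h]
omit [Finite G] in
theorem cj_tb (D : T8 F) {b : G} (hb : b ∈ F.B) : IsConj F.t (F.t * b) := by
  obtain ⟨u, -, e⟩ := D.tr b hb
  exact icj u e
omit [Finite G] in
theorem cj_te (D : T8 F) : IsConj F.t (F.t * F.e) := (cj_tb D (F.V_B F.z_V)).trans F.cj_te
omit [Finite G] in
theorem tete : F.t * F.e * (F.t * F.e) = 1 := by rw [← F.w_one]; hl_w

omit [Finite G] in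
theorem pow_t {n : G} (hU : n ∈ normalizer (D.U : Set G)) (hz : Commute F.z n) {a : G}
    (ha : a ∈ C.A) (e : n⁻¹ * F.t * n = F.t * a) (h : a * a = F.z) (j : ℕ) :
    ∃ a' ∈ C.A, (n ^ j)⁻¹ * F.t * n ^ j = F.t * a' ∧ a' * a' = F.z ^ j := by
  induction j with
  | zero => exact ⟨1, one_mem _, by simp, by simp⟩
  | succ j ih =>
    obtain ⟨a', ha', e1, e2⟩ := ih
    refine ⟨a * (n⁻¹ * a' * n), mul_mem ha (C.nA hU ha'), ?_, ?_⟩
    · calc _ = n⁻¹ * ((n ^ j)⁻¹ * F.t * n ^ j) * n := by group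
        _ = _ := by rw [e1, cj_mul, e, mul_assoc]
    · rw [C.sqm ha (C.nA hU ha'), h, ← cj_mul, e2, cj_fix (hz.pow_left j), pow_succ']

theorem gam0 {n : G} (hU : n ∈ normalizer (D.U : Set G)) (hT : n ∈ normalizer (D.TE : Set G))
    (hs : Commute F.s n) (hz : Commute F.z n) (hte : Commute (F.t * F.e) n) {a : G}
    (ha : a ∈ C.A) (e : n⁻¹ * F.t * n = F.t * a) (h : a * a = F.z) : False := by
  obtain ⟨j, k, ⟨i, rfl⟩, hk⟩ := exists_odd_pow n
  obtain ⟨a', ha', e1, e2⟩ := C.pow_t hU hz ha e h (2 * i + 1)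
  rw [pow_succ, pow_mul, pow_two, F.zz, one_pow, one_mul] at e2
  set n' := n ^ (2 * i + 1)
  have tE := D.U_TE (D.EU F.t_E)
  have teE := mul_mem tE D.e_TE
  have zB := F.V_B F.z_V
  let Y0 := D.TE ⊓ centralizer {F.t * F.e}
  have hY0 : n' ∈ normalizer (Y0 : Set G) := norm_of fun x hx =>
    ⟨norm_cj (pow_mem hT _) hx.1, mem_cen1.2 (by
      have := comm_cj (mem_cen1.1 hx.2) n'
      rwa [cj_fix (hte.pow_right _)] at this)⟩
  have hp := p2_sup_zp (D.p2_TE.to_le (inf_le_left : Y0 ≤ _)) hk hY0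
  obtain ⟨X, x1, x2, x3, x4⟩ := F.exists_X8 D.two tete (F.ts.symm.mul_right F.se)
    (F.tz.symm.mul_right F.ze) (fun hB => F.e_notE ((mul_mem_cancel_left F.t_E).1 (F.B_E hB)))
  have cs : ∀ u, (∀ x ∈ Y0, Commute u x) → Commute u n → ∀ y ∈ Y0 ⊔ zpowers n', Commute u y :=
    fun u h1 h2 => comm_sup h1 (by rintro _ ⟨i, rfl⟩; exact (h2.pow_right _).zpow_right _)
  have h32 := (F.lc (cj_te D)).c8 X (Y0 ⊔ zpowers n') x1 x2 x3 hp fun y hy => x4 y
    (cs _ (fun x hx => mem_cen1.1 hx.2) hte y hy) (cs _ (fun x hx => TE_W hx.1 F.s_B F.se) hs y hy)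
    (cs _ (fun x hx => TE_W hx.1 zB F.ze) hz y hy)
  obtain ⟨y2, hy2, g, hg, -, -, e3, e4⟩ := C.exists_g
  have hA : ∀ a ∈ C.A, F.e * a * F.e = a⁻¹ → a ∈ Y0 := fun a ha e => ⟨D.U_TE (C.hU ha), mem_cen1.2 (by
    show F.t * F.e * a = a * (F.t * F.e)
    rw [← mul_assoc, C.at' ha, ← e, mul_assoc, mul_assoc, mul_assoc, mul_assoc, F.ee, mul_one])⟩
  have hB : ∀ b ∈ F.B, Commute F.e b → b ∈ Y0 := fun b hb h => hA b (C.hB hb) (by
    rw [e_fix h]; exact (inv_eq_of_mul_eq_one_right (bb hb)).symm)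
  have c0 := card_two_mul_le (X := ⊥) (Y := Y0 ⊓ F.V)
    (bot_lt_iff_ne_bot.2 fun h => F.z1 (mem_bot.1 (h ▸ ⟨hB _ zB F.ze.symm, F.z_V⟩)))
  have c1 := card_two_mul_le (X := Y0 ⊓ F.V) (Y := Y0 ⊓ F.B) (lt_of_le_not_ge
    (inf_le_inf_left _ F.V_B) fun h => F.s_nV D.two (h ⟨hB _ F.s_B F.se.symm, F.s_B⟩).2)
  have c2 := card_two_mul_le (X := Y0 ⊓ F.B) (Y := Y0 ⊓ C.A) (lt_of_le_not_ge
    (inf_le_inf_left _ C.hB) fun h => F.z1 (e3.symm.trans (bb (h ⟨hA g hg e4, hg⟩).2)))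
  have c3 := card_two_mul_le (X := Y0 ⊓ C.A) (Y := Y0 ⊓ D.U) (lt_of_le_not_ge
    (inf_le_inf_left _ C.hU) fun h => C.tA (h ⟨⟨tE, mem_cen1.2
      ((Commute.refl _).mul_left F.te.symm)⟩, D.EU F.t_E⟩).2)
  have c4 := card_two_mul_le (X := Y0 ⊓ D.U) (Y := Y0) (lt_of_le_not_ge inf_le_left fun h => by
    have := D.cB _ (h ⟨teE, mem_cen1.2 (Commute.refl _)⟩).2 _ (F.V_B F.d_V)
    have h2 := F.td.symm.inv_right.mul_right this
    rw [inv_mul_cancel_left] at h2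
    exact F.not_de h2)
  have c5 := card_two_mul_le (X := Y0) (Y := Y0 ⊔ zpowers n') (lt_of_le_not_ge le_sup_left fun h => by
    obtain ⟨b, hb, e5⟩ := D.nE_t (D.TE_nE (h (mem_sup_right (mem_zpowers n'))).1) F.t_E (IsConj.refl _)
    rw [e1, mul_right_inj] at e5
    exact F.z1 (e2.symm.trans (by rw [e5]; exact bb hb)))
  rw [card_bot] at c0
  omega

/-- (γ) -/
theorem gam {n : G} (hU : n ∈ normalizer (D.U : Set G)) (hT : n ∈ normalizer (D.TE : Set G))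
    (hs : Commute F.s n) (hz : Commute F.z n) {a : G}
    (ha : a ∈ C.A) (e : n⁻¹ * F.t * n = F.t * a) (h : a * a = F.z) : False := by
  have tE := D.U_TE (D.EU F.t_E)
  have hx := norm_cj hT (mul_mem tE D.e_TE)
  have hxx := sq_cj (tete (F := F)) n
  have hj : IsConj F.t (n⁻¹ * (F.t * F.e) * n) := (cj_te D).trans (icj n rfl)
  have ea : ∀ a, a * F.e = F.e * (F.e * a * F.e) := fun a => by
    rw [← mul_assoc, ← mul_assoc, F.ee, one_mul]
  have inv_of : ∀ a, F.e * a * (F.e * a) = 1 → F.e * a * F.e = a⁻¹ := fun a h =>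
    eq_inv_of_mul_eq_one_left (by rw [← h]; group)
  rcases D.dec_TE hx with h1 | ⟨u, hu, e1⟩
  · have h2 := norm_cj (inv_mem hU) h1
    have h3 := D.cB _ h2 _ (F.V_B F.d_V)
    have h4 := F.td.symm.inv_right.mul_right h3
    exact F.not_de (by simpa [mul_assoc] using h4)
  rcases C.decU hu with h1 | ⟨a0, h1, rfl⟩
  · rw [ea u] at e1
    rw [e1] at hxx hj
    exact (C.inv_e (C.eA h1) (inv_of _ hxx)).2 hj
  rw [mul_assoc F.t a0, ea a0, ← mul_assoc F.t] at e1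
  have h2 := C.eA h1
  generalize F.e * a0 * F.e = a2 at e1 h2
  have h3 : F.e * a2 * F.e = a2 := by
    rw [e1] at hxx
    have : F.t * F.e * a2 * (F.t * F.e * a2) = F.e * a2⁻¹ * F.e * a2 := by
      nth_rewrite 1 [F.te.eq]
      rw [← C.hi a2 h2]; group
    rw [this] at hxx
    have h4 := eq_inv_of_mul_eq_one_left hxx
    rw [← inv_inj, mul_inv_rev, mul_inv_rev, F.e_inv, ← mul_assoc, h4]
  have e2 : n⁻¹ * F.e * n = F.e * (F.e * a⁻¹ * F.e * a2) := by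
    calc _ = (n⁻¹ * F.t * n) * (n⁻¹ * (F.t * F.e) * n) := by
          rw [← cj_mul, ← mul_assoc F.t, F.tt, one_mul]
      _ = (F.t * a * F.t) * F.e * a2 := by rw [e, e1]; group
      _ = _ := by rw [C.hi a ha, ea]; group
  have h5 := (C.inv_e (mul_mem (C.eA (inv_mem ha)) h2) (inv_of _ (by
    rw [← e2]; exact sq_cj F.ee n))).1
  rw [C.sqm (C.eA (inv_mem ha)) h2, ← e_mul, ← mul_inv_rev, h, inv_eq_of_mul_eq_one_right F.zz,
    e_fix F.ze.symm] at h5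
  obtain ⟨a', ha', e3⟩ := C.norm_e h2 (e_comm h3) (by
    rcases h5 with h5 | h5
    · right; rw [← F.zz] at h5; exact mul_left_cancel h5
    · left; exact mul_eq_left.1 h5)
  have aU := C.hU (inv_mem ha')
  refine C.gam0 (n := n * a'⁻¹) (mul_mem hU (le_normalizer aU)) (mul_mem hT (le_normalizer (D.U_TE aU)))
    (hs.mul_right (D.cB _ aU _ F.s_B)) (hz.mul_right (D.cB _ aU _ (F.V_B F.z_V))) (comm_of_fix ?_)
    (mul_mem ha (mul_mem (inv_mem ha') (inv_mem ha'))) ?_ ?_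
  · calc _ = a' * (n⁻¹ * (F.t * F.e) * n) * a'⁻¹ := by group
      _ = a' * (F.t * (F.e * (F.e * a' * F.e))) := by rw [e1, ← e3]; group
      _ = _ := by rw [← ea, ← mul_assoc, C.at' ha', ← mul_assoc]; group
  · calc _ = a'⁻¹⁻¹ * (n⁻¹ * F.t * n) * a'⁻¹ := by group
      _ = _ := by rw [e, C.cj_ta ha (inv_mem ha')]
  · rw [C.sqm ha (mul_mem (inv_mem ha') (inv_mem ha')), h, bb (C.hs _ (inv_mem ha')), mul_one]

end Cu
end CL.HL
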