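import Cfsg.Agent.INV.HL.T8fb
import Cfsg.Agent.FGS.Homog2

/-! S3139: the case `A ≅ 4³`, part (δ). -/

set_option autoImplicit false
open Subgroup

namespace CL.HL
variable {G : Type*} [Group G] [Finite G] {F : Fr G}

/-- A 2-group normalising an elementary abelian group of order 8 induces at most 8 automorphisms. -/
theorem card_le_cent {B P : Subgroup G} (hel : ∀ b ∈ B, b * b = 1) (h8 : Nat.card B = 8)
    (hP : IsPGroup 2 P) (hn : P ≤ normalizer (B : Set G)) :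
    Nat.card P ≤ 8 * Nat.card ↥(P ⊓ centralizer (B : Set G)) := by
  obtain ⟨n, h1, ⟨e⟩⟩ := CL.Homog.exists_autGL (p := 2) (V := B)
    (fun x y => Subtype.ext (comm_of_el hel x.2 y.2).eq)
    (fun x => Subtype.ext (by simpa [pow_two] using hel x x.2))
  obtain rfl : n = 3 := Nat.pow_right_injective le_rfl (h1.symm.trans h8)
  have hc : Nat.card (MulAut B) = 168 := by
    rw [Nat.card_congr e.toEquiv, Matrix.card_GL_field]; simp [Fin.prod_univ_three]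
  let φ : P →* MulAut B := B.normalizerMonoidHom.comp (inclusion hn)
  obtain ⟨k, hk⟩ := (hP.of_surjective φ.rangeRestrict φ.rangeRestrict_surjective).exists_card_eq
  have hd := card_subgroup_dvd_card φ.range
  rw [hc, hk] at hd
  have hk3 : k ≤ 3 := by
    by_contra h
    exact absurd ((pow_dvd_pow 2 (show 4 ≤ k by omega)).trans hd) (by norm_num)
  have h2 : Nat.card φ.ker ≤ Nat.card ↥(P ⊓ centralizer (B : Set G)) := by
    refine Nat.card_le_card_of_injective (fun x => ⟨x.1.1, x.1.2, fun b hb => ?_⟩) ?_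
    · have := congrArg Subtype.val (DFunLike.congr_fun (MonoidHom.mem_ker.1 x.2) ⟨b, hb⟩)
      have h3 : x.1.1 * b * x.1.1⁻¹ = b := this
      calc b * x.1.1 = x.1.1 * b * x.1.1⁻¹ * x.1.1 := by rw [h3]
        _ = _ := by group
    · intro x y h; exact Subtype.ext (Subtype.ext (Subtype.mk.inj h))
  have h3 := φ.ker.card_mul_index
  rw [index_ker, hk] at h3
  have : 2 ^ k ≤ 2 ^ 3 := Nat.pow_le_pow_right (by norm_num) hk3
  nlinarith

/-- If `P` contains its normaliser in every larger 2-group, it is a Sylow subgroup. -/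
theorem not_dvd_of_max {P : Subgroup G} (hP : IsPGroup 2 P) {k : ℕ} (hk : Nat.card P < 2 ^ k)
    (h : ∀ S : Subgroup G, IsPGroup 2 S → P ≤ S → ∀ x ∈ S, x ∈ normalizer (P : Set G) → x ∈ P) :
    ¬ 2 ^ k ∣ Nat.card G := by
  obtain ⟨S, hS⟩ := hP.exists_le_sylow
  have hT : P = S := by
    by_contra hne
    obtain ⟨n, hn, hnT, hN⟩ := exists_norm S.isPGroup' (lt_of_le_of_ne hS hne)
    exact hnT (h S S.isPGroup' hS n hn hN)
  intro hd
  have h1 : 2 ^ k ∣ Nat.card S := by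
    rw [S.card_eq_multiplicity]
    exact pow_dvd_pow 2 ((Nat.prime_two.pow_dvd_iff_le_factorization Nat.card_pos.ne').1 hd)
  have h2 : Nat.card S = Nat.card P := by rw [hT]
  have := Nat.le_of_dvd Nat.card_pos h1
  omega

namespace Cu
variable {D : T8 F} (C : Cu D)
open Fr

omit [Finite G] in
theorem cls {a a' : G} (ha : a ∈ C.A) (ha' : a' ∈ C.A) (h : a * a = a' * a') :
    IsConj (F.t * a') (F.t * a) := by
  obtain ⟨b, hb, rfl⟩ := C.sq_eq ha ha' h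
  obtain ⟨a2, h2, rfl⟩ := C.hs' b hb
  exact icj a2 (C.cj_ta ha' h2)

omit [Finite G] in
theorem cjsq {h a : G} (hc : ∀ b ∈ F.B, Commute b h) (ha : a ∈ C.A) :
    h⁻¹ * a * h * (h⁻¹ * a * h) = a * a := by rw [← cj_mul, cj_fix (hc _ (C.hs a ha))]

include C in
theorem exists_h {Y : Subgroup G} (hY : IsPGroup 2 Y) (hlt : D.U < Y)
    (hc : ∀ y ∈ Y, ∀ b ∈ F.B, Commute b y) : ∃ h ∈ normalizer (D.U : Set G),
      h ∈ normalizer (D.TE : Set G) ∧ (∀ b ∈ F.B, Commute b h) ∧ ∃ a ∈ C.A,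
        h⁻¹ * F.t * h = F.t * a ∧ (a * a = F.s ∨ a * a = F.s * F.z) := by
  obtain ⟨y0, hy, hyU, hyN⟩ := exists_norm hY hlt
  obtain ⟨P, hP, hTP, hPN, hcj⟩ := exists_syl D.p2_TE D.TE_nU
  obtain ⟨k, hk, hkP⟩ := hcj (D.U ⊔ zpowers y0) (hY.to_le (sup_le hlt.le (zpowers_le.2 hy)))
    (sup_le le_normalizer (zpowers_le.2 hyN))
  let R0 := P ⊓ centralizer (F.B : Set G)
  have mR : ∀ x, x ∈ R0 ↔ x ∈ P ∧ ∀ b ∈ F.B, Commute b x := fun x => Iff.rfl
  have cN : ∀ k ∈ normalizer (D.U : Set G), ∀ y, (∀ b ∈ F.B, Commute b y) →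
      ∀ b ∈ F.B, Commute b (k⁻¹ * y * k) := fun k hk y hy b hb => by
    simpa [mul_assoc] using comm_cj (hy _ (C.nB (inv_mem hk) hb)) k
  have y1 : k⁻¹ * y0 * k ∈ R0 :=
    (mR _).2 ⟨hkP (cj_cjs k (mem_sup_right (mem_zpowers _))), cN k hk _ (hc y0 hy)⟩
  have eR : F.e ∈ normalizer (R0 : Set G) := norm_of fun x hx =>
    (mR _).2 ⟨mul_mem (mul_mem (inv_mem (hTP D.e_TE)) hx.1) (hTP D.e_TE), cN _ D.eU _ ((mR x).1 hx).2⟩
  have hle : R0 ⊔ zpowers F.e ≤ P := sup_le inf_le_left (zpowers_le.2 (hTP D.e_TE))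
  have dB := F.V_B F.d_V
  obtain ⟨n0, hn, hnT, hnN⟩ := exists_norm (P := D.TE) (hP.to_le hle) (lt_of_le_not_ge
    (sup_le_sup_right (fun u hu => (mR u).2 ⟨hTP (D.U_TE hu), D.cB u hu⟩) _) fun h => by
      have := norm_cj (inv_mem hk) (memU (h (mem_sup_left y1)) (((mR _).1 y1).2 _ dB))
      exact hyU (by simpa [mul_assoc] using this))
  obtain ⟨h, hR, hT, hN⟩ : ∃ h ∈ R0, h ∉ D.TE ∧ h ∈ normalizer (D.TE : Set G) := by
    rcases mem_sup_inv F.ee eR hn with h | h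
    · exact ⟨_, h, hnT, hnN⟩
    · exact ⟨_, h, fun h' => hnT ((mul_mem_cancel_right D.e_TE).1 h'),
        mul_mem hnN (le_normalizer D.e_TE)⟩
  have hU := hPN hR.1
  have hB := ((mR h).1 hR).2
  obtain ⟨a, ha, e⟩ := C.ntA hU (one_mem _)
  rw [mul_one] at e
  refine ⟨h, hU, hN, hB, a, ha, e, ?_⟩
  obtain ⟨b, hb, e1⟩ := D.nE_t (D.TE_nE (norm_cj (inv_mem hN) D.e_TE)) F.t_E (IsConj.refl _)
  have e2 : F.e * a * F.e = a * b := by
    apply mul_left_cancel (a := F.t)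
    calc _ = F.e⁻¹ * (F.t * a) * F.e := by rw [cj_mul, cj_fix F.te, F.e_inv]
      _ = h⁻¹ * ((h⁻¹⁻¹ * F.e * h⁻¹)⁻¹ * F.t * (h⁻¹⁻¹ * F.e * h⁻¹)) * h := by rw [← e]; group
      _ = _ := by rw [e1, cj_mul, e, cj_fix (hB b hb), mul_assoc]
  rcases F.fix_e (C.hs a ha) (e_comm (by
    rw [e_mul, e2, C.sqm ha (C.hB hb), bb hb, mul_one])) with e3 | e3 | e3 | e3
  · exfalso
    have aB := C.invB ha e3
    have hE : h ∈ normalizer (F.E : Set G) := norm_of fun x hx => by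
      obtain ⟨v, hv, rfl | rfl⟩ := F.mem_E.1 hx
      · rw [cj_fix (hB _ hv)]; exact hx
      · rw [cj_mul, e, cj_fix (hB _ hv)]; exact mul_mem (mul_mem F.t_E (F.B_E aB)) (F.B_E hv)
    exact hT (D.max_TE (hP.to_le (sup_le hTP (zpowers_le.2 hR.1)))
      (sup_le D.TE_nE (zpowers_le.2 hE)) le_sup_left (mem_sup_right (mem_zpowers h)))
  · exact (C.gam hU hN (hB _ F.s_B) (hB _ (F.V_B F.z_V)) ha e e3).elim
  · exact Or.inl e3
  · exact Or.inr e3

theorem exists_n (hj : IsConj F.t (F.t * C.y)) : ∃ n ∈ normalizer (D.U : Set G),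
    n ∈ normalizer (D.TE : Set G) ∧ ∃ a ∈ C.A, n * F.t * n⁻¹ = F.t * a ∧ a * a = F.z := by
  set u := F.t * C.y with hu
  have uu : u * u = 1 := C.ta_sq C.hy
  have uB : ∀ b ∈ F.B, Commute b u := fun b hb =>
    (F.comm_E (F.B_E hb) F.t_E).mul_right (C.ab (C.hB hb) C.hy)
  let X := F.B ⊔ zpowers u
  have uX : u ∈ X := mem_sup_right (mem_zpowers u)
  have dec : ∀ x ∈ X, x ∈ F.B ∨ ∃ b ∈ F.B, x = b * u := fun x hx =>
    (mem_sup_inv uu (norm_of_comm uB) hx).imp id fun h => ⟨_, h, by rw [mul_assoc, uu, mul_one]⟩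
  have el : ∀ x ∈ X, x * x = 1 := fun x hx => by
    rcases dec x hx with h | ⟨b, h, rfl⟩
    · exact bb h
    · rw [mul_assoc, ← mul_assoc u, ← (uB b h).eq, mul_assoc, uu, mul_one, bb h]
  have hX := card_two_mul_le (X := F.B) (Y := X) (lt_of_le_not_ge le_sup_left fun h =>
    C.tA ((mul_mem_cancel_right C.hy).1 (C.hB (h uX))))
  obtain ⟨g0, e0⟩ := isConj_iff.1 hj
  have el' : ∀ x ∈ cjs X g0, x * x = 1 :=
    cjs_ind (p := fun x => x * x = 1) fun x hx => sq_cj (el x hx) g0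
  obtain ⟨k1, hk1, e1⟩ := F.conjE' (cjs X g0) el'
    (fun x hx => comm_of_el el' (mem_cjs.2 (e0 ▸ uX)) hx) (by rwa [card_cjs])
  have e2 : cjs X (g0 * k1) = F.E := by rw [← e1]; ext x; simp [mem_cjs, mul_assoc]
  have e3 : (g0 * k1)⁻¹ * u * (g0 * k1) = F.t := by
    rw [← e0]
    calc _ = k1⁻¹ * F.t * k1 := by group
      _ = _ := cj_fix hk1
  generalize g0 * k1 = g at e2 e3
  have hgB : ∀ b ∈ F.B, g⁻¹ * b * g ∈ F.B := fun b hb => by
    have h1 : g⁻¹ * (u * b) * g ∈ F.E := e2 ▸ cj_cjs g (mul_mem uX (mem_sup_left hb))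
    have h2 : IsConj F.t (g⁻¹ * (u * b) * g) := (hj.trans (by
      rw [hu, mul_assoc]
      exact C.cls (mul_mem C.hy (C.hB hb)) C.hy (by
        rw [C.sqm C.hy (C.hB hb), bb hb, mul_one]))).trans (icj g rfl)
    obtain ⟨b', hb', e | e⟩ := F.mem_E.1 h1
    · exact absurd (e ▸ h2) (D.nB b' hb')
    · rw [cj_mul, e3, mul_right_inj] at e; rwa [e]
  have nX : ∀ n ∈ normalizer (D.U : Set G), n⁻¹ * u * n ∈ X → n ∈ normalizer (X : Set G) :=
    fun n hn h => norm_of fun x hx => by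
      rcases dec x hx with h1 | ⟨b, h1, rfl⟩
      · exact mem_sup_left (C.nB hn h1)
      · rw [cj_mul]; exact mul_mem (mem_sup_left (C.nB hn h1)) h
  have AX : ∀ a ∈ C.A, a ∈ normalizer (X : Set G) := fun a ha => nX a (le_normalizer (C.hU ha)) (by
    rw [hu, C.cj_ta C.hy ha, ← mul_assoc]; exact mul_mem uX (mem_sup_left (C.hs a ha)))
  have tX : F.t ∈ normalizer (X : Set G) := nX _ (le_normalizer (D.EU F.t_E)) (by
    have : F.t⁻¹ * u * F.t = u * (C.y⁻¹ * C.y⁻¹) := by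
      rw [hu, inv_mul_cancel_left, C.at' C.hy]; group
    rw [this]; exact mul_mem uX (mem_sup_left (C.hs _ (inv_mem C.hy))))
  have TX : D.TE ≤ normalizer (X : Set G) := sup_le (fun x hx => by
    rcases C.decU hx with h | ⟨a, h, rfl⟩
    exacts [AX x h, mul_mem tX (AX a h)])
    (zpowers_le.2 (nX _ D.eU (by rw [cj_fix (F.te.mul_left C.ey.symm)]; exact uX)))
  obtain ⟨S, hS, hTS, hSN, hcj⟩ := exists_syl D.p2_TE D.TE_nE
  obtain ⟨k, hk, hkS⟩ := hcj _ (p2_cjs D.p2_TE g) (cjs_ind fun x hx => e2 ▸ norm_cjs (TX hx) g)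
  have hkB : ∀ b ∈ F.B, k⁻¹ * b * k ∈ F.B := fun b hb => by
    obtain ⟨b1, h1, e4⟩ := D.nE_t hk F.t_E (IsConj.refl _)
    obtain ⟨b2, h2, e5⟩ := D.nE_t hk (mul_mem F.t_E (F.B_E hb)) (cj_tb D hb)
    rw [cj_mul, e4, mul_assoc, mul_right_inj] at e5
    exact (mul_mem_cancel_left h1).1 (e5 ▸ h2)
  have nB : g * k ∈ normalizer (F.B : Set G) := norm_of fun b hb => by
    simpa [mul_assoc] using hkB _ (hgB b hb)
  have nT : g * k ∈ normalizer (D.TE : Set G) := norm_of fun x hx => by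
    simpa [mul_assoc] using D.max_TE hS hSN hTS (hkS (cj_cjs k (cj_cjs g hx)))
  refine ⟨g * k, norm_of fun x hx => memU (norm_cj nT (D.U_TE hx)) ?_, nT, ?_⟩
  · have := comm_cj (D.cB x hx _ (norm_cj (inv_mem nB) (F.V_B F.d_V))) (g * k)
    simpa [mul_assoc] using this
  · obtain ⟨b1, h1, e4⟩ := D.nE_t hk F.t_E (IsConj.refl _)
    have h2 := norm_cj (inv_mem nB) h1
    refine ⟨C.y * ((g * k)⁻¹⁻¹ * b1 * (g * k)⁻¹), mul_mem C.hy (C.hB h2), ?_, ?_⟩
    · calc _ = g * k * (F.t * b1) * (g * k)⁻¹ * ((g * k)⁻¹⁻¹ * b1 * (g * k)⁻¹) := by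
            calc _ = g * k * (F.t * (b1 * b1)) * (g * k)⁻¹ := by rw [bb h1, mul_one]
              _ = _ := by group
        _ = _ := by rw [← e4, ← mul_assoc F.t, ← hu]; congr 1; rw [← e3]; group
    · rw [C.sqm C.hy (C.hB h2), bb h2, mul_one, C.yy]

end Cu
end CL.HL
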