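import Cfsg.Agent.INV.HL.T8fb

/-! S3139: commutator calculus in `U` (type `T8`). -/

set_option autoImplicit false
open Subgroup

namespace CL.HL
variable {G : Type*} [Group G] {F : Fr G}

/-- `⁅u, v⁆ = u⁻¹ v⁻¹ u v`. -/
def cm (u v : G) : G := u⁻¹ * v⁻¹ * u * v
theorem cm_cj (g u v : G) : g⁻¹ * cm u v * g = cm (g⁻¹ * u * g) (g⁻¹ * v * g) := by
  simp only [cm]; group
theorem cm_eq_one {u v : G} : cm u v = 1 ↔ Commute u v := by
  constructor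
  · intro h
    show u * v = v * u
    calc _ = v * u * cm u v := by simp only [cm]; group
      _ = _ := by rw [h, mul_one]
  · intro h; rw [cm, mul_assoc, mul_assoc, h.eq]; group
theorem cj_eq_cm (u v : G) : v⁻¹ * u * v = u * cm u v := by simp only [cm]; group
theorem cm_of_cj {u v b : G} (h : v⁻¹ * u * v = u * b) : cm u v = b := by
  rw [cj_eq_cm] at h; exact mul_left_cancel h

namespace T8
variable (D : T8 F)
open Fr Cu

theorem sqB {u : G} (hu : u ∈ D.U) : u * u ∈ F.B := by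
  obtain ⟨b, hb, e⟩ := D.nE_t (D.UN hu) F.t_E (IsConj.refl _)
  have h1 : Commute F.t (u * u) := comm_of_fix (by
    calc _ = u⁻¹ * (u⁻¹ * F.t * u) * u := by group
      _ = _ := by rw [e, cj_mul, e, cj_fix (D.cB u hu b hb), mul_assoc, bb hb, mul_one])
  obtain ⟨b', hb', e' | e'⟩ := F.mem_E.1 (D.cU _ (mul_mem hu hu) h1)
  · rwa [e']
  · exfalso
    have h2 : Commute (F.t * b') u := e' ▸ (Commute.refl u).mul_left (Commute.refl u)
    have h3 := h2.mul_left (D.cB u hu b' hb')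
    rw [mul_assoc, bb hb', mul_one] at h3
    rw [F.el_E (D.cU u hu h3), eq_comm, mul_eq_one_iff_eq_inv] at e'
    exact F.t_nB (e' ▸ inv_mem hb')
theorem cmB {u v : G} (hu : u ∈ D.U) (hv : v ∈ D.U) : cm u v ∈ F.B := by
  have : cm u v = (u * u)⁻¹ * (u * v⁻¹ * (u * v⁻¹)) * (v * v) := by simp only [cm]; group
  rw [this]
  exact mul_mem (mul_mem (inv_mem (D.sqB hu)) (D.sqB (mul_mem hu (inv_mem hv)))) (D.sqB hv)
theorem cm_r {u v w : G} (hu : u ∈ D.U) (hv : v ∈ D.U) (hw : w ∈ D.U) :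
    cm u (v * w) = cm u v * cm u w := by
  calc _ = cm u w * (w⁻¹ * cm u v * w) := by simp only [cm]; group
    _ = _ := by rw [cj_fix (D.cB w hw _ (D.cmB hu hv)),
      (F.comm_E (F.B_E (D.cmB hu hw)) (F.B_E (D.cmB hu hv))).eq]
theorem cm_symm {u v : G} (hu : u ∈ D.U) (hv : v ∈ D.U) : cm v u = cm u v := by
  calc _ = (cm u v)⁻¹ := by simp only [cm]; group
    _ = _ := inv_eq_of_mul_eq_one_right (bb (D.cmB hu hv))
theorem cm_l {u v w : G} (hu : u ∈ D.U) (hv : v ∈ D.U) (hw : w ∈ D.U) :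
    cm (v * w) u = cm v u * cm w u := by
  rw [D.cm_symm hu (mul_mem hv hw), D.cm_r hu hv hw, D.cm_symm hu hv, D.cm_symm hu hw]
theorem cm_b {u b : G} (hu : u ∈ D.U) (hb : b ∈ F.B) : cm u b = 1 := cm_eq_one.2 (D.cB u hu b hb).symm
theorem BU {b : G} (hb : b ∈ F.B) : b ∈ D.U := D.EU (F.B_E hb)
theorem tU : F.t ∈ D.U := D.EU F.t_E
theorem sq_mul {u v : G} (hu : u ∈ D.U) (hv : v ∈ D.U) :
    u * v * (u * v) = u * u * (v * v) * cm u v := by
  calc _ = u * u * v * cm v u * v := by simp only [cm]; group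
    _ = _ := by rw [mul_assoc _ _ v, (D.cB v hv _ (D.cmB hv hu)).eq, D.cm_symm hu hv]; group
theorem cm_inv {u v : G} (hu : u ∈ D.U) (hv : v ∈ D.U) : cm u v⁻¹ = cm u v := by
  have := D.cm_r hu hv (inv_mem hv)
  rw [mul_inv_cancel, cm_eq_one.2 (Commute.one_right u), ← bb (D.cmB hu hv)] at this
  exact (mul_left_cancel this).symm
theorem memE_of {u v : G} (hu : u ∈ D.U) (hv : v ∈ D.U) (h : cm F.t u = cm F.t v) :
    ∃ x ∈ F.E, v = u * x :=
  ⟨u⁻¹ * v, D.cU _ (mul_mem (inv_mem hu) hv) (cm_eq_one.1 (by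
    rw [D.cm_r D.tU (inv_mem hu) hv, D.cm_inv D.tU hu, h, bb (D.cmB D.tU hv)])), by group⟩

/-- conjugation by `ρ` -/
def r (_ : T8 F) (u : G) : G := F.ρ⁻¹ * u * F.ρ
theorem r_mul (u v : G) : D.r (u * v) = D.r u * D.r v := cj_mul _ _ _
theorem r_cm (u v : G) : D.r (cm u v) = cm (D.r u) (D.r v) := cm_cj _ _ _
theorem rU {u : G} (hu : u ∈ D.U) : D.r u ∈ D.U := norm_cj D.ρU hu
theorem rB {u : G} (hu : u ∈ F.B) : D.r u ∈ F.B := F.ρ_nB hu
theorem rE {u : G} (hu : u ∈ F.E) : D.r u ∈ F.E := norm_cj F.ρ_nE hu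
theorem r_t : D.r F.t = F.t := cj_fix F.tρ
theorem r_s : D.r F.s = F.s := cj_fix F.sρ
theorem r_z : D.r F.z = F.d := F.zρ'
theorem r_d : D.r F.d = F.d * F.z := F.dρ'
theorem r_one : D.r 1 = 1 := by simp [r]
theorem eU' {u : G} (hu : u ∈ D.U) : F.e * u * F.e ∈ D.U := by simpa [F.e_inv] using norm_cj D.eU hu
theorem e_cm (u v : G) : F.e * cm u v * F.e = cm (F.e * u * F.e) (F.e * v * F.e) := by
  have := cm_cj F.e u v
  rwa [F.e_inv] at this

variable [Finite G]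
theorem r3 {u : G} (hu : u ∈ D.U) : D.r (D.r (D.r u)) = u := by
  have := F.odd_cent D.p2 D.EU D.cU F.rr.cube (pow_mem D.ρU 3) u hu
  calc _ = (F.ρ ^ 3)⁻¹ * u * F.ρ ^ 3 := by
        simp only [r, pow_succ, pow_zero, one_mul, mul_inv_rev, mul_assoc]
    _ = _ := cj_fix this.symm
theorem er {u : G} (hu : u ∈ D.U) : F.e * D.r u * F.e = D.r (D.r (F.e * u * F.e)) := by
  have := F.odd_cent D.p2 D.EU D.cU F.rr.sq (pow_mem (mul_mem D.eU D.ρU) 2) _ (D.eU' hu)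
  have h1 : D.r (F.e * D.r u * F.e) = F.e * u * F.e := by
    conv_rhs => rw [← cj_fix this.symm]
    have h2 : F.e⁻¹ * (F.e * u * F.e) * F.e = u := by rw [F.e_inv, e_e]
    calc _ = F.ρ⁻¹ * (F.e⁻¹ * (F.ρ⁻¹ * (F.e⁻¹ * (F.e * u * F.e) * F.e) * F.ρ) * F.e) * F.ρ := by
          rw [h2, F.e_inv]; rfl
      _ = _ := by simp only [pow_succ]; group
  rw [← h1, D.r3 (D.eU' (D.rU hu))]

theorem exists_y : ∃ y1 ∈ D.U, cm F.t y1 = F.z ∧ y1 * D.r y1 * D.r (D.r y1) ∈ F.B ∧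
    ∃ b ∈ F.B, F.e * y1 * F.e = y1 * b := by
  obtain ⟨w, hw, e⟩ := D.tr _ (F.V_B F.z_V)
  have e1 := cm_of_cj e
  have h1 := D.rU hw
  have h2 := D.rU h1
  have c1 : cm F.t (D.r w) = F.d := by rw [← D.r_t, ← D.r_cm, e1, D.r_z]
  have c2 : cm F.t (D.r (D.r w)) = F.d * F.z := by rw [← D.r_t, ← D.r_cm, c1, D.r_d]
  refine ⟨D.r w * D.r (D.r w), mul_mem h1 h2, ?_, ?_, ?_⟩
  · rw [D.cm_r D.tU h1 h2, c1, c2, ← mul_assoc, F.dd, one_mul]
  · simp only [r_mul, D.r3 hw]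
    have h3 := mul_mem (D.sqB h2) (D.sqB hw)
    have : D.r w * D.r (D.r w) * (D.r (D.r w) * w) * (w * D.r w) =
        D.r w * ((D.r (D.r w) * D.r (D.r w) * (w * w)) * D.r w) := by group
    rw [this, (D.cB _ h1 _ h3).eq, ← mul_assoc]
    exact mul_mem (D.sqB h1) h3
  · obtain ⟨x, hx, e2⟩ := D.memE_of hw (D.eU' hw) (by
      conv_rhs => rw [← e_fix F.te.symm, ← e_cm, e1, e_fix F.ze.symm]
      exact e1)
    have e3 : F.e * D.r (D.r w) * F.e = D.r (w * x) := by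
      rw [D.er h1, D.er hw, D.r3 (D.rU (D.eU' hw)), e2]
    have x1 := D.rE hx
    have x2 := D.rE x1
    have hxx : D.r (D.r x) * D.r x ∈ F.B := by
      obtain ⟨b, hb, rfl | rfl⟩ := F.mem_E.1 hx
      · exact mul_mem (D.rB (D.rB hb)) (D.rB hb)
      · simp only [r_mul, r_t]
        rw [mul_assoc, ← mul_assoc _ F.t, (F.comm_E (F.B_E (D.rB (D.rB hb))) F.t_E).eq, mul_assoc,
          ← mul_assoc, F.tt, one_mul]
        exact mul_mem (D.rB (D.rB hb)) (D.rB hb)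
    refine ⟨cm (D.r (D.r w)) (D.r w) * (cm (D.r (D.r x)) (D.r w) * (D.r (D.r x) * D.r x)),
      mul_mem (D.cmB h2 h1) (mul_mem (D.cmB (D.EU x2) h1) hxx), ?_⟩
    rw [e_mul, e3, D.er hw, e2, ← mul_assoc (cm _ _) (D.r (D.r x)),
      (D.cB _ (D.EU x2) _ (D.cmB (D.EU x2) h1)).eq]
    simp only [r_mul, cm]; group

omit [Finite G] in
theorem prod3 {k : G} (hk : k ∈ F.B) (he : Commute F.e k) (h : k * D.r k * D.r (D.r k) = 1) :
    k = 1 ∨ k = F.z := by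
  have h2 := D.two
  rcases F.fix_e hk he with rfl | rfl | rfl | rfl
  · exact Or.inl rfl
  · exact Or.inr rfl
  · rw [D.r_s, D.r_s, F.ss, one_mul] at h; exact absurd h h2
  · simp only [r_mul, r_s, r_z, r_d] at h
    exact absurd (h.symm.trans (by hl_w2 h2)).symm h2

theorem m_e {m : G} (hm : m ∈ D.U) (h1 : cm F.t m = F.s) (h2 : D.r m = m) :
    (m * m = 1 ∨ m * m = F.s) ∧ (F.e * m * F.e = m ∨ F.e * m * F.e = m * F.s) := by
  have q := F.fix_ρ F.rr (D.sqB hm) (comm_of_fix (g := F.ρ) (show D.r _ = _ by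
    rw [D.r_mul, h2])).symm
  refine ⟨q, ?_⟩
  obtain ⟨x, hx, e2⟩ := D.memE_of hm (D.eU' hm) (by
    conv_rhs => rw [← e_fix F.te.symm, ← e_cm, h1, e_fix F.se.symm]
    exact h1)
  have e3 : D.r (F.e * m * F.e) = F.e * m * F.e := by
    conv_lhs => rw [← h2, D.er hm, D.r3 (D.eU' hm)]
  rw [e2, D.r_mul, h2, mul_right_inj] at e3
  obtain ⟨b, hb, rfl | rfl⟩ := F.mem_E.1 hx
  · rcases F.fix_ρ F.rr hb (comm_of_fix e3).symm with rfl | rfl
    · left; rw [e2, mul_one]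
    · right; exact e2
  · exfalso
    have e4 : m * m = m * (F.t * b) * (m * (F.t * b)) := by
      rw [← e2, ← e_mul, e_fix]
      rcases q with q | q <;> rw [q]
      exacts [Commute.one_right _, F.se.symm]
    rw [D.sq_mul hm (D.EU hx), F.el_E hx, mul_one, D.cm_r hm D.tU (D.BU hb), D.cm_b hm hb, mul_one,
      D.cm_symm D.tU hm, h1] at e4
    exact D.two (mul_eq_left.1 e4.symm)

theorem exists_m {y1 : G} (hy : y1 ∈ D.U) (h1 : cm F.t y1 = F.z)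
    (h2 : y1 * D.r y1 * D.r (D.r y1) ∈ F.B) {b : G} (hb : b ∈ F.B) (h3 : F.e * y1 * F.e = y1 * b) :
    ∃ m ∈ D.U, cm F.t m = F.s ∧ D.r m = m ∧ cm m y1 = 1 := by
  obtain ⟨m, hm, e1, e2⟩ : ∃ m ∈ D.U, cm F.t m = F.s ∧ D.r m = m := by
    obtain ⟨m0, hm, e⟩ := D.tr _ F.s_B
    have e1 := cm_of_cj e
    obtain ⟨x, hx, e2⟩ := D.memE_of hm (D.rU hm) (by rw [← D.r_t, ← D.r_cm, D.r_t, e1, D.r_s])
    have e3 := D.r3 hm
    rw [e2, D.r_mul, e2, D.r_mul, D.r_mul, e2, mul_assoc, mul_assoc, mul_eq_left] at e3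
    refine ⟨m0 * D.r x, mul_mem hm (D.EU (D.rE hx)), ?_, ?_⟩
    · rw [D.cm_r D.tU hm (D.EU (D.rE hx)), e1, cm_eq_one.2 (F.comm_E F.t_E (D.rE hx)), mul_one]
    · rw [D.r_mul, e2, mul_assoc, mul_right_inj]
      rw [← mul_assoc, (F.comm_E hx (D.rE hx)).eq, mul_assoc, ← F.el_E (D.rE hx)] at e3
      exact mul_left_cancel e3
  have hk : F.e * cm m y1 * F.e = cm m y1 := by
    rw [e_cm, h3, D.cm_r (D.eU' hm) hy (D.BU hb), D.cm_b (D.eU' hm) hb, mul_one]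
    rcases (D.m_e hm e1 e2).2 with h | h <;> rw [h]
    rw [D.cm_l hy hm (D.BU F.s_B), D.cm_symm hy (D.BU F.s_B), D.cm_b hy F.s_B, mul_one]
  rcases D.prod3 (D.cmB hm hy) (e_comm hk) (by
    simp only [r_cm, e2]
    rw [← D.cm_r hm hy (D.rU hy), ← D.cm_r hm (mul_mem hy (D.rU hy)) (D.rU (D.rU hy)),
      D.cm_b hm h2]) with h | h
  · exact ⟨m, hm, e1, e2, h⟩
  · refine ⟨m * F.t, mul_mem hm D.tU, ?_, ?_, ?_⟩
    · rw [D.cm_r D.tU hm D.tU, e1, cm_eq_one.2 (Commute.refl _), mul_one]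
    · rw [D.r_mul, e2, D.r_t]
    · rw [D.cm_l hy hm D.tU, h, h1, F.zz]

end T8
end CL.HL
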